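import Groth.Agent.L28.Pair.One
import Groth.Agent.L27.SmoothLA.BaseChange
import Groth.Agent.S0157

/-!
Purity pulls back along smooth morphisms to affine space.
-/

set_option autoImplicit false
set_option linter.style.haveILetI false
set_option linter.unusedSectionVars false
set_option backward.isDefEq.respectTransparency.types false

universe u

open CategoryTheory CategoryTheory.Limits AlgebraicGeometry

noncomputable section

namespace Groth.L28.Pair

/-- The universal purity statement in codimension `c`. -/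
def Univ (c : ℕ) : Prop :=
  ∀ (S : Scheme.{u}) (n : ℕ), IsUnit (n : Γ(S, ⊤)) → ∀ L : EtCoh.Ab S, EtCoh.KilledBy n L →
    (∀ q, 0 < q → q ≠ 2 * c - 1 → IsZero ((EtCoh.Rpush (Punct c S).ι q).obj (restrP S c L))) ∧
      Nonempty ((EtCoh.Rpush (Punct c S).ι (2 * c - 1)).obj (restrP S c L) ≅
        (EtCoh.push (zeroSec c S)).obj ((twPow S c).obj L))

theorem univ_one : Univ.{u} 1 := fun S n hn L hL => by
  obtain ⟨h, ⟨e⟩⟩ := universal_one hn hL
  exact ⟨fun q hq hq' => h q (by omega),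
    ⟨e ≪≫ (EtCoh.push (zeroSec 1 S)).mapIso (eqToIso rfl : (twF S).obj L ≅ (twPow S 1).obj L)⟩⟩

variable {c : ℕ} {S X V : Scheme.{u}} (g : X ⟶ Asp c S) [Smooth g] (j : V ⟶ X) (t : V ⟶ (Punct c S : Scheme.{u}))
  (sq : IsPullback t j (Punct c S).ι g) {n : ℕ} (hn : IsUnit (n : Γ(S, ⊤))) {L : EtCoh.Ab S} (hL : EtCoh.KilledBy n L)
  {F : EtCoh.Ab X} (eF : F ≅ (EtCoh.pull g).obj ((EtCoh.pull (aspπ c S)).obj L))

include sq in
theorem baseChange_punct {M : EtCoh.Ab (Punct c S : Scheme.{u})} (hn : IsUnit (n : Γ(S, ⊤))) (hM : EtCoh.KilledBy n M) (q : ℕ) :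
    Nonempty ((EtCoh.pull g).obj ((EtCoh.Rpush (Punct c S).ι q).obj M) ≅ (EtCoh.Rpush j q).obj ((EtCoh.pull t).obj M)) ∧
      IsIso (EtCoh.baseChange0 (Punct c S).ι g j t sq.w M) :=
  L27.SmoothLA.baseChange_of_ubc (Punct c S).ι g j t sq (L27.SmoothLA.ubc_smooth g) M
    (isTorsionInvertibleOn_of_killedBy (isUnit_natCast_of_hom (aspπ c S) hn) hM) q

include sq hn hL eF in
theorem isIso_unit_bc (hc : 0 < c) : IsIso ((EtCoh.pullPushAdj j).unit.app F) := by
  let M := (EtCoh.pull (aspπ c S)).obj L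
  haveI : IsIso ((EtCoh.pullPushAdj (Punct c S).ι).unit.app M) := isIso_unit_punct_open hn hL c hc
  haveI := (baseChange_punct g j t sq hn (killedBy_pull (Punct c S).ι (killedBy_pull (aspπ c S) hL)) 0).2
  haveI : IsIso ((EtCoh.pullPushAdj j).unit.app ((EtCoh.pull g).obj M) ≫
      (EtCoh.push j).map ((AcycCrit.kap (Punct c S).ι g j t sq.w).hom.app M)) :=
    (congrArg (fun m => IsIso m) (AcycCrit.unit_square (Punct c S).ι g j t sq.w M)).mp inferInstance
  haveI : IsIso ((EtCoh.pullPushAdj j).unit.app ((EtCoh.pull g).obj M)) :=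
    IsIso.of_isIso_comp_right _ ((EtCoh.push j).map ((AcycCrit.kap (Punct c S).ι g j t sq.w).hom.app M))
  exact isIso_unit_of_iso j eF.symm

include sq hn hL eF in
theorem nonempty_rpush_bc (q : ℕ) :
    Nonempty ((EtCoh.pull g).obj ((EtCoh.Rpush (Punct c S).ι q).obj (restrP S c L)) ≅
      (EtCoh.Rpush j q).obj ((EtCoh.pull j).obj F)) := by
  obtain ⟨e⟩ := (baseChange_punct g j t sq hn (killedBy_pull (Punct c S).ι (killedBy_pull (aspπ c S) hL)) q).1
  exact ⟨e ≪≫ (EtCoh.Rpush j q).mapIso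
    (((AcycCrit.kap (Punct c S).ι g j t sq.w).app ((EtCoh.pull (aspπ c S)).obj L)).symm ≪≫
      (EtCoh.pull j).mapIso eF.symm)⟩

variable {Y : Scheme.{u}} (i : Y ⟶ X) (h : Y ⟶ S) (sqY : IsPullback i h g (zeroSec c S))

include sq hn hL eF sqY in
/-- Purity for a smooth morphism to affine space. -/
theorem pair_bc (hU : Univ.{u} c) :
    (∀ q, 0 < q → q ≠ 2 * c - 1 → IsZero ((EtCoh.Rpush j q).obj ((EtCoh.pull j).obj F))) ∧
      Nonempty ((EtCoh.Rpush j (2 * c - 1)).obj ((EtCoh.pull j).obj F) ≅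
        (EtCoh.push i).obj ((EtCoh.pull h).obj ((twPow S c).obj L))) := by
  obtain ⟨hz, ⟨e⟩⟩ := hU S n hn L hL
  haveI : (EtCoh.pull g).Additive := (EtCoh.pullPushAdj g).left_adjoint_additive
  refine ⟨fun q hq hq' => ?_, ?_⟩
  · obtain ⟨e'⟩ := nonempty_rpush_bc g j t sq hn hL eF q
    exact ((EtCoh.pull g).map_isZero (hz q hq hq')).of_iso e'.symm
  · obtain ⟨e'⟩ := nonempty_rpush_bc g j t sq hn hL eF (2 * c - 1)
    haveI : IsProper (zeroSec c S) := inferInstance
    haveI := Groth.Agent.S0157.result (zeroSec c S) i h g sqY.flip ((twPow S c).obj L)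
    exact ⟨e'.symm ≪≫ (EtCoh.pull g).mapIso e ≪≫
      asIso (EtCoh.baseChange0 (zeroSec c S) g i h sqY.flip.w ((twPow S c).obj L))⟩

end Groth.L28.Pair
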