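import Groth.Agent.L28.Pair.Comp
import Groth.Agent.L10.ExactAdj.EtClosed
import Groth.Agent.L27.ExtZero.Restr
import Groth.Agent.L27.StalkBC.BCStep
import Groth.Agent.L27.SmoothLA.BaseChange
import Groth.Agent.L28.AcycCrit.Square

/-!
Sheaves supported on the complement of an open subscheme.
-/

set_option autoImplicit false
set_option linter.style.haveILetI false
set_option linter.unusedSectionVars false
set_option backward.isDefEq.respectTransparency.types false

universe u

open CategoryTheory CategoryTheory.Limits AlgebraicGeometry Opposite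

noncomputable section

namespace Groth.L28.Pair

variable {X U : Scheme.{u}} (j : U ⟶ X) [IsOpenImmersion j]

theorem isIso_counit : IsIso (EtCoh.pullPushAdj j).counit := (L27.ExtZero.isIso_counit_of_mono j).1

/-- The restriction of the unit to the open subscheme is invertible. -/
theorem isIso_pull_unit (M : EtCoh.Ab X) : IsIso ((EtCoh.pull j).map ((EtCoh.pullPushAdj j).unit.app M)) := by
  haveI := isIso_counit j
  haveI : IsIso ((EtCoh.pull j).map ((EtCoh.pullPushAdj j).unit.app M) ≫
      (EtCoh.pullPushAdj j).counit.app ((EtCoh.pull j).obj M)) :=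
    (congrArg (fun m => IsIso m) ((EtCoh.pullPushAdj j).left_triangle_components M)).mpr (IsIso.id _)
  exact IsIso.of_isIso_comp_right _ ((EtCoh.pullPushAdj j).counit.app ((EtCoh.pull j).obj M))

/-- Direct images satisfy the unit condition. -/
theorem isIso_unit_push (A : EtCoh.Ab U) : IsIso ((EtCoh.pullPushAdj j).unit.app ((EtCoh.push j).obj A)) := by
  haveI := isIso_counit j
  haveI : IsIso ((EtCoh.pullPushAdj j).unit.app ((EtCoh.push j).obj A) ≫
      (EtCoh.push j).map ((EtCoh.pullPushAdj j).counit.app A)) :=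
    (congrArg (fun m => IsIso m) ((EtCoh.pullPushAdj j).right_triangle_components A)).mpr (IsIso.id _)
  exact IsIso.of_isIso_comp_right _ ((EtCoh.push j).map ((EtCoh.pullPushAdj j).counit.app A))

/-- A morphism between sheaves determined by their restrictions is invertible when its restriction is. -/
theorem isIso_of_isIso_pull {M N : EtCoh.Ab X} (φ : M ⟶ N) [IsIso ((EtCoh.pullPushAdj j).unit.app M)]
    [IsIso ((EtCoh.pullPushAdj j).unit.app N)] [IsIso ((EtCoh.pull j).map φ)] : IsIso φ := by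
  have h : φ ≫ (EtCoh.pullPushAdj j).unit.app N =
      (EtCoh.pullPushAdj j).unit.app M ≫ (EtCoh.push j).map ((EtCoh.pull j).map φ) :=
    (EtCoh.pullPushAdj j).unit.naturality φ
  haveI : IsIso (φ ≫ (EtCoh.pullPushAdj j).unit.app N) := by rw [h]; infer_instance
  exact IsIso.of_isIso_comp_right φ ((EtCoh.pullPushAdj j).unit.app N)

/-- A sheaf supported off the open maps trivially to a direct image. -/
theorem eq_zero_of_isZero_pull {K : EtCoh.Ab X} {A : EtCoh.Ab U} (κ : K ⟶ (EtCoh.push j).obj A)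
    (h : IsZero ((EtCoh.pull j).obj K)) : κ = 0 :=
  ((EtCoh.pullPushAdj j).homEquiv K A).symm.injective (h.eq_of_src _ _)

/-- The unit condition passes to isomorphic sheaves. -/
theorem isIso_unit_of_iso {Z W : Scheme.{u}} (f : W ⟶ Z) {M N : EtCoh.Ab Z} (e : M ≅ N)
    [IsIso ((EtCoh.pullPushAdj f).unit.app M)] : IsIso ((EtCoh.pullPushAdj f).unit.app N) := by
  have h := (EtCoh.pullPushAdj f).unit.naturality e.inv
  haveI : IsIso ((EtCoh.pullPushAdj f).unit.app N ≫ (EtCoh.push f).map ((EtCoh.pull f).map e.inv)) :=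
    (congrArg (fun m => IsIso m) h).mp
      (inferInstanceAs (IsIso (e.inv ≫ (EtCoh.pullPushAdj f).unit.app M)))
  exact IsIso.of_isIso_comp_right _ ((EtCoh.push f).map ((EtCoh.pull f).map e.inv))

/-- Higher direct images along an open immersion vanish on the open. -/
theorem isZero_pull_rpush (F : EtCoh.Ab U) (q : ℕ) (hq : 0 < q) :
    IsZero ((EtCoh.pull j).obj ((EtCoh.Rpush j q).obj F)) := by
  have sq : IsPullback (𝟙 U) (𝟙 U) j j :=
    IsKernelPair.id_of_mono j
  haveI := L27.EtSite.preservesFiniteLimits_pull (𝟙 U)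
  haveI := L10.EtLocalBC.isIso_bcQ_of_etale j j (𝟙 U) (𝟙 U) sq q F
  exact (Agent.S3054.result (𝟙 U) ((EtCoh.pull (𝟙 U)).obj F) q hq).of_iso
    (asIso (EtBC.bcQ j j (𝟙 U) (𝟙 U) sq.w q F))

variable {Y : Scheme.{u}} (i : Y ⟶ X) [IsClosedImmersion i] (hU : Set.range j = (Set.range i)ᶜ)

include hU in
/-- Sheaves supported on the closed subscheme come from it. -/
theorem nonempty_iso_push_pull (G : EtCoh.Ab X) (h : IsZero ((EtCoh.pull j).obj G)) :
    Nonempty (G ≅ (EtCoh.push i).obj ((EtCoh.pull i).obj G)) := by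
  haveI := L27.ExtZero.jCont j
  haveI := L10.ExactAdj.isIso_unit_of_isZero j i hU G h
  exact ⟨asIso ((EtCoh.pullPushAdj i).unit.app G)⟩

include hU in
theorem isZero_pull_push_closed (B : EtCoh.Ab Y) : IsZero ((EtCoh.pull j).obj ((EtCoh.push i).obj B)) := by
  haveI := L27.ExtZero.jCont j
  exact L27.InjPush.isZero_pull_push j i hU B

include hU in
/-- The higher direct images of an open immersion come from the closed complement. -/
theorem nonempty_rpush_iso_push (F : EtCoh.Ab U) (q : ℕ) (hq : 0 < q) :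
    Nonempty ((EtCoh.Rpush j q).obj F ≅ (EtCoh.push i).obj ((EtCoh.pull i).obj ((EtCoh.Rpush j q).obj F))) :=
  nonempty_iso_push_pull j i hU _ (isZero_pull_rpush j F q hq)

/-- Closed direct images have no higher part. -/
theorem isZero_rpush_push_closed {S : Scheme.{u}} (a : X ⟶ S) (h : Y ⟶ S) [IsIntegralHom h] (w : i ≫ a = h)
    (B : EtCoh.Ab Y) (p : ℕ) (hp : 0 < p) : IsZero ((EtCoh.Rpush a p).obj ((EtCoh.push i).obj B)) := by
  obtain ⟨e⟩ := nonempty_rpush_comp_integral_left i a B p
  subst w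
  exact (Agent.S3054.result (i ≫ a) B p hp).of_iso e.symm

end Groth.L28.Pair

namespace Groth.L28.Pair

open L27.StalkBC (nsmul_id_eq_zero killedBy_of_nsmul)

variable {X Y : Scheme.{u}} {n : ℕ}

theorem killedBy_functor (T : EtCoh.Ab X ⥤ EtCoh.Ab Y) [T.Additive] {F : EtCoh.Ab X} (h : EtCoh.KilledBy n F) :
    EtCoh.KilledBy n (T.obj F) :=
  killedBy_of_nsmul (by rw [← T.map_id, ← Functor.map_nsmul, nsmul_id_eq_zero h, T.map_zero])

theorem killedBy_pull (f : X ⟶ Y) {F : EtCoh.Ab Y} (h : EtCoh.KilledBy n F) :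
    EtCoh.KilledBy n ((EtCoh.pull f).obj F) :=
  haveI : (EtCoh.pull f).Additive := (EtCoh.pullPushAdj f).left_adjoint_additive
  killedBy_functor _ h

theorem killedBy_push (f : Y ⟶ X) {F : EtCoh.Ab Y} (h : EtCoh.KilledBy n F) :
    EtCoh.KilledBy n ((EtCoh.push f).obj F) :=
  killedBy_functor _ h

theorem killedBy_rpush (f : Y ⟶ X) (q : ℕ) {F : EtCoh.Ab Y} (h : EtCoh.KilledBy n F) :
    EtCoh.KilledBy n ((EtCoh.Rpush f q).obj F) :=
  killedBy_functor _ h

theorem isUnit_natCast_of_hom (f : X ⟶ Y) (hn : IsUnit (n : Γ(Y, ⊤))) : IsUnit (n : Γ(X, ⊤)) := by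
  have := hn.map f.appTop.hom
  rwa [map_natCast] at this

theorem isTorsionInvertibleOn_of_killedBy (hn : IsUnit (n : Γ(Y, ⊤))) {T : Scheme.{u}} {F : EtCoh.Ab T}
    (h : EtCoh.KilledBy n F) : EtPBC.IsTorsionInvertibleOn Y F := fun U s x =>
  ⟨U, 𝟙 U, n, ⟨x, rfl⟩, hn, h U _⟩

end Groth.L28.Pair
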