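import Groth.Agent.L28.Pair.TwoRow
import Groth.Agent.L28.Edge.In
import Groth.Agent.L27.EtSite.Pull
import Groth.Agent.S3054
import Groth.Prelude.Def_EtBC2

/-!
Higher direct images of composites in degenerate situations.
-/

set_option autoImplicit false
set_option linter.style.haveILetI false
set_option linter.unusedSectionVars false
set_option backward.isDefEq.respectTransparency.types false

universe u

open CategoryTheory CategoryTheory.Limits AlgebraicGeometry Opposite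

noncomputable section

namespace Groth.L28.Pair

open Groth.L17.AcyclicHomology

variable {X Y Z : Scheme.{u}} (f : X ⟶ Y) (g : Y ⟶ Z)

/-- Direct images of injectives are acyclic. -/
theorem acyclic_push_injective (I : EtCoh.Ab X) (hI : Injective I) :
    Acyclic (EtCoh.push g) ((EtCoh.push f).obj I) := fun q => by
  haveI := L27.EtSite.preservesFiniteLimits_pull f
  haveI : Injective ((EtCoh.push f).obj I) := (EtCoh.push f).injective_obj I
  exact (EtCoh.push g).isZero_rightDerived_obj_injective_succ q _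

/-- Degeneration when all the direct images are acyclic. -/
theorem nonempty_rpush_comp_of_acyclic (F : EtCoh.Ab X)
    (h : ∀ q p : ℕ, 0 < p → IsZero ((EtCoh.Rpush g p).obj ((EtCoh.Rpush f q).obj F))) (n : ℕ) :
    Nonempty ((EtCoh.Rpush (f ≫ g) n).obj F ≅ (EtCoh.push g).obj ((EtCoh.Rpush f n).obj F)) :=
  ⟨((RDer.rightDerivedIso (EtCoh.pushComp g f) n).app F).symm ≪≫
    compIso (EtCoh.push g) (EtCoh.push f) (acyclic_push_injective f g) F (fun q p => h q (p + 1) p.succ_pos) n⟩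

/-- An integral morphism on the right. -/
theorem nonempty_rpush_comp_integral [IsIntegralHom g] (F : EtCoh.Ab X) (n : ℕ) :
    Nonempty ((EtCoh.Rpush (f ≫ g) n).obj F ≅ (EtCoh.push g).obj ((EtCoh.Rpush f n).obj F)) :=
  nonempty_rpush_comp_of_acyclic f g F (fun _ p hp => Agent.S3054.result g _ p hp) n

/-- An acyclic morphism on the left. -/
theorem nonempty_rpush_comp_left (F : EtCoh.Ab X) (h : ∀ q : ℕ, 0 < q → IsZero ((EtCoh.Rpush f q).obj F)) (n : ℕ) :
    Nonempty ((EtCoh.Rpush (f ≫ g) n).obj F ≅ (EtCoh.Rpush g n).obj ((EtCoh.push f).obj F)) := by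
  haveI := L27.EtSite.preservesFiniteLimits_pull f
  haveI : IsIso (RDer.edgeIn (EtCoh.push f) (EtCoh.push g) n F) := Edge.isIso_edgeIn _ _ n F h
  exact ⟨((RDer.rightDerivedIso (EtCoh.pushComp g f) n).app F).symm ≪≫
    (asIso (RDer.edgeIn (EtCoh.push f) (EtCoh.push g) n F)).symm⟩

/-- An integral morphism on the left. -/
theorem nonempty_rpush_comp_integral_left [IsIntegralHom f] (F : EtCoh.Ab X) (n : ℕ) :
    Nonempty ((EtCoh.Rpush (f ≫ g) n).obj F ≅ (EtCoh.Rpush g n).obj ((EtCoh.push f).obj F)) :=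
  nonempty_rpush_comp_left f g F (fun q hq => Agent.S3054.result f F q hq) n

/-- A composite with two rows, whose total direct images vanish above degree one. -/
theorem two_row_rpush (F : EtCoh.Ab X) (h₂ : ∀ n, 2 ≤ n → IsZero ((EtCoh.Rpush f n).obj F))
    (hT₂ : ∀ n, 2 ≤ n → IsZero ((EtCoh.Rpush (f ≫ g) n).obj F)) :
    (∀ p, 1 ≤ p → Nonempty ((EtCoh.Rpush g p).obj ((EtCoh.Rpush f 1).obj F) ≅
      (EtCoh.Rpush g (p + 2)).obj ((EtCoh.push f).obj F))) ∧
    ∃ (a : (EtCoh.Rpush g 1).obj ((EtCoh.push f).obj F) ⟶ (EtCoh.Rpush (f ≫ g) 1).obj F)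
      (φ : (EtCoh.Rpush (f ≫ g) 1).obj F ⟶ (EtCoh.push g).obj ((EtCoh.Rpush f 1).obj F))
      (c : (EtCoh.push g).obj ((EtCoh.Rpush f 1).obj F) ⟶ (EtCoh.Rpush g 2).obj ((EtCoh.push f).obj F))
      (w₁ : a ≫ φ = 0) (w₂ : φ ≫ c = 0),
      Mono a ∧ Epi c ∧ (ShortComplex.mk a φ w₁).Exact ∧ (ShortComplex.mk φ c w₂).Exact := by
  let I := injectiveResolution F
  let K := cxA (EtCoh.push f) F
  let iK : ∀ q, (EtCoh.Rpush f q).obj F ≅ K.homology q := fun q => I.isoRightDerivedObj (EtCoh.push f) q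
  let i₀ : K.homology 0 ≅ (EtCoh.push f).obj F := (iK 0).symm ≪≫ (EtCoh.push f).rightDerivedZeroIsoSelf.app F
  let iT : ∀ q, (EtCoh.Rpush (f ≫ g) q).obj F ≅
      ((((EtCoh.push g).mapHomologicalComplex _).obj K).homology q) := fun q =>
    ((RDer.rightDerivedIso (EtCoh.pushComp g f) q).app F).symm ≪≫
      I.isoRightDerivedObj (EtCoh.push f ⋙ EtCoh.push g) q
  obtain ⟨hp, a, φ, c, w₁, w₂, ha, hc, e₁, e₂⟩ := two_row (EtCoh.push g) K
    (acyclic_cxA (EtCoh.push g) (EtCoh.push f) (acyclic_push_injective f g) F)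
    (fun n hn => (h₂ n hn).of_iso (iK n).symm) (fun n hn => (hT₂ n hn).of_iso (iT n).symm)
  refine ⟨fun p h1 => ?_, ?_⟩
  · obtain ⟨e⟩ := hp p h1
    exact ⟨(EtCoh.Rpush g p).mapIso (iK 1) ≪≫ e ≪≫ (EtCoh.Rpush g (p + 2)).mapIso i₀⟩
  let jA := (EtCoh.Rpush g 1).mapIso i₀
  let jH := (iT 1).symm
  let jB := (EtCoh.push g).mapIso (iK 1).symm
  let jC := (EtCoh.Rpush g 2).mapIso i₀
  refine ⟨jA.inv ≫ a ≫ jH.hom, jH.inv ≫ φ ≫ jB.hom, jB.inv ≫ c ≫ jC.hom, by simp [reassoc_of% w₁],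
    by simp [reassoc_of% w₂], inferInstance, inferInstance, ?_, ?_⟩
  · exact (ShortComplex.exact_iff_of_iso (ShortComplex.isoMk jA jH jB (by simp) (by simp))).1 e₁
  · exact (ShortComplex.exact_iff_of_iso (ShortComplex.isoMk jH jB jC (by simp) (by simp))).1 e₂

end Groth.L28.Pair
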