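import Groth.Agent.L28.Pair.GmStrict
import Groth.Agent.L28.GmH1.Punctured
import Groth.Agent.L28.Misc.MuConst
import Groth.Agent.L27.AffineEfface.SepPoint
import Mathlib.RingTheory.MvPolynomial.Basic
import Mathlib.Algebra.MvPolynomial.Nilpotent
import Mathlib.RingTheory.Polynomial.UniqueFactorization

/-!
The Kummer group of the punctured line over a separably closed field.
-/

set_option autoImplicit false
set_option linter.style.haveILetI false
set_option linter.unusedSectionVars false
set_option backward.isDefEq.respectTransparency.types false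

universe u

open CategoryTheory CategoryTheory.Limits AlgebraicGeometry Opposite IsLocalRing
open Groth.L28.GmH1 (kum kum_surjective kum_eq_zero_iff exists_unit_mul_zpow natDvd_of_pow_eq exists_nth_root)

noncomputable section

namespace Groth.L28.Pair

set_option synthInstance.maxHeartbeats 400000 in
set_option maxHeartbeats 1000000 in
/-- The Kummer group of the complement of a prime in a factorial domain with divisible units. -/
theorem nonempty_kummer_equiv (A : Type u) [CommRing A] [IsDomain A] [UniqueFactorizationMonoid A] (x : A)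
    (hp : Prime x) (n : ℕ) (hn : IsUnit (n : A)) (hroot : ∀ v : Aˣ, ∃ w : Aˣ, w ^ n = v) :
    Nonempty (EtCoh.H (Spec (CommRingCat.of (Localization.Away x)))
      (EtCoh.mu (Spec (CommRingCat.of (Localization.Away x))) n) 1 ≃+ ZMod n) := by
  let R := Localization.Away x
  haveI : IsDomain R := IsLocalization.Away.isDomain R hp.ne_zero
  haveI : UniqueFactorizationMonoid R := inferInstanceAs (UniqueFactorizationMonoid (Localization (Submonoid.powers x)))
  let X := Spec (CommRingCat.of R)
  let e : R ≃+* Γ(X, ⊤) := (Scheme.ΓSpecIso (CommRingCat.of R)).symm.commRingCatIsoToRingEquiv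
  haveI : IsDomain Γ(X, ⊤) := e.symm.toMulEquiv.isDomain
  haveI : UniqueFactorizationMonoid Γ(X, ⊤) := e.toMulEquiv.uniqueFactorizationMonoid ‹_›
  haveI : IsGCDMonoid Γ(X, ⊤) := ⟨UniqueFactorizationMonoid.toGCDMonoid _⟩
  haveI : Subsingleton (CommRing.Pic Γ(X, ⊤)) := inferInstance
  have hepi : Epi (EtCoh.powMap X n) := Groth.L28.GmTorsion.epi_powMap (by
    have := hn.map (e.toRingHom.comp (algebraMap A R))
    rwa [map_natCast] at this)
  let ξ : Rˣ := (IsLocalization.Away.algebraMap_isUnit x).unit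
  have hξ : (ξ : R) = algebraMap A R x := rfl
  let E : Rˣ ≃* Γ(X, ⊤)ˣ := Units.mapEquiv e.toMulEquiv
  let φ : ℤ →+ EtCoh.H X (EtCoh.mu X n) 1 := zmultiplesHom _ (kum hepi (Additive.ofMul (E ξ)))
  have hφ : ∀ k : ℤ, φ k = kum hepi (Additive.ofMul (E (ξ ^ k))) := fun k => by
    show k • kum hepi _ = _
    rw [← map_zsmul, map_zpow]
    rfl
  have hsurj : Function.Surjective φ := fun c => by
    obtain ⟨a, rfl⟩ := kum_surjective hepi c
    obtain ⟨r, hr⟩ := E.surjective (Additive.toMul a)
    obtain ⟨v, k, rfl⟩ := exists_unit_mul_zpow hp ξ hξ r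
    obtain ⟨w, rfl⟩ := hroot v
    refine ⟨k, ?_⟩
    rw [hφ, show a = Additive.ofMul (E (Units.map (algebraMap A R : A →* R) (w ^ n))) + Additive.ofMul (E (ξ ^ k)) from
      (congrArg Additive.ofMul hr).symm.trans (by rw [map_mul, ofMul_mul])]
    have h0 : kum hepi (Additive.ofMul (E (Units.map (algebraMap A R : A →* R) (w ^ n)))) = 0 :=
      (kum_eq_zero_iff hepi _).2 ⟨Additive.ofMul (E (Units.map (algebraMap A R : A →* R) w)), by
        rw [map_pow, map_pow]; rfl⟩
    rw [map_add, h0, zero_add]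
  have hker : φ.ker = AddSubgroup.zmultiples (n : ℤ) := by
    ext k
    rw [AddMonoidHom.mem_ker, hφ, kum_eq_zero_iff, Int.mem_zmultiples_iff]
    constructor
    · rintro ⟨b, hb⟩
      obtain ⟨r, hr⟩ := E.surjective (Additive.toMul b)
      refine natDvd_of_pow_eq hp ξ hξ r (E.injective ?_)
      rw [map_pow, hr]
      exact congrArg Additive.toMul hb
    · rintro ⟨j, rfl⟩
      refine ⟨Additive.ofMul (E (ξ ^ j)), ?_⟩
      rw [mul_comm, zpow_mul, zpow_natCast, map_pow]
      rfl
  exact ⟨((QuotientAddGroup.quotientKerEquivOfSurjective φ hsurj).symm.trans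
    (QuotientAddGroup.quotientAddEquivOfEq hker)).trans (Int.quotientZMultiplesNatEquivZMod n)⟩

variable (K : Type u) [Field K] [IsSepClosed K]

/-- The punctured line as a spectrum. -/
theorem exists_punct_iso :
    ∃ θ : Spec (CommRingCat.of (Localization.Away (MvPolynomial.X ⟨0⟩ : MvPolynomial (ULift.{u} (Fin 1)) K))) ⟶
        (Punct 1 (Spec (CommRingCat.of K)) : Scheme.{u}), IsIso θ := by
  let A := MvPolynomial (ULift.{u} (Fin 1)) K
  let x : A := MvPolynomial.X ⟨0⟩
  let e := AffineSpace.SpecIso (ULift.{u} (Fin 1)) (CommRingCat.of K)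
  let ℓ : Spec (CommRingCat.of (Localization.Away x)) ⟶ Spec (CommRingCat.of A) :=
    Spec.map (CommRingCat.ofHom (algebraMap A (Localization.Away x)))
  haveI : IsOpenImmersion ℓ := IsOpenImmersion.of_isLocalization x
  have hr : Set.range (ℓ ≫ e.inv) = Set.range (Punct 1 (Spec (CommRingCat.of K))).ι := by
    rw [Scheme.Opens.range_ι, punct_one _ ⟨0⟩]
    rw [Scheme.Hom.comp_base, TopCat.coe_comp, Set.range_comp]
    show e.inv '' Set.range ℓ = _
    rw [show Set.range ℓ = (PrimeSpectrum.basicOpen x : Set (PrimeSpectrum A)) from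
      PrimeSpectrum.localization_away_comap_range (Localization.Away x) x]
    have h : e.inv ⁻¹ᵁ (Asp 1 (Spec (CommRingCat.of K))).basicOpen (AffineSpace.coord _ ⟨0⟩) =
        PrimeSpectrum.basicOpen x := by
      refine (Scheme.preimage_basicOpen_top e.inv _).trans ?_
      refine (congrArg (Spec (CommRingCat.of A)).basicOpen
        (AffineSpace.SpecIso_inv_appTop_coord (CommRingCat.of K) (⟨0⟩ : ULift.{u} (Fin 1)))).trans ?_
      exact basicOpen_eq_of_affine (R := CommRingCat.of A) x
    rw [← h]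
    refine Set.Subset.antisymm ?_ fun y hy => ?_
    · rintro _ ⟨z, hz, rfl⟩; exact hz
    · obtain ⟨z, rfl⟩ := e.inv.homeomorph.surjective y
      exact ⟨z, hy, rfl⟩
  exact ⟨(IsOpenImmersion.isoOfRangeEq (ℓ ≫ e.inv) (Punct 1 (Spec (CommRingCat.of K))).ι hr).hom, inferInstance⟩

/-- The first cohomology of the punctured line over a separably closed field. -/
theorem nonempty_H1_punct_field {n : ℕ} (hn : (n : K) ≠ 0) :
    Nonempty (EtCoh.H (Punct 1 (Spec (CommRingCat.of K)) : Scheme.{u})
      (EtCoh.const _ (ZMod n)) 1 ≃+ ZMod n) := by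
  let A := MvPolynomial (ULift.{u} (Fin 1)) K
  let x : A := MvPolynomial.X ⟨0⟩
  have hnA : IsUnit (n : A) := by
    have := (isUnit_iff_ne_zero.2 hn).map (MvPolynomial.C : K →+* A)
    rwa [map_natCast] at this
  have hn0 : n ≠ 0 := fun h => hn (by rw [h, Nat.cast_zero])
  have hA : EtCoh.IsStrictlyHenselianLocalRing K :=
    ⟨inferInstance, L27.AffineEfface.isSepClosed_residueField K⟩
  have hroot : ∀ v : Aˣ, ∃ w : Aˣ, w ^ n = v := fun v => by
    obtain ⟨c, hc, hc'⟩ := (MvPolynomial.isUnit_iff_eq_C_of_isReduced (P := (v : A))).1 v.isUnit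
    obtain ⟨w, hw⟩ := exists_nth_root hA (isUnit_iff_ne_zero.2 hn) hc.unit
    refine ⟨Units.map (MvPolynomial.C : K →+* A).toMonoidHom w, Units.ext ?_⟩
    rw [hc', Units.val_pow_eq_pow_val, Units.coe_map, RingHom.toMonoidHom_eq_coe, MonoidHom.coe_coe, ← map_pow]
    exact congrArg MvPolynomial.C (by rw [← Units.val_pow_eq_pow_val, hw]; rfl)
  obtain ⟨e⟩ := nonempty_kummer_equiv A x MvPolynomial.X_prime n hnA hroot
  obtain ⟨θ, hθ⟩ := exists_punct_iso K
  haveI := hθ
  let W := Spec (CommRingCat.of (Localization.Away x))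
  haveI := L27.EtSite.preservesFiniteLimits_pull θ
  obtain ⟨μi⟩ := Misc.nonempty_mu_iso_const_of_strictly_henselian (X := W) hA (Nat.one_le_iff_ne_zero.2 hn0)
    (isUnit_iff_ne_zero.2 hn) (θ ≫ punctπ 1 _)
  let T₁ := AddEquiv.ofBijective (EtCore.Hpull θ (EtCoh.const _ (ZMod n)) 1) (Groth.Agent.S0642.result θ _ 1)
  let c := EtCore.pullConst θ (ZMod n) ≪≫ μi.symm
  exact ⟨T₁.trans ((AddEquiv.ofBijective _
    (ConcreteCategory.bijective_of_isIso ((EtCoh.HF W 1).map c.hom))).trans e)⟩

end Groth.L28.Pair
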