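import Groth.Agent.L28.Pair.Zero
import Groth.Agent.L16.SecComp.Smooth
import Mathlib.RingTheory.TensorProduct.Quotient
import Mathlib.RingTheory.Smooth.Basic
import Mathlib.RingTheory.Flat.Basic
import Mathlib.AlgebraicGeometry.Morphisms.Smooth

/-!
The order of a coordinate along its smooth zero locus.
-/

set_option autoImplicit false
set_option linter.style.haveILetI false
set_option linter.unusedSectionVars false
set_option backward.isDefEq.respectTransparency.types false

universe u

open CategoryTheory CategoryTheory.Limits AlgebraicGeometry TensorProduct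

noncomputable section

namespace Groth.L28.Pair

theorem dvd_of_pow_eq_pow {B : Type u} [CommRing B] (π : B) (hreg : IsSMulRegular B π)
    (hrad : ∀ (a : B) (k : ℕ), π ∣ a ^ k → π ∣ a) (hπ : ¬ IsUnit π) {n : ℕ} (hn : 0 < n) :
    ∀ (N : ℕ) (a : B), a ^ n = π ^ N → n ∣ N := by
  intro N
  induction N using Nat.strong_induction_on with
  | _ N ih =>
    intro a h
    rcases Nat.eq_zero_or_pos N with rfl | hN
    · exact dvd_zero _
    obtain ⟨a', rfl⟩ : π ∣ a := hrad a n (h ▸ dvd_pow_self π hN.ne')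
    rcases Nat.lt_or_ge N n with hlt | hge
    · exfalso
      have e : π ^ N * (π ^ (n - N) * a' ^ n) = π ^ N * 1 := by
        rw [← mul_assoc, ← pow_add, show N + (n - N) = n by omega, mul_one, ← mul_pow, h]
      have e' := (hreg.pow N) e
      exact hπ ((isUnit_pow_iff (by omega : n - N ≠ 0)).1 (IsUnit.of_mul_eq_one _ e'))
    · have e : π ^ n * a' ^ n = π ^ n * π ^ (N - n) := by
        rw [← pow_add, show n + (N - n) = N by omega, ← mul_pow, h]
      obtain ⟨d, hd⟩ := ih (N - n) (by omega) a' ((hreg.pow n) e)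
      exact ⟨d + 1, by rw [Nat.mul_succ, ← hd]; omega⟩

/-- Smooth algebras over a line have reduced special fibres. -/
theorem dvd_of_dvd_pow_smooth {A B : Type u} [CommRing A] [CommRing B] [Algebra A B] [Algebra.Smooth A B] (x : A)
    (hx : (Ideal.span {x}).IsMaximal) (a : B) (k : ℕ) (h : algebraMap A B x ∣ a ^ k) : algebraMap A B x ∣ a := by
  let I := Ideal.span {x}
  haveI : I.IsMaximal := hx
  letI : Field (A ⧸ I) := Ideal.Quotient.field I
  let C := (A ⧸ I) ⊗[A] B
  haveI : Algebra.Smooth (A ⧸ I) C := inferInstance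
  haveI : Smooth (Spec.map (CommRingCat.ofHom (algebraMap (A ⧸ I) C))) := by
    rw [HasRingHomProperty.Spec_iff (P := @Smooth)]
    exact RingHom.smooth_algebraMap.2 inferInstance
  haveI : IsReduced (Spec (CommRingCat.of C)) :=
    L16.SecComp.isReduced_of_smooth (Spec.map (CommRingCat.ofHom (algebraMap (A ⧸ I) C)))
  haveI : _root_.IsReduced C := (affine_isReduced_iff (CommRingCat.of C)).1 inferInstance
  have hI : I.map (algebraMap A B) = Ideal.span {algebraMap A B x} := by
    rw [Ideal.map_span, Set.image_singleton]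
  let e : (B ⧸ I.map (algebraMap A B)) ≃+* C :=
    (Algebra.TensorProduct.quotIdealMapEquivTensorQuot B I).toRingEquiv.trans
      (Algebra.TensorProduct.comm A B (A ⧸ I)).toRingEquiv
  haveI : _root_.IsReduced (B ⧸ I.map (algebraMap A B)) := isReduced_of_injective e.toRingHom e.injective
  have h0 : Ideal.Quotient.mk (I.map (algebraMap A B)) a = 0 := by
    refine (IsReduced.eq_zero _ ⟨k, ?_⟩)
    rw [← map_pow, Ideal.Quotient.eq_zero_iff_mem, hI, Ideal.mem_span_singleton]
    exact h
  rw [Ideal.Quotient.eq_zero_iff_mem, hI, Ideal.mem_span_singleton] at h0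
  exact h0

theorem isMaximal_span_X (K : Type u) [Field K] (σ : Type u) [Unique σ] :
    (Ideal.span {(MvPolynomial.X default : MvPolynomial σ K)}).IsMaximal := by
  have h : RingHom.ker (MvPolynomial.constantCoeff : MvPolynomial σ K →+* K) =
      Ideal.span {(MvPolynomial.X default : MvPolynomial σ K)} := by
    refine le_antisymm (fun p hp => ?_) ?_
    · suffices ∀ p : MvPolynomial σ K, p - MvPolynomial.C (MvPolynomial.constantCoeff p) ∈
          Ideal.span {(MvPolynomial.X default : MvPolynomial σ K)} by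
        have h2 := this p
        rwa [RingHom.mem_ker.1 hp, map_zero, sub_zero] at h2
      intro p
      induction p using MvPolynomial.induction_on with
      | C a => simp
      | add p q hp hq =>
        rw [map_add, map_add, add_sub_add_comm]
        exact Ideal.add_mem _ hp hq
      | mul_X p i hp =>
        rw [map_mul, MvPolynomial.constantCoeff_X, mul_zero, map_zero, sub_zero, Subsingleton.elim i default]
        exact Ideal.mul_mem_left _ _ (Ideal.mem_span_singleton_self _)
    · rw [Ideal.span_le, Set.singleton_subset_iff]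
      exact MvPolynomial.constantCoeff_X (R := K) (default : σ)
  rw [← h]
  exact RingHom.ker_isMaximal_of_surjective _ fun a => ⟨MvPolynomial.C a, MvPolynomial.constantCoeff_C _ a⟩

/-- A power of a coordinate which is an `n`-th power off its zero locus has exponent divisible by `n`. -/
theorem dvd_of_unit_pow_eq {K : Type u} [Field K] {P : Scheme.{u}} (G : P ⟶ Asp 1 (Spec (CommRingCat.of K)))
    [Smooth G] (y : P) (hy : G y ∉ Punct 1 (Spec (CommRingCat.of K))) (W : P.Opens) (hyW : y ∈ W) (n m : ℕ) (hn : 0 < n)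
    (W' : P.Opens) (hW' : W' = W ⊓ G ⁻¹ᵁ Punct 1 (Spec (CommRingCat.of K))) (x : Γ(P, W'))
    (hx : x ^ n = (P.presheaf.map (homOfLE (le_top : W' ≤ ⊤)).op (G.appTop (AffineSpace.coord _ ⟨0⟩))) ^ m) :
    n ∣ m := by
  let X₁ := Asp 1 (Spec (CommRingCat.of K))
  let t : Γ(X₁, ⊤) := AffineSpace.coord _ ⟨0⟩
  let e := AffineSpace.SpecIso (ULift.{u} (Fin 1)) (CommRingCat.of K)
  haveI : IsAffine X₁ := IsAffine.of_isIso e.hom
  haveI : IsIso e.inv.appTop := inferInstanceAs (IsIso (Scheme.Γ.map e.inv.op))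
  let eΓ : Γ(X₁, ⊤) ≃+* MvPolynomial (ULift.{u} (Fin 1)) K :=
    (asIso e.inv.appTop ≪≫ Scheme.ΓSpecIso (CommRingCat.of (MvPolynomial (ULift.{u} (Fin 1)) K))).commRingCatIsoToRingEquiv
  have heΓ : eΓ t = MvPolynomial.X ⟨0⟩ := by
    show (Scheme.ΓSpecIso _).hom (e.inv.appTop (AffineSpace.coord _ ⟨0⟩)) = _
    erw [AffineSpace.SpecIso_inv_appTop_coord]
    exact (Scheme.ΓSpecIso (CommRingCat.of (MvPolynomial (ULift.{u} (Fin 1)) K))).commRingCatIsoToRingEquiv.apply_symm_apply _
  have htmax : (Ideal.span {t}).IsMaximal := by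
    have := Ideal.map_isMaximal_of_equiv eΓ.symm (p := Ideal.span {(MvPolynomial.X ⟨0⟩ : MvPolynomial (ULift.{u} (Fin 1)) K)})
      (hp := isMaximal_span_X K (ULift.{u} (Fin 1)))
    rwa [Ideal.map_span, Set.image_singleton, ← heΓ, eΓ.symm_apply_apply] at this
  obtain ⟨Q, hQ, hyQ, hQW⟩ := exists_isAffineOpen_mem_and_subset hyW
  let φ := G.appLE ⊤ Q le_top
  have hφ : φ.hom.Smooth := G.smooth_appLE (isAffineOpen_top X₁) hQ le_top
  algebraize [φ.hom]
  let π : Γ(P, Q) := φ t
  have hreg : IsSMulRegular Γ(P, Q) π := by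
    have ht : IsSMulRegular Γ(X₁, ⊤) t := by
      haveI : IsDomain Γ(X₁, ⊤) := eΓ.toMulEquiv.isDomain
      refine (isRegular_of_ne_zero fun h0 => ?_).left
      exact MvPolynomial.X_ne_zero (R := K) (⟨0⟩ : ULift.{u} (Fin 1)) (by rw [← heΓ, h0, map_zero])
    haveI : Algebra.Smooth Γ(X₁, ⊤) Γ(P, Q) := inferInstance
    haveI : Module.Flat Γ(X₁, ⊤) Γ(P, Q) := hφ.flat
    intro a b hab
    exact (Module.Flat.isSMulRegular_of_isRegular (isRegular_iff.2 ⟨ht, fun p q h => ht (by simpa [mul_comm] using h)⟩)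
      (M := Γ(P, Q))) (show t • a = t • b by rw [Algebra.smul_def, Algebra.smul_def]; exact hab)
  have hnu : ¬ IsUnit π := fun hu => by
    have : y ∈ P.basicOpen π := by rw [Scheme.basicOpen_of_isUnit _ hu]; exact hyQ
    rw [show P.basicOpen π = _ from Scheme.basicOpen_appLE G Q ⊤ le_top t] at this
    exact hy (by rw [punct_one _ ⟨0⟩]; exact this.2)
  have hT : P.presheaf.map (homOfLE (le_top : Q ≤ ⊤)).op (G.appTop t) = π := by
    show (G.app ⊤ ≫ P.presheaf.map _) t = _
    rfl
  let Wb := P.basicOpen π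
  have hWb : Wb ≤ W' := by
    rw [hW', show Wb = _ from Scheme.basicOpen_appLE G Q ⊤ le_top t, punct_one _ ⟨0⟩]
    exact inf_le_inf_right _ hQW
  haveI : IsLocalization.Away π Γ(P, Wb) := hQ.isLocalization_basicOpen π
  let xb : Γ(P, Wb) := P.presheaf.map (homOfLE hWb).op x
  obtain ⟨k, a, hk⟩ := IsLocalization.Away.surj π xb
  have hmap : ∀ (f : Γ(P, Q)), algebraMap Γ(P, Q) Γ(P, Wb) f = P.presheaf.map (homOfLE (P.basicOpen_le π)).op f :=
    fun f => rfl
  have hb : xb ^ n = (algebraMap Γ(P, Q) Γ(P, Wb) π) ^ m := by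
    rw [← map_pow, hx, map_pow, hmap]
    refine congrArg (· ^ m) ?_
    show (P.presheaf.map _ ≫ P.presheaf.map _) (G.appTop t) = (P.presheaf.map _ ≫ P.presheaf.map _) (G.appTop t)
    rw [← Functor.map_comp, ← Functor.map_comp]
    rfl
  have hinj : Function.Injective (algebraMap Γ(P, Q) Γ(P, Wb)) := by
    intro p q hpq
    obtain ⟨⟨_, l, rfl⟩, hl⟩ := (IsLocalization.eq_iff_exists (Submonoid.powers π) Γ(P, Wb)).1 hpq
    exact (hreg.pow l) hl
  have key : a ^ n = π ^ (m + k * n) := by
    refine hinj ?_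
    rw [map_pow, map_pow, ← hk, mul_pow, hb, ← pow_mul, ← pow_add]
  have := dvd_of_pow_eq_pow π hreg (fun b i hi => dvd_of_dvd_pow_smooth t htmax b i hi) hnu hn _ a key
  rwa [Nat.dvd_add_left (dvd_mul_left n k)] at this

end Groth.L28.Pair
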