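import Groth.Agent.L28.Pair.Eqn
import Groth.Agent.L28.Pair.Ord
import Groth.Agent.L28.Pair.Basic
import Groth.Agent.L28.CdLower.Gysin
import Groth.Agent.L27.EtSite.Pull
import Groth.Agent.L27.EtSite.Common
import Groth.Agent.L28.Spz.Global
import Groth.Agent.L27.MV.SES

/-!
The class of local equations of a smooth divisor.
-/

set_option autoImplicit false
set_option linter.style.haveILetI false
set_option linter.unusedSectionVars false
set_option backward.isDefEq.respectTransparency.types false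

universe u

open CategoryTheory CategoryTheory.Limits AlgebraicGeometry Opposite
open Groth.L27.MV (oE)

noncomputable section

namespace Groth.L28.Pair

theorem range_eq_preimage {A B C D : Scheme.{u}} {f : A ⟶ B} {h : A ⟶ C} {g : B ⟶ D} {k : C ⟶ D}
    (sq : IsPullback f h g k) : Set.range f = g ⁻¹' Set.range k := by
  ext b
  refine ⟨?_, ?_⟩
  · rintro ⟨a, rfl⟩
    exact ⟨h a, by rw [← Scheme.Hom.comp_apply, ← Scheme.Hom.comp_apply, sq.w]⟩
  · rintro ⟨c, hc⟩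
    obtain ⟨a, ha, -⟩ := Scheme.exists_preimage_of_isPullback sq b c hc.symm
    exact ⟨a, ha⟩

theorem killedBy_mu (X : Scheme.{u}) (n : ℕ) : EtCoh.KilledBy n (EtCoh.mu X n) := fun V s =>
  (Misc.ev_nsmul (𝟙 (EtCoh.mu X n)) n V s).symm.trans
    (congrArg (fun m => m.hom.app (op V) s) (CdLower.nsmul_id_mu X n))

variable {S X Y U : Scheme.{u}} (i : Y ⟶ X) (j : U ⟶ X)

/-- A local equation of the closed part. -/
structure EqChart (S : Scheme.{u}) where
  /-- The domain. -/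
  W : X.Opens
  /-- The coordinate. -/
  g : (W : Scheme.{u}) ⟶ Asp 1 S
  hg : Smooth g
  /-- The structure map of the closed part. -/
  hW : (↑(i ⁻¹ᵁ W) : Scheme.{u}) ⟶ S
  sq : IsPullback (i ∣_ W) hW g (zeroSec 1 S)

variable {i}

/-- The equation of a chart. -/
def EqChart.t (C : EqChart i S) : Γ((oE C.W).left, ⊤) := C.g.appTop (AffineSpace.coord S ⟨0⟩)

theorem EqChart.mem_basicOpen (C : EqChart i S) (x : (C.W : Scheme.{u})) :
    x ∈ (C.W : Scheme.{u}).basicOpen C.t ↔ C.W.ι x ∉ Set.range i := by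
  have h1 : (C.W : Scheme.{u}).basicOpen C.t = C.g ⁻¹ᵁ Punct 1 S := by
    rw [punct_one S ⟨0⟩, Scheme.preimage_basicOpen_top]
    rfl
  have h2 : x ∈ C.g ⁻¹ᵁ Punct 1 S ↔ x ∉ Set.range (i ∣_ C.W) := by
    rw [range_eq_preimage C.sq]
    show C.g x ∈ ((Punct 1 S : (Asp 1 S).Opens) : Set (Asp 1 S)) ↔ _
    rw [← Scheme.Opens.range_ι, range_punct_ι]
    rfl
  rw [h1, h2, range_eq_preimage (isPullback_morphismRestrict i C.W)]
  rfl

variable {j} (hU : Set.range j = (Set.range i)ᶜ)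

include hU in
theorem EqChart.isUnit_res (C : EqChart i S) : IsUnit (resU j (oE C.W) C.t) := by
  refine Misc.isUnit_of_range_subset (pullback.fst C.W.ι j : ((EtCoh.bc j).obj (oE C.W)).left ⟶ _) ?_
  rintro _ ⟨z, rfl⟩
  refine (C.mem_basicOpen _).2 ?_
  have h2 : C.W.ι ((pullback.fst C.W.ι j) z) ∈ Set.range j :=
    ⟨pullback.snd C.W.ι j z, by rw [← Scheme.Hom.comp_apply, ← Scheme.Hom.comp_apply, pullback.condition]⟩
  rw [hU] at h2
  exact h2

theorem exists_sq (C : EqChart i S) {P : Scheme.{u}} (v : P ⟶ X) (q : P ⟶ (C.W : Scheme.{u})) (hq : q ≫ C.W.ι = v) :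
    ∃ h : pullback i v ⟶ S, IsPullback (pullback.snd i v) h (q ≫ C.g) (zeroSec 1 S) := by
  subst hq
  have low : IsPullback (i ∣_ C.W) (i ⁻¹ᵁ C.W).ι C.W.ι i := isPullback_morphismRestrict i C.W
  let k : pullback i (q ≫ C.W.ι) ⟶ (i ⁻¹ᵁ C.W : Y.Opens) :=
    low.lift (pullback.snd i (q ≫ C.W.ι) ≫ q) (pullback.fst i (q ≫ C.W.ι))
      (by rw [Category.assoc]; exact pullback.condition.symm)
  have sqk : IsPullback (pullback.snd i (q ≫ C.W.ι)) k q (i ∣_ C.W) := by
    refine IsPullback.of_bot (t := low) ?_ (IsPullback.lift_fst _ _ _ _).symm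
    rw [IsPullback.lift_snd]
    exact (IsPullback.of_hasPullback i (q ≫ C.W.ι)).flip
  exact ⟨k ≫ C.hW, sqk.paste_vert C.sq⟩

section Glue

variable {n : ℕ} (K : KummerMap j n) (hn : IsUnit (n : Γ(X, ⊤)))

/-- The class of the equation of a chart. -/
def EqChart.cls (C : EqChart i S) : ((EtCoh.Rpush j 1).obj (EtCoh.mu U n)).obj.obj (op (oE C.W)) :=
  K.δ.hom.app (op (oE C.W)) (tau j (oE C.W) C.t (C.isUnit_res hU))

include hn in
theorem EqChart.map_cls_eq (C C' : EqChart i S) (Z : X.Etale) (p : Z ⟶ oE C.W) (q : Z ⟶ oE C'.W) :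
    ((EtCoh.Rpush j 1).obj (EtCoh.mu U n)).obj.map p.op (C.cls hU K) =
      ((EtCoh.Rpush j 1).obj (EtCoh.mu U n)).obj.map q.op (C'.cls hU K) := by
  refine L27.EtSite.ext_of_locally _ fun z => ?_
  have hp : p.left ≫ C.W.ι = Z.hom := MorphismProperty.Over.w p
  have hq : q.left ≫ C'.W.ι = Z.hom := MorphismProperty.Over.w q
  haveI := C.hg
  haveI := C'.hg
  let p' : Z.left ⟶ (C.W : Scheme.{u}) := p.left
  let q' : Z.left ⟶ (C'.W : Scheme.{u}) := q.left
  haveI : AlgebraicGeometry.Etale p' := L27.EtSite.etale_left p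
  haveI : AlgebraicGeometry.Etale q' := L27.EtSite.etale_left q
  let G₁ : Z.left ⟶ Asp 1 S := p' ≫ C.g
  let G₂ : Z.left ⟶ Asp 1 S := q' ≫ C'.g
  haveI : Smooth G₁ := inferInstanceAs (Smooth (p' ≫ C.g))
  haveI : Smooth G₂ := inferInstanceAs (Smooth (q' ≫ C'.g))
  obtain ⟨h₁, sq₁⟩ := exists_sq C Z.hom p.left hp
  obtain ⟨h₂, sq₂⟩ := exists_sq C' Z.hom q.left hq
  obtain ⟨O, a, hzO, ha⟩ := exists_unit_ratio G₁ G₂ _ sq₁ sq₂ z
  haveI : AlgebraicGeometry.Etale Z.hom := Z.prop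
  let Z' : X.Etale := Scheme.Etale.mk (O.ι ≫ (Z.hom : Z.left ⟶ X))
  let r : Z' ⟶ Z := MorphismProperty.Over.homMk O.ι rfl
  refine ⟨Z', r, ⟨z, hzO⟩, rfl, ?_⟩
  simp only [← Functor.map_comp_apply, ← op_comp]
  rw [EqChart.cls, EqChart.cls, ← NatTrans.naturality_apply, ← NatTrans.naturality_apply, tau_map, tau_map]
  let a' : Γ(Z'.left, ⊤)ˣ := a
  have e₁ : (r ≫ p).left.appTop C.t = (a' : Γ(Z'.left, ⊤)) * (r ≫ q).left.appTop C'.t := by
    refine Eq.trans ?_ (ha.trans (congrArg ((a' : Γ(Z'.left, ⊤)) * ·) ?_))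
    · show (O.ι ≫ p.left).appTop (C.g.appTop _) = (O.ι ≫ p.left ≫ C.g).appTop _
      rw [← Category.assoc, Scheme.Hom.comp_appTop (O.ι ≫ p.left) C.g]
      rfl
    · show (O.ι ≫ q.left ≫ C'.g).appTop _ = (O.ι ≫ q.left).appTop (C'.g.appTop _)
      rw [← Category.assoc, Scheme.Hom.comp_appTop (O.ι ≫ q.left) C'.g]
      rfl
  rw [tau_congr j e₁]
  exact K.tau_mul j hn Z' _ _ a' _

include hn in
theorem EqChart.map_cls_zero (C : EqChart i S) (Z : X.Etale) (p : Z ⟶ oE C.W) (hZ : Set.range Z.hom ⊆ Set.range j) :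
    ((EtCoh.Rpush j 1).obj (EtCoh.mu U n)).obj.map p.op (C.cls hU K) = 0 := by
  rw [EqChart.cls, ← NatTrans.naturality_apply, tau_map]
  refine K.tau_unit j hn Z _ _ (Misc.isUnit_of_range_subset p.left ?_)
  rintro _ ⟨z, rfl⟩
  refine (C.mem_basicOpen _).2 ?_
  have h2 : C.W.ι (p.left z) ∈ Set.range j :=
    hZ ⟨z, congrArg (fun m : Z.left ⟶ X => m z) (MorphismProperty.Over.w p).symm⟩
  rw [hU] at h2
  exact h2

variable [IsOpenImmersion j] [IsClosedImmersion i] (hC : ∀ y : Y, ∃ C : EqChart i S, i y ∈ C.W)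

include hn hC hU in
/-- A global class restricting to the classes of the local equations. -/
theorem exists_class : ∃ σ : ((EtCoh.Rpush j 1).obj (EtCoh.mu U n)).obj.obj (op (EtCoh.top X)),
    ∀ (C : EqChart i S) (p : oE C.W ⟶ EtCoh.top X),
      ((EtCoh.Rpush j 1).obj (EtCoh.mu U n)).obj.map p.op σ = C.cls hU K := by
  let R := (EtCoh.Rpush j 1).obj (EtCoh.mu U n)
  let V : Option (EqChart i S) → X.Etale := fun o => o.elim (oE j.opensRange) fun C => oE C.W
  let s : ∀ o, R.obj.obj (op (V o)) := fun o => Option.rec 0 (fun C => C.cls hU K) o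
  have hrange : ∀ {Z : X.Etale} (q : Z ⟶ oE j.opensRange), Set.range Z.hom ⊆ Set.range j := fun {Z} q => by
    rintro _ ⟨z, rfl⟩
    show (Z.hom : Z.left ⟶ X) z ∈ _
    rw [← show q.left ≫ j.opensRange.ι = (Z.hom : Z.left ⟶ X) from MorphismProperty.Over.w q, Scheme.Hom.comp_apply]
    exact (q.left z).2
  have hcov : EtCoh.Covers V := fun x => by
    by_cases hx : x ∈ Set.range i
    · obtain ⟨y, rfl⟩ := hx
      obtain ⟨C, hy⟩ := hC y
      exact ⟨some C, ⟨i y, hy⟩, rfl⟩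
    · exact ⟨none, ⟨x, show x ∈ Set.range j by rw [hU]; exact hx⟩, rfl⟩
  obtain ⟨σ, hσ⟩ := exists_glue_top R V hcov s (fun a b Z p q => by
    rcases a with _ | C <;> rcases b with _ | C'
    · exact (map_zero _).trans (map_zero _).symm
    · exact (map_zero _).trans (C'.map_cls_zero hU K hn Z q (hrange p)).symm
    · exact (C.map_cls_zero hU K hn Z p (hrange q)).trans (map_zero _).symm
    · exact C.map_cls_eq hU K hn C' Z p q)
  exact ⟨σ, fun C p => hσ (some C) p⟩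

end Glue

section Order

variable {n : ℕ} [NeZero n] (K : KummerMap j n) [IsOpenImmersion j]

/-- The germ of the class of an equation has exact order `n`. -/
theorem EqChart.dvd_of_germ (C : EqChart i S) (y : Y) {Ω : Type u} [Field Ω] [IsSepClosed Ω]
    (ξ : Spec (CommRingCat.of Ω) ⟶ X) (hξ : ξ default = i y) (yW : (Scheme.pointSmallEtale ξ).fiber.obj (oE C.W)) (k : ℕ)
    (hk : k • (Scheme.pointSmallEtale ξ).toPresheafFiber (oE C.W) yW ((EtCoh.Rpush j 1).obj (EtCoh.mu U n)).obj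
      (C.cls hU K) = 0) : n ∣ k := by
  let Φ := Scheme.pointSmallEtale ξ
  let PG := (EtCoh.push j).obj (EtCoh.Gm U)
  let τ₀ : PG.obj.obj (op (oE C.W)) := tau j (oE C.W) C.t (C.isUnit_res hU)
  have h0 : (EtCoh.stalk ξ).map K.δ (Φ.toPresheafFiber (oE C.W) yW PG.obj (k • τ₀)) = 0 := by
    refine Eq.trans ?_ hk
    refine (GrothendieckTopology.Point.toPresheafFiber_naturality_apply Φ K.δ.hom _ yW _).trans ?_
    rw [map_nsmul, map_nsmul]
    rfl
  obtain ⟨b, hb⟩ := (ShortComplex.ab_exact_iff _).1 (K.exact.map (EtCoh.stalk ξ)) _ h0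
  obtain ⟨V, yV, b₀, rfl⟩ := Φ.toPresheafFiber_jointly_surjective (P := PG.obj) b
  obtain ⟨⟨V', y'⟩, ⟨p, hp⟩, ⟨q, hq⟩, -⟩ := IsCofilteredOrEmpty.cone_objs
    (Φ.fiber.elementsMk V yV) (Φ.fiber.elementsMk (oE C.W) yW)
  have hp' : Φ.fiber.map p y' = yV := hp
  have hq' : Φ.fiber.map q y' = yW := hq
  have e : Φ.toPresheafFiber V' y' PG.obj (n • PG.obj.map p.op b₀) =
      Φ.toPresheafFiber V' y' PG.obj (k • PG.obj.map q.op τ₀) := by
    have h1 : (EtCoh.stalk ξ).map ((EtCoh.push j).map (EtCoh.powMap U n)) (Φ.toPresheafFiber V yV PG.obj b₀) =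
        Φ.toPresheafFiber V yV PG.obj (n • b₀) :=
      (GrothendieckTopology.Point.toPresheafFiber_naturality_apply Φ _ V yV b₀).trans
        (congrArg (Φ.toPresheafFiber V yV PG.obj) (L27.MuConst.powMap_app n _ _))
    have h2 := h1.symm.trans hb
    have hl : Φ.toPresheafFiber V' y' PG.obj (PG.obj.map p.op (n • b₀)) = Φ.toPresheafFiber V yV PG.obj (n • b₀) :=
      (GrothendieckTopology.Point.toPresheafFiber_w_apply Φ p y' PG.obj _).trans (by rw [hp'])
    have hr : Φ.toPresheafFiber V' y' PG.obj (PG.obj.map q.op (k • τ₀)) = Φ.toPresheafFiber (oE C.W) yW PG.obj (k • τ₀) :=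
      (GrothendieckTopology.Point.toPresheafFiber_w_apply Φ q y' PG.obj _).trans (by rw [hq'])
    rw [← map_nsmul (PG.obj.map p.op).hom n b₀, ← map_nsmul (PG.obj.map q.op).hom k τ₀]
    exact hl.trans (h2.trans hr.symm)
  obtain ⟨V'', r, y'', hy'', he⟩ := (Φ.toPresheafFiber_eq_iff' (P := PG.obj) V' y' _ _).1 e
  rw [map_nsmul, map_nsmul, ← Functor.map_comp_apply, ← Functor.map_comp_apply, ← op_comp, ← op_comp, tau_map] at he
  let β : Γ(((EtCoh.bc j).obj V'').left, ⊤)ˣ := Misc.ofG ((EtCoh.bc j).obj V'') (PG.obj.map (r ≫ p).op b₀)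
  have hβ : (β : Γ(((EtCoh.bc j).obj V'').left, ⊤)) ^ n = resU j V'' ((r ≫ q).left.appTop C.t) ^ k := by
    have := congrArg (fun z => (Misc.ofG ((EtCoh.bc j).obj V'') z : Γ(((EtCoh.bc j).obj V'').left, ⊤))) he
    exact ((Units.val_pow_eq_pow_val β n).symm.trans this).trans (Units.val_pow_eq_pow_val _ k)
  let η : Spec (CommRingCat.of Ω) ⟶ V''.left := y''.left
  let e' : V''.left ⟶ (C.W : Scheme.{u}) := (r ≫ q).left
  let G₀ : V''.left ⟶ Asp 1 S := e' ≫ C.g
  haveI := C.hg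
  haveI : AlgebraicGeometry.Etale e' := L27.EtSite.etale_left (r ≫ q)
  haveI : Smooth G₀ := inferInstanceAs (Smooth (e' ≫ C.g))
  let Pu : V''.left.Opens := G₀ ⁻¹ᵁ Punct 1 S
  have hη : η default ∉ Pu := fun h => by
    have h2 : e' (η default) ∈ (C.W : Scheme.{u}).basicOpen C.t := by
      rw [show (C.W : Scheme.{u}).basicOpen C.t = C.g ⁻¹ᵁ Punct 1 S by
        rw [punct_one S ⟨0⟩, Scheme.preimage_basicOpen_top]; rfl]
      exact h
    refine (C.mem_basicOpen _).1 h2 ⟨y, ?_⟩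
    rw [← hξ]
    exact (L27.EtSite.fiber_apply y'').symm.trans
      (congrArg (fun m : V''.left ⟶ X => m (η default)) (MorphismProperty.Over.w (r ≫ q)).symm)
  let ξS : Spec (CommRingCat.of Ω) ⟶ S := η ≫ G₀ ≫ aspπ 1 S
  let mp : Asp 1 (Spec (CommRingCat.of Ω)) ⟶ Asp 1 S := AffineSpace.map (ULift.{u} (Fin 1)) ξS
  have sqA : IsPullback mp (aspπ 1 _) (aspπ 1 S) ξS := AffineSpace.isPullback_map (n := ULift.{u} (Fin 1)) ξS
  let pt : Spec (CommRingCat.of Ω) ⟶ Asp 1 (Spec (CommRingCat.of Ω)) :=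
    sqA.lift (η ≫ G₀) (𝟙 _) (by simp [ξS])
  let p₀ : Spec (CommRingCat.of Ω) ⟶ pullback G₀ mp := pullback.lift η pt (IsPullback.lift_fst _ _ _ _).symm
  let G := pullback.snd G₀ mp
  have hpre : mp ⁻¹ᵁ Punct 1 S = Punct 1 (Spec (CommRingCat.of Ω)) := by
    rw [punct_one S ⟨0⟩, punct_one _ ⟨0⟩, Scheme.preimage_basicOpen_top, AffineSpace.map_appTop_coord]
  have hfst : ∀ w : ↥(pullback G₀ mp), G w ∈ Punct 1 (Spec (CommRingCat.of Ω)) ↔ pullback.fst G₀ mp w ∈ Pu := by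
    intro w
    rw [← hpre]
    show mp (G w) ∈ Punct 1 S ↔ G₀ (pullback.fst G₀ mp w) ∈ Punct 1 S
    rw [← Scheme.Hom.comp_apply, ← Scheme.Hom.comp_apply, pullback.condition]
  have hG : G (p₀ default) ∉ Punct 1 (Spec (CommRingCat.of Ω)) := fun h => hη (by
    have := (hfst _).1 h
    rwa [← Scheme.Hom.comp_apply, show p₀ ≫ pullback.fst G₀ mp = η from pullback.lift_fst _ _ _] at this)
  let W' : (pullback G₀ mp).Opens := ⊤ ⊓ G ⁻¹ᵁ Punct 1 (Spec (CommRingCat.of Ω))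
  have hW' : Set.range (W'.ι ≫ pullback.fst G₀ mp ≫ V''.hom) ⊆ Set.range j := by
    rintro _ ⟨w, rfl⟩
    rw [hU, Scheme.Hom.comp_apply, Scheme.Hom.comp_apply]
    have h2 : e' (pullback.fst G₀ mp (W'.ι w)) ∈ (C.W : Scheme.{u}).basicOpen C.t := by
      rw [show (C.W : Scheme.{u}).basicOpen C.t = C.g ⁻¹ᵁ Punct 1 S by
        rw [punct_one S ⟨0⟩, Scheme.preimage_basicOpen_top]; rfl]
      exact (hfst _).1 w.2.2
    have h3 := (C.mem_basicOpen _).1 h2
    rw [← Scheme.Hom.comp_apply] at h3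
    rwa [show e' ≫ C.W.ι = (V''.hom : V''.left ⟶ X) from MorphismProperty.Over.w (r ≫ q)] at h3
  let l : (W' : Scheme.{u}) ⟶ ((EtCoh.bc j).obj V'').left :=
    pullback.lift (W'.ι ≫ pullback.fst G₀ mp) (IsOpenImmersion.lift j (W'.ι ≫ pullback.fst G₀ mp ≫ V''.hom) hW')
      ((Category.assoc _ _ _).trans (IsOpenImmersion.lift_fac j _ hW').symm)
  have hl : l ≫ (pullback.fst V''.hom j : ((EtCoh.bc j).obj V'').left ⟶ V''.left) = W'.ι ≫ pullback.fst G₀ mp :=
    pullback.lift_fst _ _ _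
  let c : Γ(pullback G₀ mp, ⊤) := G.appTop (AffineSpace.coord _ ⟨0⟩)
  have hc : (pullback.fst G₀ mp).appTop (e'.appTop C.t) = c := by
    have w := congrArg (fun m : pullback G₀ mp ⟶ Asp 1 S => m.appTop (AffineSpace.coord S ⟨0⟩))
      (pullback.condition (f := G₀) (g := mp))
    simp only [Scheme.Hom.comp_appTop, CommRingCat.comp_apply] at w
    rw [show mp.appTop (AffineSpace.coord S ⟨0⟩) = _ from AffineSpace.map_appTop_coord ξS _] at w
    exact w
  haveI : Smooth G := inferInstanceAs (Smooth (pullback.snd G₀ mp))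
  refine dvd_of_unit_pow_eq G (p₀ default) hG ⊤ trivial n k (Nat.pos_of_ne_zero (NeZero.ne n)) W' rfl
    (W'.topIso.hom (l.appTop (β : Γ(((EtCoh.bc j).obj V'').left, ⊤)))) ?_
  rw [← map_pow, ← map_pow, hβ, map_pow, map_pow]
  refine congrArg (· ^ k) ?_
  refine (congrArg W'.topIso.hom ((ConcreteCategory.congr_hom (Scheme.Hom.comp_appTop l _) (e'.appTop C.t)).symm.trans
    ((congrArg (fun m => m.appTop (e'.appTop C.t)) hl).trans
      ((ConcreteCategory.congr_hom (Scheme.Hom.comp_appTop W'.ι (pullback.fst G₀ mp)) _).trans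
        (congrArg W'.ι.appTop hc))))).trans ?_
  show (W'.ι.appTop ≫ W'.topIso.hom) c = _
  rw [Scheme.Opens.ι_appTop, Scheme.Opens.topIso_hom]
  refine (ConcreteCategory.congr_hom ((pullback G₀ mp).presheaf.map_comp _ _).symm c).trans ?_
  rfl

end Order

section Hom

variable {n : ℕ} [NeZero n] [IsOpenImmersion j] [IsClosedImmersion i]

include hU in
/-- The morphism from the constant sheaf on the closed part given by the equations. -/
theorem exists_residue (hn : IsUnit (n : Γ(X, ⊤))) (hC : ∀ y : Y, ∃ C : EqChart i S, i y ∈ C.W) :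
    ∃ φ : EtCoh.const Y (ZMod n) ⟶ (EtCoh.pull i).obj ((EtCoh.Rpush j 1).obj (EtCoh.mu U n)),
      ∀ (Ω : Type u) [Field Ω] [IsSepClosed Ω] (ξ : Spec (CommRingCat.of Ω) ⟶ Y),
        Function.Injective ((EtCoh.stalk ξ).map φ) := by
  obtain ⟨K⟩ := exists_kummerMap j (isUnit_natCast_of_hom j hn)
  let R := (EtCoh.Rpush j 1).obj (EtCoh.mu U n)
  obtain ⟨σ, hσ⟩ := exists_class hU K hn hC
  have hσn : n • σ = 0 := killedBy_rpush j 1 (killedBy_mu U n) _ σ
  let t₀ : ZMod n →+ R.obj.obj (op (EtCoh.top X)) :=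
    ZMod.lift n ⟨zmultiplesHom _ σ, by rw [zmultiplesHom_apply, natCast_zsmul, hσn]⟩
  let M := AddCommGrpCat.of (ULift.{u + 1} (ZMod n))
  let t : M ⟶ R.obj.obj (op (EtCoh.top X)) := AddCommGrpCat.ofHom (t₀.comp AddEquiv.ulift.toAddMonoidHom)
  let φ := ((EtCore.constAdj X).homEquiv M R).symm t
  have hφ : ∀ m : M, φ.hom.app (op (EtCoh.top X)) ((EtCore.constAdj X).unit.app M m) = t m := fun m =>
    ConcreteCategory.congr_hom (((EtCore.constAdj X).homEquiv_unit (X := M) (Y := R) (f := φ)).symm.trans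
      (Equiv.apply_symm_apply _ t)) m
  refine ⟨(EtCore.pullConst i (ZMod n)).inv ≫ (EtCoh.pull i).map φ, fun Ω _ _ ξ => ?_⟩
  suffices h : Function.Injective ((EtCoh.stalk (ξ ≫ i)).map φ) by
    haveI : Mono ((EtCoh.stalk (ξ ≫ i)).map φ) := (AddCommGrpCat.mono_iff_injective _).2 h
    haveI : Mono ((EtCoh.pull i ⋙ EtCoh.stalk ξ).map φ) := by
      rw [← NatIso.naturality_2 (L27.EtSite.stalkPullIso i ξ) φ]
      infer_instance
    rw [Functor.map_comp]
    haveI : Mono ((EtCoh.stalk ξ).map ((EtCoh.pull i).map φ)) := ‹Mono ((EtCoh.pull i ⋙ EtCoh.stalk ξ).map φ)›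
    exact (AddCommGrpCat.mono_iff_injective _).1 (mono_comp _ _)
  let y : Y := ξ default
  have hξ : (ξ ≫ i) default = i y := Scheme.Hom.comp_apply _ _ _
  obtain ⟨C, hy⟩ := hC y
  obtain ⟨yW, -⟩ := L27.EtSite.exists_fiber (ξ ≫ i) (oE C.W) ⟨i y, hy⟩ hξ.symm
  let Φ := Scheme.pointSmallEtale (ξ ≫ i)
  let e := Groth.L27.MV.oTop C.W
  let tp : Φ.fiber.obj (EtCoh.top X) := Φ.fiber.map e yW
  have hb := Spz.bijective_constGerm (M := ZMod n) (ξ ≫ i) tp
  refine (injective_iff_map_eq_zero _).2 fun x hx => ?_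
  obtain ⟨⟨a⟩, rfl⟩ := hb.2 x
  have h1 : (EtCoh.stalk (ξ ≫ i)).map φ (Φ.toPresheafFiber (EtCoh.top X) tp (EtCoh.const X (ZMod n)).obj
      ((EtCore.constAdj X).unit.app M ⟨a⟩)) = a.val • Φ.toPresheafFiber (oE C.W) yW R.obj (C.cls hU K) := by
    refine (GrothendieckTopology.Point.toPresheafFiber_naturality_apply Φ φ.hom (EtCoh.top X) tp _).trans ?_
    have h2 : t ⟨a⟩ = a.val • σ := by
      show t₀ a = a.val • σ
      have hcast : a = ((a.val : ℤ) : ZMod n) := by rw [Int.cast_natCast, ZMod.natCast_zmod_val]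
      conv_lhs => rw [hcast]
      refine (ZMod.lift_coe n _ _).trans ?_
      show (a.val : ℤ) • σ = _
      rw [natCast_zsmul]
    refine (congrArg (Φ.toPresheafFiber (EtCoh.top X) tp R.obj) ((hφ ⟨a⟩).trans h2)).trans ?_
    rw [map_nsmul]
    refine congrArg (a.val • ·) ?_
    rw [← hσ C e]
    exact (GrothendieckTopology.Point.toPresheafFiber_w_apply Φ e yW R.obj σ).symm
  have h3 := C.dvd_of_germ hU K y (ξ ≫ i) hξ yW a.val (h1.symm.trans hx)
  have ha : a = 0 := by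
    rw [← ZMod.natCast_zmod_val a, (ZMod.natCast_eq_zero_iff _ _).2 h3]
  subst ha
  exact (congrArg (Φ.toPresheafFiber (EtCoh.top X) tp (EtCoh.const X (ZMod n)).obj)
    (map_zero ((EtCore.constAdj X).unit.app M).hom)).trans (map_zero _)

end Hom

end Groth.L28.Pair
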