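import Groth.Agent.L28.Misc.MuConst
import Groth.Agent.L28.Supp.Twist
import Mathlib.RingTheory.Etale.StandardEtale
import Mathlib.AlgebraicGeometry.Morphisms.Etale

/-!
Schemes with a good root of unity.
-/

set_option autoImplicit false
set_option linter.style.haveILetI false
set_option linter.unusedSectionVars false
set_option backward.isDefEq.respectTransparency.types false

universe u

open CategoryTheory CategoryTheory.Limits AlgebraicGeometry Opposite Polynomial

noncomputable section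

namespace Groth.L28.Pair

/-- A root of unity of exact order `n` at every point. -/
def HasRoot (T : Scheme.{u}) (n : ℕ) : Prop :=
  1 ≤ n ∧ ∃ z : Γ(T, ⊤)ˣ, z ^ n = 1 ∧ ∀ i, 0 < i → i < n → IsUnit ((z : Γ(T, ⊤)) ^ i - 1)

variable {T T' : Scheme.{u}} {n : ℕ}

theorem HasRoot.of_hom (h : HasRoot T n) (f : T' ⟶ T) : HasRoot T' n := by
  obtain ⟨h1, z, hz, hd⟩ := h
  refine ⟨h1, Units.map f.appTop.hom.toMonoidHom z, by rw [← map_pow, hz, map_one], fun i hi hin => ?_⟩
  simpa [map_sub, map_pow] using (hd i hi hin).map f.appTop.hom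

theorem HasRoot.of_dvd (h : HasRoot T n) {d : ℕ} (hd : d ∣ n) : HasRoot T d := by
  obtain ⟨h1, z, hz, hu⟩ := h
  obtain ⟨e, rfl⟩ := hd
  have hd0 : d ≠ 0 := fun h => by simp [h] at h1
  have he0 : e ≠ 0 := fun h => by simp [h] at h1
  refine ⟨Nat.one_le_iff_ne_zero.2 hd0, z ^ e, by rw [← pow_mul, mul_comm, hz], fun i hi hin => ?_⟩
  have := hu (e * i) (Nat.mul_pos (Nat.pos_of_ne_zero he0) hi) (by
    rw [mul_comm d e]; exact Nat.mul_lt_mul_of_pos_left hin (Nat.pos_of_ne_zero he0))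
  simpa [pow_mul] using this

theorem HasRoot.nonempty_mu_iso (h : HasRoot T n) (hn : IsUnit (n : Γ(T, ⊤))) :
    Nonempty (EtCoh.mu T n ≅ EtCoh.const T (ZMod n)) := by
  obtain ⟨h1, z, hz, hd⟩ := h
  exact Misc.nonempty_mu_iso_const hn h1 z hz hd

/-- etale locally there are good roots of unity -/
theorem exists_etale_hasRoot {X : Scheme.{u}} (n : ℕ) (hn : IsUnit (n : Γ(X, ⊤))) (x : X) :
    ∃ (V : Scheme.{u}) (v : V ⟶ X) (_ : AlgebraicGeometry.Etale v),
      x ∈ Set.range v ∧ HasRoot V n := by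
  obtain ⟨R, j, _, hx⟩ := X.exists_affine_mem_range_and_range_subset (U := ⊤) (x := x) trivial
  obtain ⟨⟨x₀, hx₀⟩, -⟩ := hx
  have hu : IsUnit (n : R) := by
    have := hn.map (j.appTop ≫ (Scheme.ΓSpecIso R).hom).hom
    rwa [map_natCast] at this
  have hn0 : 0 < n := by
    refine Nat.pos_of_ne_zero fun h => ?_
    subst h
    rw [Nat.cast_zero, isUnit_zero_iff] at hu
    exact x₀.isPrime.ne_top ((Ideal.eq_top_iff_one _).2 (by rw [← hu]; exact zero_mem _))
  let P : StandardEtalePair R :=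
    { f := Polynomial.X ^ n - Polynomial.C 1
      monic_f := monic_X_pow_sub_C _ hn0.ne'
      g := ∏ i ∈ Finset.Ico 1 n, (Polynomial.X ^ i - 1)
      cond := ⟨Polynomial.C (↑hu.unit⁻¹ : R) * Polynomial.X, Polynomial.C (-1), 0, by
        obtain ⟨m, rfl⟩ : ∃ m, n = m + 1 := ⟨n - 1, by omega⟩
        have h1 : Polynomial.C ((m + 1 : ℕ) : R) * Polynomial.C ((↑hu.unit⁻¹ : R)) = 1 := by
          rw [← C_mul, IsUnit.mul_val_inv, C_1]
        simp only [derivative_sub, derivative_X_pow, derivative_one, sub_zero, Nat.add_sub_cancel, pow_zero, C_neg, C_1]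
        linear_combination (Polynomial.X ^ (m + 1)) * h1⟩ }
  let φ : R ⟶ CommRingCat.of P.Ring := CommRingCat.ofHom (algebraMap R P.Ring)
  haveI : AlgebraicGeometry.Etale (Spec.map φ) :=
    HasRingHomProperty.Spec_iff.2 (RingHom.etale_algebraMap.2 inferInstance)
  let K := AlgebraicClosure (FractionRing (R ⧸ x₀.asIdeal))
  let alg : Algebra R K :=
    ((algebraMap (FractionRing (R ⧸ x₀.asIdeal)) K).comp
      ((algebraMap (R ⧸ x₀.asIdeal) (FractionRing (R ⧸ x₀.asIdeal))).comp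
        (Ideal.Quotient.mk x₀.asIdeal))).toAlgebra
  haveI : NeZero n := ⟨hn0.ne'⟩
  haveI : NeZero (n : K) := ⟨by rw [← map_natCast (algebraMap R K)]; exact (hu.map _).ne_zero⟩
  obtain ⟨r, hr⟩ := HasEnoughRootsOfUnity.exists_primitiveRoot K n
  have hmap : P.HasMap r := by
    refine ⟨by simp [P, hr.pow_eq_one], ?_⟩
    simp only [P, map_prod, map_sub, map_pow, aeval_X, map_one]
    refine isUnit_iff_ne_zero.2 (Finset.prod_ne_zero_iff.2 fun i hi => sub_ne_zero.2 ?_)
    exact hr.pow_ne_one_of_pos_of_lt (by simp only [Finset.mem_Ico] at hi; omega) (Finset.mem_Ico.1 hi).2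
  let ψ := P.lift r hmap
  let v₀ : Spec (CommRingCat.of P.Ring) := ⟨RingHom.ker ψ.toRingHom, RingHom.ker_isPrime _⟩
  have hv : (Spec.map φ).base v₀ = x₀ := by
    apply PrimeSpectrum.ext
    ext q
    change ψ (algebraMap R P.Ring q) = 0 ↔ _
    rw [AlgHom.commutes]
    change algebraMap (FractionRing (R ⧸ x₀.asIdeal)) K (algebraMap (R ⧸ x₀.asIdeal) _
      (Ideal.Quotient.mk x₀.asIdeal q)) = 0 ↔ _
    rw [map_eq_zero_iff _ (RingHom.injective _),
      map_eq_zero_iff _ (IsFractionRing.injective (R ⧸ x₀.asIdeal) _), Ideal.Quotient.eq_zero_iff_mem]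
  have hX : P.X ^ n = 1 := by
    have h : aeval P.X (Polynomial.X ^ n - Polynomial.C (1 : R)) = 0 := P.hasMap_X.1
    rw [map_sub, map_pow, aeval_X, aeval_C, map_one, sub_eq_zero] at h
    exact h
  have hg : ∀ i ∈ Finset.Ico 1 n, IsUnit (P.X ^ i - 1) := by
    have h : IsUnit (aeval P.X (∏ i ∈ Finset.Ico 1 n, (Polynomial.X ^ i - (1 : R[X])))) := P.hasMap_X.2
    simp only [map_prod, map_sub, map_pow, aeval_X, map_one, IsUnit.prod_iff] at h
    exact h
  let e : P.Ring →+* Γ(Spec (CommRingCat.of P.Ring), ⊤) := (Scheme.ΓSpecIso (CommRingCat.of P.Ring)).inv.hom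
  let z : Γ(Spec (CommRingCat.of P.Ring), ⊤)ˣ :=
    Units.map e.toMonoidHom (IsUnit.of_pow_eq_one hX hn0.ne').unit
  refine ⟨Spec (CommRingCat.of P.Ring), Spec.map φ ≫ j, inferInstance, ⟨v₀, ?_⟩, hn0, z, Units.ext ?_, fun i hi hin => ?_⟩
  · exact (Scheme.Hom.comp_apply _ _ _).trans ((congrArg _ hv).trans hx₀)
  · simpa [z, ← map_pow] using congrArg e hX
  · simpa [z, ← map_pow, map_sub] using (hg i (Finset.mem_Ico.2 ⟨hi, hin⟩)).map e

end Groth.L28.Pair
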