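import Groth.Agent.L28.Pair.One
import Groth.Agent.L28.Pair.GmField
import Groth.Agent.L28.Pair.Kummer
import Groth.Agent.L28.Pair.Roots
import Groth.Agent.L28.Supp.Twist

/-!
The residue of constant sheaves along the zero section of the line.
-/

set_option autoImplicit false
set_option linter.style.haveILetI false
set_option linter.unusedSectionVars false
set_option backward.isDefEq.respectTransparency.types false

universe u

open CategoryTheory CategoryTheory.Limits AlgebraicGeometry Opposite IsLocalRing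

noncomputable section

namespace Groth.L28.Pair

theorem killedBy_const (X : Scheme.{u}) (n : ℕ) : EtCoh.KilledBy n (EtCoh.const X (ZMod n)) := fun V s =>
  (Misc.ev_nsmul (𝟙 (EtCoh.const X (ZMod n))) n V s).symm.trans
    (congrArg (fun m => m.hom.app (op V) s) (L28.Supp.nsmul_const_eq_zero (X := X) n))

theorem finite_and_card_stalk_const (X : Scheme.{u}) (n : ℕ) [NeZero n] {Ω : Type u} [Field Ω] [IsSepClosed Ω]
    (ξ : Spec (CommRingCat.of Ω) ⟶ X) : Nonempty (ULift.{u + 1} (ZMod n) ≃ (EtCoh.stalk ξ).obj (EtCoh.const X (ZMod n))) :=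
  ⟨Equiv.ofBijective _ (Spz.bijective_constGerm (M := ZMod n) ξ (Over.homMk ξ (Category.comp_id _)))⟩

/-- An injection out of the constant sheaf with stalks of the right size is surjective on those stalks. -/
theorem bijective_of_card {X : Scheme.{u}} {n : ℕ} [NeZero n] {G : EtCoh.Ab X} (φ : EtCoh.const X (ZMod n) ⟶ G)
    {Ω : Type u} [Field Ω] [IsSepClosed Ω] (ξ : Spec (CommRingCat.of Ω) ⟶ X)
    (h : Function.Injective ((EtCoh.stalk ξ).map φ)) (e : Nonempty ((EtCoh.stalk ξ).obj G ≃ ULift.{u + 1} (ZMod n))) :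
    Function.Bijective ((EtCoh.stalk ξ).map φ) := by
  obtain ⟨e⟩ := e
  obtain ⟨a⟩ := finite_and_card_stalk_const X n ξ
  have h' : Function.Injective (fun x => e ((EtCoh.stalk ξ).map φ (a x))) := e.injective.comp (h.comp a.injective)
  exact ⟨h, fun g => by
    obtain ⟨x, hx⟩ := (Finite.injective_iff_surjective.1 h') (e g)
    exact ⟨a x, e.injective hx⟩⟩

variable (T : Scheme.{u}) {n : ℕ} (hn : IsUnit (n : Γ(T, ⊤)))

include hn in
theorem nonempty_stalk_twF (t : T) (R : Type u) [CommRing R] [IsLocalRing R] [Algebra (T.presheaf.stalk t) R]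
    [IsLocalHom (algebraMap (T.presheaf.stalk t) R)] [Hensel.IsStrictHenselization (T.presheaf.stalk t) R]
    [HenselianLocalRing R] [IsSepClosed (ResidueField R)] :
    Nonempty ((EtCoh.stalk (Hens2.geomPt T t R)).obj ((twF T).obj (EtCoh.const T (ZMod n))) ≃
      ULift.{u + 1} (ZMod n)) := by
  let η := Hens2.specOf T t R
  have hR := isUnit_natCast_of_hom η hn
  obtain ⟨e₀⟩ := nonempty_twF_iso hn (killedBy_const T n)
  obtain ⟨e₁⟩ := nonempty_stalk_rpush_punctπ 1 (EtCoh.const T (ZMod n)) t R 1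
  haveI := L27.EtSite.preservesFiniteLimits_pull (punctπ 1 (Spec (CommRingCat.of R)))
  haveI := L27.EtSite.preservesFiniteLimits_pull (punctπ 1 (Spec (CommRingCat.of (ResidueField R))))
  obtain ⟨e₂⟩ := nonempty_H1_punct_equiv R hR
    (L := (EtCoh.pull η).obj (EtCoh.const T (ZMod n))) (killedBy_pull η (killedBy_const T n))
  let K := ResidueField R
  have hK : (n : K) ≠ 0 := by
    have h1 := hR.map (Scheme.ΓSpecIso (CommRingCat.of R)).hom.hom
    rw [map_natCast] at h1
    rw [← map_natCast (IsLocalRing.residue R)]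
    exact (h1.map _).ne_zero
  obtain ⟨e₃⟩ := nonempty_H1_punct_field K hK
  let c : (EtCoh.pull (punctπ 1 (Spec (CommRingCat.of K)))).obj ((EtCoh.pull (L27.PBC.clA R)).obj
      ((EtCoh.pull η).obj (EtCoh.const T (ZMod n)))) ≅ EtCoh.const _ (ZMod n) :=
    (EtCoh.pull _).mapIso ((EtCoh.pull (L27.PBC.clA R)).mapIso (EtCore.pullConst η (ZMod n)) ≪≫
      EtCore.pullConst (L27.PBC.clA R) (ZMod n)) ≪≫ EtCore.pullConst _ (ZMod n)
  exact ⟨((((EtCoh.stalk _).mapIso e₀).addCommGroupIsoToAddEquiv.trans e₁.addCommGroupIsoToAddEquiv).trans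
    (e₂.trans ((AddEquiv.ofBijective ((EtCoh.HF _ 1).map c.hom).hom
      (ConcreteCategory.bijective_of_isIso ((EtCoh.HF _ 1).map c.hom))).trans e₃))).toEquiv.trans Equiv.ulift.symm⟩

variable {T}

include hn in
/-- The residue of the constant sheaf is constant when roots of unity exist. -/
theorem nonempty_twF_const (hr : HasRoot T n) :
    Nonempty ((twF T).obj (EtCoh.const T (ZMod n)) ≅ EtCoh.const T (ZMod n)) := by
  haveI : NeZero n := ⟨by have := hr.1; omega⟩
  let z := zeroSec 1 T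
  let j := (Punct 1 T).ι
  let P : Scheme.{u} := (Punct 1 T : Scheme.{u})
  have hnA : IsUnit (n : Γ(Asp 1 T, ⊤)) := isUnit_natCast_of_hom (aspπ 1 T) hn
  let C : EqChart z T :=
    { W := ⊤
      g := (⊤ : (Asp 1 T).Opens).ι
      hg := inferInstance
      hW := (z ⁻¹ᵁ ⊤).ι
      sq := isPullback_morphismRestrict z ⊤ }
  obtain ⟨φ, hφ⟩ := exists_residue (range_punct_ι 1 T) hnA (fun y => ⟨C, trivial⟩)
  obtain ⟨μ⟩ := (hr.of_hom ((Punct 1 T).ι ≫ aspπ 1 T)).nonempty_mu_iso (isUnit_natCast_of_hom ((Punct 1 T).ι ≫ aspπ 1 T) hn)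
  let e : (EtCoh.pull z).obj ((EtCoh.Rpush j 1).obj (EtCoh.mu P n)) ≅ (twF T).obj (EtCoh.const T (ZMod n)) :=
    (EtCoh.pull z).mapIso ((EtCoh.Rpush j 1).mapIso (μ ≪≫ (EtCore.pullConst j (ZMod n)).symm ≪≫
      (EtCoh.pull j).mapIso (EtCore.pullConst (aspπ 1 T) (ZMod n)).symm))
  let ψ := φ ≫ e.hom
  have hψ : ∀ (Ω : Type u) [Field Ω] [IsSepClosed Ω] (ξ : Spec (CommRingCat.of Ω) ⟶ T),
      Function.Injective ((EtCoh.stalk ξ).map ψ) := fun Ω _ _ ξ => by
    rw [Functor.map_comp, ConcreteCategory.coe_comp]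
    exact (ConcreteCategory.bijective_of_isIso ((EtCoh.stalk ξ).map e.hom)).1.comp (hφ Ω ξ)
  haveI : Mono ψ := (L27.EtSite.mono_iff_stalks ψ).2 fun Ω _ _ ξ => hψ Ω ξ
  haveI : Epi ψ := by
    refine (Sheaf.isLocallySurjective_iff_epi' AddCommGrpCat.{u + 1} ψ).mp
      (L27.EtSite.isLocallySurjective_of_some_stalks ψ.hom fun t => ?_)
    obtain ⟨R, _, _, _, _, hR⟩ := Groth.Agent.S0537.result (T.presheaf.stalk t)
    haveI := hR.henselian
    haveI : IsSepClosed (ResidueField R) := hR.isSepClosure.sep_closed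
    exact ⟨ResidueField R, inferInstance, inferInstance, Hens2.geomPt T t R, L27.PBC.geomPt_default T t R,
      (bijective_of_card ψ _ (hψ _ _) (nonempty_stalk_twF T hn t R)).2⟩
  exact ⟨(@asIso _ _ _ _ ψ (isIso_of_mono_of_epi ψ)).symm⟩

end Groth.L28.Pair
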