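import Groth.Agent.L28.Pair.Purity
import Groth.Agent.L28.Pair.Twist
import Groth.Agent.L28.ExtShriek.ConstIso
import Groth.Agent.L27.InjPush.Support

/-!
The first direct image of the roots of unity from the complement of a smooth divisor.
-/

set_option autoImplicit false
set_option linter.style.haveILetI false
set_option linter.unusedSectionVars false
set_option backward.isDefEq.respectTransparency.types false

universe u

open CategoryTheory CategoryTheory.Limits AlgebraicGeometry Opposite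

noncomputable section

namespace Groth.L28.Pair

variable {X Y U S : Scheme.{u}} (f : X ⟶ S) (h : Y ⟶ S) (i : Y ⟶ X) (m : ℕ)
  [SmoothOfRelativeDimension (m + 1) f] [SmoothOfRelativeDimension m h] [IsClosedImmersion i] (w : i ≫ f = h)
  (j : U ⟶ X) [IsOpenImmersion j] (hU : Set.range j = (Set.range i)ᶜ) (n : ℕ) [NeZero n] (hn : IsUnit (n : Γ(X, ⊤)))

/-- Roots of unity restrict. -/
def pullMu {Z P : Scheme.{u}} (v : P ⟶ Z) [AlgebraicGeometry.Etale v] [EtShriek.JCont v] (n : ℕ) :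
    (EtCoh.pull v).obj (EtCoh.mu Z n) ≅ EtCoh.mu P n :=
  (L27.ExtZero.pullRestr v).app _ ≪≫ L28.Supp.restrMu v n

include f h m w hU hn in
theorem nonempty_rpush_mu_iso :
    Nonempty ((EtCoh.Rpush j 1).obj (EtCoh.mu U n) ≅ (EtCoh.push i).obj (EtCoh.const Y (ZMod n))) := by
  haveI := quasiCompact_compl f h i m 1 w j hU
  haveI : EtShriek.JCont j := L27.ExtZero.jCont j
  let G := (EtCoh.pull i).obj ((EtCoh.Rpush j 1).obj (EtCoh.mu U n))
  have hC : ∀ y : Y, ∃ C : EqChart i S, i y ∈ C.W := fun y => by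
    obtain ⟨W, g, hy, hg, -, sq⟩ := exists_chart m 1 f h i w y
    exact ⟨⟨W, g, hg, _, sq⟩, hy⟩
  obtain ⟨φ, hφ⟩ := exists_residue hU hn hC
  have hsurj : ∀ (Ω : Type u) [Field Ω] [IsSepClosed Ω] (ξ : Spec (CommRingCat.of Ω) ⟶ Y),
      Function.Bijective ((EtCoh.stalk ξ).map φ) := by
    intro Ω _ _ ξ
    let y : Y := ξ default
    obtain ⟨P, v, hv, hxv, T, M, _, _, hnT, hM, hr, -, hcase⟩ := exists_model f h i m 1 j hU n hn w
      (EtCoh.const X (ZMod n)) (L28.ExtShriek.isFLC_const X (ZMod n)) (killedBy_const X n) (i y)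
    haveI := hv
    haveI : EtShriek.JCont v := L27.ExtZero.jCont v
    rcases hcase with hl | ⟨g, hg, hP, sqY⟩
    · obtain ⟨p, hp⟩ := hxv
      have := hl ⟨p, hp⟩
      rw [hU] at this
      exact absurd ⟨y, rfl⟩ (show i y ∉ Set.range i from this)
    haveI := hg
    let jP := pullback.snd j v
    have hrange : g ⁻¹ᵁ (Punct 1 T).ι.opensRange = jP.opensRange := by
      refine TopologicalSpace.Opens.ext ?_
      show g ⁻¹' Set.range (Punct 1 T).ι = Set.range jP
      rw [range_punct_ι, Set.preimage_compl, ← range_eq_preimage sqY, range_snd_compl i j hU v]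
    have hl : Set.range (jP ≫ g) ⊆ Set.range (Punct 1 T).ι := by
      rintro _ ⟨z, rfl⟩
      exact (SetLike.ext_iff.1 hrange (jP z)).2 ⟨z, rfl⟩
    let t := IsOpenImmersion.lift (Punct 1 T).ι (jP ≫ g) hl
    have sq : IsPullback t jP (Punct 1 T).ι g :=
      IsOpenImmersion.isPullback t jP (Punct 1 T).ι g (IsOpenImmersion.lift_fac _ _ _).symm hrange
    let L := EtCoh.const T (ZMod n)
    obtain ⟨μ⟩ := (hr.of_hom (g ≫ aspπ 1 T)).nonempty_mu_iso (isUnit_natCast_of_hom (g ≫ aspπ 1 T) hnT)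
    let eF : (EtCoh.pull v).obj (EtCoh.mu X n) ≅ (EtCoh.pull g).obj ((EtCoh.pull (aspπ 1 T)).obj L) :=
      pullMu v n ≪≫ μ ≪≫ (EtCore.pullConst g (ZMod n)).symm ≪≫
        (EtCoh.pull g).mapIso (EtCore.pullConst (aspπ 1 T) (ZMod n)).symm
    obtain ⟨-, ⟨e⟩⟩ := pair_bc g jP t sq hnT (killedBy_const T n) eF (pullback.snd i v) hP sqY (univ 1 one_pos)
    obtain ⟨a⟩ := nonempty_rpush_restr j v hn (killedBy_mu X n) 1
    obtain ⟨b⟩ := nonempty_twPow_const hnT hr (fun x : ZMod n => ZModModule.char_nsmul_eq_zero n x) 1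
    haveI := L27.EtSite.isIso_counit (pullback.snd i v) (L27.EtSite.propA_of_isIntegralHom _)
      (EtCoh.const (pullback i v) (ZMod n))
    let eG : (EtCoh.pull (pullback.fst i v)).obj G ≅ EtCoh.const (pullback i v) (ZMod n) :=
      (EtCoh.pull (pullback.fst i v)).mapIso ((EtCoh.pull i).mapIso ((EtCoh.Rpush j 1).mapIso (pullMu j n).symm)) ≪≫
        ((AcycCrit.kap i v (pullback.snd i v) (pullback.fst i v) (IsPullback.of_hasPullback i v).w).app _).symm ≪≫
        (EtCoh.pull (pullback.snd i v)).mapIso ((L27.ExtZero.pullRestr v).app _ ≪≫ a ≪≫ e ≪≫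
          (EtCoh.push (pullback.snd i v)).mapIso ((EtCoh.pull hP).mapIso b ≪≫ EtCore.pullConst hP (ZMod n))) ≪≫
        asIso ((EtCoh.pullPushAdj (pullback.snd i v)).counit.app _)
    obtain ⟨p, hp⟩ := hxv
    obtain ⟨z, hz, -⟩ := Scheme.exists_preimage_of_isPullback (IsPullback.of_hasPullback i v) y p hp.symm
    obtain ⟨y', -⟩ := L27.EtSite.exists_fiber ξ (Scheme.Etale.mk (pullback.fst i v)) z hz
    let ξ' : Spec (CommRingCat.of Ω) ⟶ pullback i v := y'.left
    have hξ : ξ' ≫ pullback.fst i v = ξ := Over.w y'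
    suffices key : Function.Bijective ((EtCoh.stalk (ξ' ≫ pullback.fst i v)).map φ) by rwa [hξ] at key
    obtain ⟨c⟩ := finite_and_card_stalk_const (pullback i v) n ξ'
    exact bijective_of_card φ _ (hφ Ω _) ⟨(((L27.EtSite.stalkPullIso (pullback.fst i v) ξ').app G).symm ≪≫
      (EtCoh.stalk ξ').mapIso eG).addCommGroupIsoToAddEquiv.toEquiv.trans c.symm⟩
  haveI : Mono φ := (L27.EtSite.mono_iff_stalks φ).2 fun Ω _ _ ξ => (hsurj Ω ξ).1
  haveI : Epi φ := (L27.EtSite.epi_iff_stalks φ).2 fun Ω _ _ ξ => (hsurj Ω ξ).2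
  obtain ⟨e⟩ := nonempty_rpush_iso_push j i hU (EtCoh.mu U n) 1 one_pos
  exact ⟨e ≪≫ (EtCoh.push i).mapIso (@asIso _ _ _ _ φ (isIso_of_mono_of_epi φ)).symm⟩

end Groth.L28.Pair
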