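import Groth.Agent.L28.Pair.Zero
import Groth.Agent.L28.GmTorsion.Basic
import Groth.Agent.L28.LocCoh.Shift
import Groth.Agent.L27.EtSite.Common
import Groth.Agent.L28.Misc.MuConst
import Groth.Prelude.Def_EtLim
import Groth.Prelude.Def_SixF3
import Mathlib.RingTheory.MvPolynomial.Basic
import Mathlib.RingTheory.Flat.Basic
import Mathlib.AlgebraicGeometry.Morphisms.Smooth

/-!
The Kummer map on sections over the complement of a closed subscheme; local equations.
-/

set_option autoImplicit false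
set_option linter.style.haveILetI false
set_option linter.unusedSectionVars false
set_option backward.isDefEq.respectTransparency.types false

universe v u v' u'

open CategoryTheory CategoryTheory.Limits AlgebraicGeometry Opposite

noncomputable section

namespace Groth.L28.Pair

section Cat

open Groth.L00.RDerLES Groth.L17.GrothSS CategoryTheory.Pretriangulated

variable {C : Type u} [Category.{v} C] [Abelian C] [EnoughInjectives C] {D : Type u'} [Category.{v'} D] [Abelian D]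
  (T : C ⥤ D) [T.Additive] [PreservesFiniteLimits T]

/-- The first connecting morphism of a left exact functor. -/
theorem exists_delta {S : ShortComplex C} (hS : S.ShortExact) :
    ∃ (δ : T.obj S.X₃ ⟶ (T.rightDerived 1).obj S.X₁) (w : T.map S.g ≫ δ = 0),
      (ShortComplex.mk (T.map S.g) δ w).Exact := by
  letI := HasDerivedCategory.standard C
  obtain ⟨d, hd⟩ := exists_plusTriangle hS
  let F := HomotopyCategory.homologyFunctor D (.up ℤ) 0
  let Tr := (RK T).mapTriangle.obj (Triangle.mk ((DerivedCategory.Plus.singleFunctor C 0).map S.f)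
    ((DerivedCategory.Plus.singleFunctor C 0).map S.g) d)
  have hTr := (RK T).map_distinguished _ hd
  have h3 := F.homologySequence_exact₃ Tr hTr ((0 : ℕ) : ℤ) ((1 : ℕ) : ℤ) (by omega)
  let e₂ := hhSingleZeroIso T S.X₂ 0 ≪≫ T.rightDerivedZeroIsoSelf.app S.X₂
  let e₃ := hhSingleZeroIso T S.X₃ 0 ≪≫ T.rightDerivedZeroIsoSelf.app S.X₃
  let e₁ := hhSingleZeroIso T S.X₁ 1
  let g' := (HH T ((0 : ℕ) : ℤ)).map ((DerivedCategory.Plus.singleFunctor C 0).map S.g)
  have hcomm : e₂.hom ≫ T.map S.g = g' ≫ e₃.hom := by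
    simp only [e₂, e₃, g', Iso.trans_hom, Category.assoc, Iso.app_hom]
    rw [← T.rightDerivedZeroIsoSelf.hom.naturality S.g, ← Category.assoc, ← Category.assoc,
      hhSingleZeroIso_naturality]
  let δ₀ := F.homologySequenceδ Tr ((0 : ℕ) : ℤ) ((1 : ℕ) : ℤ) (by omega)
  let δ : T.obj S.X₃ ⟶ (T.rightDerived 1).obj S.X₁ := e₃.inv ≫ δ₀ ≫ e₁.hom
  have w : T.map S.g ≫ δ = 0 := by
    rw [← cancel_epi e₂.hom, comp_zero, ← Category.assoc, hcomm, Category.assoc]
    simp only [δ, Iso.hom_inv_id_assoc]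
    rw [← Category.assoc]
    exact (congrArg (· ≫ e₁.hom) (F.comp_homologySequenceδ Tr hTr _ _ (by omega))).trans zero_comp
  refine ⟨δ, w, (ShortComplex.exact_iff_of_iso ?_).1 h3⟩
  exact ShortComplex.isoMk e₂ e₃ e₁ hcomm (Iso.hom_inv_id_assoc e₃ _)

end Cat

section Kummer

variable {X U : Scheme.{u}} (j : U ⟶ X) {n : ℕ}

/-- A Kummer map for the sections over `U`. -/
structure KummerMap (n : ℕ) where
  /-- The map. -/
  δ : (EtCoh.push j).obj (EtCoh.Gm U) ⟶ (EtCoh.Rpush j 1).obj (EtCoh.mu U n)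
  w : (EtCoh.push j).map (EtCoh.powMap U n) ≫ δ = 0
  exact : (ShortComplex.mk _ δ w).Exact

theorem exists_kummerMap (hn : IsUnit (n : Γ(U, ⊤))) : Nonempty (KummerMap j n) := by
  haveI : PreservesLimitsOfSize.{0, 0} (EtCoh.push j) := (EtCoh.pullPushAdj j).rightAdjoint_preservesLimits
  haveI : PreservesFiniteLimits (EtCoh.push j) := PreservesLimitsOfSize.preservesFiniteLimits _
  obtain ⟨δ, w, h⟩ := exists_delta (EtCoh.push j) (EtSix.kummerShortExact (L28.GmTorsion.epi_powMap hn))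
  exact ⟨⟨δ, w, h⟩⟩

/-- The Kummer map is trivial on functions invertible on `X`. -/
theorem KummerMap.gmPush (K : KummerMap j n) (hn : IsUnit (n : Γ(X, ⊤))) : EtLim.GmPush j ≫ K.δ = 0 := by
  haveI := L28.GmTorsion.epi_powMap hn
  have e : EtCoh.powMap X n ≫ EtLim.GmPush j = EtLim.GmPush j ≫ (EtCoh.push j).map (EtCoh.powMap U n) := by
    rw [EtCoh.powMap, EtCoh.powMap, Functor.map_nsmul, CategoryTheory.Functor.map_id, Preadditive.nsmul_comp,
      Preadditive.comp_nsmul, Category.id_comp, Category.comp_id]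
  rw [← cancel_epi (EtCoh.powMap X n), comp_zero, ← Category.assoc, e, Category.assoc, K.w, comp_zero]

/-- The pullback of a function on an etale scheme to the part over `U`. -/
abbrev resU (V : X.Etale) : Γ(V.left, ⊤) →+* Γ(((EtCoh.bc j).obj V).left, ⊤) :=
  (pullback.fst V.hom j : ((EtCoh.bc j).obj V).left ⟶ V.left).appTop.hom

/-- The section given by a function invertible over `U`. -/
def tau (V : X.Etale) (t : Γ(V.left, ⊤)) (h : IsUnit (resU j V t)) : ((EtCoh.push j).obj (EtCoh.Gm U)).obj.obj (op V) :=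
  Misc.toG ((EtCoh.bc j).obj V) h.unit

theorem resU_map {V V' : X.Etale} (g : V' ⟶ V) (t : Γ(V.left, ⊤)) :
    ((EtCoh.bc j).map g).left.appTop (resU j V t) = resU j V' (g.left.appTop t) := by
  show (_ ≫ _ : Γ(V.left, ⊤) ⟶ _) t = (_ ≫ _ : Γ(V.left, ⊤) ⟶ _) t
  exact (ConcreteCategory.congr_hom (Scheme.Hom.comp_appTop _ _) t).symm.trans
    ((congrArg (fun m => m.appTop t) (EtCoh.isPullback_bc_map j g).w).trans
      (ConcreteCategory.congr_hom (Scheme.Hom.comp_appTop _ _) t))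

theorem isUnit_resU_map {V V' : X.Etale} (g : V' ⟶ V) {t : Γ(V.left, ⊤)} (h : IsUnit (resU j V t)) :
    IsUnit (resU j V' (g.left.appTop t)) := by
  rw [← resU_map]; exact h.map _

theorem tau_map {V V' : X.Etale} (g : V' ⟶ V) (t : Γ(V.left, ⊤)) (h : IsUnit (resU j V t)) :
    ((EtCoh.push j).obj (EtCoh.Gm U)).obj.map g.op (tau j V t h) = tau j V' (g.left.appTop t) (isUnit_resU_map j g h) :=
  congrArg (Misc.toG ((EtCoh.bc j).obj V')) (Units.ext (resU_map j g t))

theorem tau_congr {V : X.Etale} {t t' : Γ(V.left, ⊤)} (e : t = t') (h : IsUnit (resU j V t)) :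
    tau j V t h = tau j V t' (e ▸ h) := by
  subst e; rfl

theorem tau_mul_unit (V : X.Etale) (t : Γ(V.left, ⊤)) (h : IsUnit (resU j V t)) (a : Γ(V.left, ⊤)ˣ)
    (h' : IsUnit (resU j V ((a : Γ(V.left, ⊤)) * t))) :
    tau j V ((a : Γ(V.left, ⊤)) * t) h' = (EtLim.GmPush j).hom.app (op V) (Misc.toG V a) + tau j V t h :=
  congrArg (Misc.toG ((EtCoh.bc j).obj V)) (show h'.unit = Units.map (resU j V).toMonoidHom a * h.unit from
    Units.ext (map_mul (resU j V) (a : Γ(V.left, ⊤)) t))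

variable (K : KummerMap j n) (hn : IsUnit (n : Γ(X, ⊤)))

include hn in
theorem KummerMap.tau_mul (V : X.Etale) (t : Γ(V.left, ⊤)) (h : IsUnit (resU j V t)) (a : Γ(V.left, ⊤)ˣ)
    (h' : IsUnit (resU j V ((a : Γ(V.left, ⊤)) * t))) :
    K.δ.hom.app (op V) (tau j V ((a : Γ(V.left, ⊤)) * t) h') = K.δ.hom.app (op V) (tau j V t h) := by
  rw [tau_mul_unit j V t h a h', map_add]
  have := congrArg (fun m => m.hom.app (op V) (Misc.toG V a)) (K.gmPush j hn)
  exact (congrArg (· + K.δ.hom.app (op V) (tau j V t h)) this).trans (zero_add _)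

include hn in
theorem KummerMap.tau_unit (V : X.Etale) (t : Γ(V.left, ⊤)) (h : IsUnit (resU j V t)) (ht : IsUnit t) :
    K.δ.hom.app (op V) (tau j V t h) = 0 := by
  have h1 : IsUnit (resU j V 1) := by rw [map_one]; exact isUnit_one
  have h' : IsUnit (resU j V ((ht.unit : Γ(V.left, ⊤)) * 1)) := by
    rw [IsUnit.unit_spec, mul_one]; exact h
  rw [tau_congr j (show t = (ht.unit : Γ(V.left, ⊤)) * 1 by rw [IsUnit.unit_spec, mul_one]) h,
    K.tau_mul j hn V 1 h1 ht.unit h']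
  have : tau j V 1 h1 = 0 := congrArg (Misc.toG ((EtCoh.bc j).obj V))
    (show h1.unit = 1 from Units.ext (map_one (resU j V)))
  rw [this, map_zero]

end Kummer

section Glue

variable {X : Scheme.{u}} (F : EtCoh.Ab X)

/-- Compatible sections on a covering glue to a global section. -/
theorem exists_glue_top {ι : Type u} (V : ι → X.Etale) (hcov : EtCoh.Covers V) (s : ∀ a, F.obj.obj (op (V a)))
    (hs : ∀ a b (Z : X.Etale) (p : Z ⟶ V a) (q : Z ⟶ V b), F.obj.map p.op (s a) = F.obj.map q.op (s b)) :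
    ∃ σ : F.obj.obj (op (EtCoh.top X)), ∀ a (p : V a ⟶ EtCoh.top X), F.obj.map p.op σ = s a := by
  let π : ∀ a, V a ⟶ EtCoh.top X := fun a => (EtCore.topIsTerminal X).from _
  let R : Presieve (EtCoh.top X) := Presieve.ofArrows V π
  have hR : Sieve.generate R ∈ X.smallEtaleTopology (EtCoh.top X) := (L27.EtSite.mem_topology_iff _).2 fun x => by
    obtain ⟨a, y, hy⟩ := hcov x
    refine ⟨V a, π a, y, Sieve.le_generate _ _ _ (Presieve.ofArrows.mk a), ?_⟩
    exact (congrArg (fun m : (V a).left ⟶ X => m y)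
      ((Category.comp_id _).symm.trans (MorphismProperty.Over.w (π a)))).trans hy
  have hsh : Presieve.IsSheafFor (F.obj ⋙ CategoryTheory.forget AddCommGrpCat.{u + 1}) R :=
    (Presieve.isSheafFor_iff_generate R).2 ((CategoryTheory.isSheaf_iff_isSheaf_of_type _ _).1
      (GrothendieckTopology.HasSheafCompose.isSheaf (F := CategoryTheory.forget AddCommGrpCat.{u + 1}) F.obj F.property) _ hR)
  obtain ⟨σ, hσ, -⟩ := (Presieve.isSheafFor_arrows_iff _ π).1 hsh s (fun a b Z p q _ => hs a b Z p q)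
  exact ⟨σ, fun a p => by rw [(EtCore.topIsTerminal X).hom_ext p (π a)]; exact hσ a⟩

end Glue

section Equation

variable {S P Q : Scheme.{u}}

/-- Coordinates pulled back by smooth maps are regular on small affine pieces. -/
theorem exists_regular (G : P ⟶ Asp 1 S) [Smooth G] (p : P) : ∃ O : P.Opens, p ∈ O ∧
    ∀ (O' : P.Opens), IsAffineOpen O' → O' ≤ O →
      IsSMulRegular Γ((O' : Scheme.{u}), ⊤) (((O'.ι ≫ G).appTop) (AffineSpace.coord S ⟨0⟩)) := by
  obtain ⟨_, ⟨S₀, hS₀, rfl⟩, hs, -⟩ :=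
    S.isBasis_affineOpens.exists_subset_of_mem_open (Set.mem_univ (aspπ 1 S (G p))) isOpen_univ
  refine ⟨G ⁻¹ᵁ (aspπ 1 S ⁻¹ᵁ S₀), hs, fun O' hO' hle => ?_⟩
  let A := MvPolynomial (ULift.{u} (Fin 1)) Γ(S, S₀)
  let e : Spec (CommRingCat.of A) ⟶ Asp 1 S :=
    (AffineSpace.SpecIso (ULift.{u} (Fin 1)) Γ(S, S₀)).inv ≫ AffineSpace.map (ULift.{u} (Fin 1)) hS₀.fromSpec
  haveI : IsOpenImmersion (AffineSpace.map (ULift.{u} (Fin 1)) hS₀.fromSpec) :=
    MorphismProperty.of_isPullback (AffineSpace.isPullback_map (n := ULift.{u} (Fin 1)) hS₀.fromSpec).flip inferInstance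
  have hr : Set.range (O'.ι ≫ G) ⊆ Set.range e := by
    rintro _ ⟨z, rfl⟩
    have hz : aspπ 1 S (G (O'.ι z)) ∈ Set.range hS₀.fromSpec := by
      rw [hS₀.range_fromSpec]; exact hle z.2
    obtain ⟨w, hw⟩ := hz
    obtain ⟨v, hv, -⟩ := Scheme.exists_preimage_of_isPullback
      (AffineSpace.isPullback_map (n := ULift.{u} (Fin 1)) hS₀.fromSpec) (G (O'.ι z)) w hw.symm
    refine ⟨(AffineSpace.SpecIso (ULift.{u} (Fin 1)) Γ(S, S₀)).hom v, ?_⟩
    show e ((AffineSpace.SpecIso _ _).hom v) = _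
    rw [← Scheme.Hom.comp_apply, Iso.hom_inv_id_assoc, Scheme.Hom.comp_apply]
    exact hv
  let l := IsOpenImmersion.lift e (O'.ι ≫ G) hr
  have hl : l ≫ e = O'.ι ≫ G := IsOpenImmersion.lift_fac _ _ _
  haveI : Smooth l := MorphismProperty.of_isPullback (P := @Smooth) (IsOpenImmersion.isPullback_lift_id (O'.ι ≫ G) e hr).flip inferInstance
  haveI : IsAffine (O' : Scheme.{u}) := hO'
  let φ : A →+* Γ((O' : Scheme.{u}), ⊤) := ((Scheme.ΓSpecIso (CommRingCat.of A)).inv ≫ l.appTop).hom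
  have hφ : φ.Flat := by
    refine RingHom.Flat.comp (RingHom.Flat.of_bijective
      (Scheme.ΓSpecIso (CommRingCat.of A)).symm.commRingCatIsoToRingEquiv.bijective) ?_
    exact (HasRingHomProperty.iff_of_isAffine (P := @Flat)).1 inferInstance
  have ht : (O'.ι ≫ G).appTop (AffineSpace.coord S ⟨0⟩) = φ (MvPolynomial.X ⟨0⟩) := by
    rw [← hl, Scheme.Hom.comp_appTop, CommRingCat.comp_apply]
    show l.appTop (e.appTop _) = l.appTop ((Scheme.ΓSpecIso _).inv _)
    refine congrArg _ ?_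
    rw [Scheme.Hom.comp_appTop, CommRingCat.comp_apply, AffineSpace.map_appTop_coord,
      AffineSpace.SpecIso_inv_appTop_coord]
  rw [ht]
  algebraize [φ]
  have hX : IsRegular (MvPolynomial.X (⟨0⟩ : ULift.{u} (Fin 1)) : A) := MvPolynomial.isRegular_X
  intro a b hab
  exact (Module.Flat.isSMulRegular_of_isRegular hX (M := Γ((O' : Scheme.{u}), ⊤)))
    (show (MvPolynomial.X ⟨0⟩ : A) • a = (MvPolynomial.X ⟨0⟩ : A) • b by
      rw [Algebra.smul_def, Algebra.smul_def]; exact hab)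

/-- A function killed on the zero locus is a multiple of the coordinate. -/
theorem dvd_of_zero_locus [IsAffine P] (G : P ⟶ Asp 1 S) {Y : Scheme.{u}} (i : Y ⟶ P) (h : Y ⟶ S)
    (sq : IsPullback i h G (zeroSec 1 S)) (b : Γ(P, ⊤)) (hb : i.appTop b = 0) :
    G.appTop (AffineSpace.coord S ⟨0⟩) ∣ b := by
  let t := G.appTop (AffineSpace.coord S ⟨0⟩)
  let I : Ideal Γ(P, ⊤) := Ideal.span {t}
  let q : Spec (CommRingCat.of (Γ(P, ⊤) ⧸ I)) ⟶ P :=
    Spec.map (CommRingCat.ofHom (Ideal.Quotient.mk I)) ≫ P.isoSpec.inv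
  have hq : ∀ z : Γ(P, ⊤), q.appTop z =
      (Scheme.ΓSpecIso (CommRingCat.of (Γ(P, ⊤) ⧸ I))).inv (Ideal.Quotient.mk I z) := fun z => by
    have e1 : P.isoSpec.inv.appTop = (Scheme.ΓSpecIso Γ(P, ⊤)).inv := by
      haveI : IsIso P.isoSpec.hom.appTop := inferInstanceAs (IsIso (Scheme.Γ.map P.isoSpec.hom.op))
      have e2 : P.isoSpec.inv.appTop = inv P.isoSpec.hom.appTop := by
        refine IsIso.eq_inv_of_hom_inv_id ?_
        rw [← Scheme.Hom.comp_appTop, Iso.inv_hom_id]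
        rfl
      rw [e2]
      refine IsIso.inv_eq_of_hom_inv_id ?_
      rw [Scheme.isoSpec_hom, Scheme.toSpecΓ_appTop]
      exact Iso.hom_inv_id _
    rw [Scheme.Hom.comp_appTop, CommRingCat.comp_apply, e1]
    exact (ConcreteCategory.congr_hom (Scheme.ΓSpecIso_inv_naturality (CommRingCat.ofHom (Ideal.Quotient.mk I))) z).symm
  have hl : q ≫ G = (q ≫ G ≫ aspπ 1 S) ≫ zeroSec 1 S := by
    refine AffineSpace.hom_ext (by simp) fun a => ?_
    rw [Scheme.Hom.comp_appTop q G, CommRingCat.comp_apply, Scheme.Hom.comp_appTop _ (zeroSec 1 S),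
      CommRingCat.comp_apply,
      show G.appTop (AffineSpace.coord S a) = t from by rw [Subsingleton.elim a ⟨0⟩], show q.appTop t = _ from hq t,
      Ideal.Quotient.eq_zero_iff_mem.2 (Ideal.mem_span_singleton_self t), map_zero, zeroSec,
      AffineSpace.homOfVector_appTop_coord, Pi.zero_apply, map_zero]
  have h0 : q.appTop b = 0 := by
    rw [← sq.lift_fst q _ hl, Scheme.Hom.comp_appTop, CommRingCat.comp_apply, hb, map_zero]
  rw [hq] at h0
  rw [← Ideal.mem_span_singleton]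
  refine Ideal.Quotient.eq_zero_iff_mem.1 ?_
  simpa using congrArg (Scheme.ΓSpecIso (CommRingCat.of (Γ(P, ⊤) ⧸ I))).hom h0

/-- Two equations of the same closed subscheme differ by a unit near every point. -/
theorem exists_unit_ratio (G₁ G₂ : P ⟶ Asp 1 S) [Smooth G₁] [Smooth G₂] {Y : Scheme.{u}} (i : Y ⟶ P)
    {h₁ h₂ : Y ⟶ S} (sq₁ : IsPullback i h₁ G₁ (zeroSec 1 S)) (sq₂ : IsPullback i h₂ G₂ (zeroSec 1 S)) (p : P) :
    ∃ (O : P.Opens) (a : Γ((O : Scheme.{u}), ⊤)ˣ), p ∈ O ∧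
      (O.ι ≫ G₁).appTop (AffineSpace.coord S ⟨0⟩) = a * (O.ι ≫ G₂).appTop (AffineSpace.coord S ⟨0⟩) := by
  obtain ⟨O₁, hp₁, hreg⟩ := exists_regular G₁ p
  obtain ⟨O, hO, hpO, hle⟩ := exists_isAffineOpen_mem_and_subset (U := O₁) hp₁
  haveI : IsAffine (O : Scheme.{u}) := hO
  let t₁ := (O.ι ≫ G₁).appTop (AffineSpace.coord S ⟨0⟩)
  let t₂ := (O.ι ≫ G₂).appTop (AffineSpace.coord S ⟨0⟩)
  have sO₁ : IsPullback (i ∣_ O) ((i ⁻¹ᵁ O).ι ≫ h₁) (O.ι ≫ G₁) (zeroSec 1 S) :=
    (isPullback_morphismRestrict i O).paste_vert sq₁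
  have sO₂ : IsPullback (i ∣_ O) ((i ⁻¹ᵁ O).ι ≫ h₂) (O.ι ≫ G₂) (zeroSec 1 S) :=
    (isPullback_morphismRestrict i O).paste_vert sq₂
  have z : ∀ {G : (O : Scheme.{u}) ⟶ Asp 1 S} {hh : (↑(i ⁻¹ᵁ O) : Scheme.{u}) ⟶ S}
      (_ : IsPullback (i ∣_ O) hh G (zeroSec 1 S)), (i ∣_ O).appTop (G.appTop (AffineSpace.coord S ⟨0⟩)) = 0 :=
    fun {G hh} hsq => by
    rw [← CommRingCat.comp_apply, ← Scheme.Hom.comp_appTop, hsq.w, Scheme.Hom.comp_appTop, CommRingCat.comp_apply,
      zeroSec, AffineSpace.homOfVector_appTop_coord, Pi.zero_apply, map_zero]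
  obtain ⟨a, ha⟩ := dvd_of_zero_locus _ _ _ sO₂ t₁ (z sO₁)
  obtain ⟨b, hb⟩ := dvd_of_zero_locus _ _ _ sO₁ t₂ (z sO₂)
  have ha' : t₁ = t₂ * a := ha
  have hb' : t₂ = t₁ * b := hb
  have hba : b * a = 1 := by
    refine hreg O hO hle ?_
    show t₁ * (b * a) = t₁ * 1
    rw [← mul_assoc, ← hb', ← ha', mul_one]
  exact ⟨O, (IsUnit.of_mul_eq_one _ (mul_comm b a ▸ hba)).unit, hpO,
    ha'.trans ((mul_comm _ _).trans (congrArg (· * t₂) (IsUnit.unit_spec _).symm))⟩

end Equation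

end Groth.L28.Pair
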