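import Groth.Agent.S0659
import Groth.Agent.S0642
import Groth.Agent.L27.PBC.ModSquare
import Groth.Agent.L27.ULA.Crit
import Groth.Agent.L27.EtSite.Pull

/-!
Cohomology of schemes covered by two opens with acyclic structure maps.
-/

set_option autoImplicit false
set_option linter.style.haveILetI false
set_option linter.unusedSectionVars false
set_option backward.isDefEq.respectTransparency.types false

universe u

open CategoryTheory CategoryTheory.Limits AlgebraicGeometry Opposite
open Groth.L27.LimCoh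

noncomputable section

namespace Groth.L28.Pair

variable {X S : Scheme.{u}} (p : X ⟶ S) [PreservesFiniteLimits (EtCoh.pull p)] (L : EtCoh.Ab S)

/-- The restriction to an open of classes coming from the base. -/
def resBase (W : X.Opens) [PreservesFiniteLimits (EtCoh.pull W.ι)] (q : ℕ) :
    EtCoh.H S L q →+ EtCoh.H (W : Scheme.{u}) ((EtCoh.pull W.ι).obj ((EtCoh.pull p).obj L)) q :=
  (EtCore.Hpull W.ι ((EtCoh.pull p).obj L) q).comp (EtCore.Hpull p L q)

variable (W : X.Opens) [PreservesFiniteLimits (EtCoh.pull W.ι)] {Y : Scheme.{u}} (c : Y ⟶ X) [IsOpenImmersion c]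
  (hc : c.opensRange = W) (π : Y ⟶ S) (hπ : c ≫ p = π) [PreservesFiniteLimits (EtCoh.pull π)]

include hc hπ in
/-- Transfer to a chart. -/
theorem exists_chart_equiv (q : ℕ) :
    ∃ T : EtCoh.H (W : Scheme.{u}) ((EtCoh.pull W.ι).obj ((EtCoh.pull p).obj L)) q ≃+
        EtCoh.H Y ((EtCoh.pull π).obj L) q,
      ∀ x, T (resBase p L W q x) = EtCore.Hpull π L q x := by
  haveI := L27.EtSite.preservesFiniteLimits_pull c
  have hr : Set.range c = Set.range W.ι := by
    rw [Scheme.Opens.range_ι, ← hc]; rfl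
  let θ := IsOpenImmersion.isoOfRangeEq c W.ι hr
  have w : θ.hom ≫ W.ι = c := IsOpenImmersion.isoOfRangeEq_hom_fac c W.ι hr
  haveI := L27.EtSite.preservesFiniteLimits_pull θ.hom
  let G := (EtCoh.pull p).obj L
  have hb : Function.Bijective (EtCore.HpullVia θ.hom W.ι c w G q) :=
    L27.ULA.bijective_HpullVia θ.hom W.ι c w G q (Groth.Agent.S0642.result θ.hom _ q)
  let e₁ := AddEquiv.ofBijective _ hb
  let γ := gamma c p hπ L
  haveI : IsIso γ := by
    rw [show γ = gamma c p hπ L from rfl, ← L27.CompTransfer.inv_eq_gamma c p π hπ L]; infer_instance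
  let e₂ : EtCoh.H Y ((EtCoh.pull π).obj L) q ≃+ EtCoh.H Y ((EtCoh.pull c).obj G) q :=
    AddEquiv.ofBijective ((EtCoh.HF Y q).map γ).hom (ConcreteCategory.bijective_of_isIso ((EtCoh.HF Y q).map γ))
  refine ⟨e₁.trans e₂.symm, fun x => ?_⟩
  rw [AddEquiv.trans_apply, AddEquiv.symm_apply_eq]
  show EtCore.HpullVia θ.hom W.ι c w G q (EtCore.Hpull W.ι G q (EtCore.Hpull p L q x)) =
    (EtCoh.HF Y q).map γ (EtCore.Hpull π L q x)
  rw [L27.ModSquare.HpullVia_Hpull]
  exact Hpull_comp c p hπ q L x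

include hc hπ in
theorem surjective_resBase (q : ℕ) (h : Function.Surjective (EtCore.Hpull π L q)) :
    Function.Surjective (resBase p L W q) := by
  obtain ⟨T, hT⟩ := exists_chart_equiv p L W c hc π hπ q
  intro y
  obtain ⟨x, hx⟩ := h (T y)
  exact ⟨x, T.injective ((hT x).trans hx)⟩

include hc hπ in
theorem bijective_resBase (q : ℕ) (h : Function.Bijective (EtCore.Hpull π L q)) :
    Function.Bijective (resBase p L W q) := by
  obtain ⟨T, hT⟩ := exists_chart_equiv p L W c hc π hπ q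
  refine ⟨fun a b hab => h.1 ?_, surjective_resBase p L W c hc π hπ q h.2⟩
  rw [← hT, ← hT, hab]

variable {p L}

/-- Two charts with acyclic structure maps over an acyclic base. -/
theorem two_charts (U V : X.Opens) (hUV : U ⊔ V = ⊤)
    [PreservesFiniteLimits (EtCoh.pull U.ι)] [PreservesFiniteLimits (EtCoh.pull V.ι)]
    [PreservesFiniteLimits (EtCoh.pull (U ⊓ V).ι)]
    (hS : ∀ q, 0 < q → Subsingleton (EtCoh.H S L q))
    (hU : ∀ q, Function.Bijective (resBase p L U q)) (hV : ∀ q, Function.Bijective (resBase p L V q))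
    (h0 : Function.Surjective (resBase p L (U ⊓ V) 0)) :
    Subsingleton (EtCoh.H X ((EtCoh.pull p).obj L) 1) ∧
      ∀ q, 0 < q → Nonempty (EtCoh.H (↑(U ⊓ V) : Scheme.{u}) ((EtCoh.pull (U ⊓ V).ι).obj ((EtCoh.pull p).obj L)) q ≃+
        EtCoh.H X ((EtCoh.pull p).obj L) (q + 1)) := by
  let G := (EtCoh.pull p).obj L
  haveI := L27.EtSite.preservesFiniteLimits_pull (X.homOfLE (inf_le_left : U ⊓ V ≤ U))
  haveI := L27.EtSite.preservesFiniteLimits_pull (X.homOfLE (inf_le_right : U ⊓ V ≤ V))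
  obtain ⟨δ, -, hker, -, hδ⟩ := Groth.Agent.S0659.result X U V hUV G
  have zU : ∀ q, 0 < q → Subsingleton (EtCoh.H (U : Scheme.{u}) ((EtCoh.pull U.ι).obj G) q) := fun q hq =>
    haveI := hS q hq
    (hU q).2.subsingleton
  have zV : ∀ q, 0 < q → Subsingleton (EtCoh.H (V : Scheme.{u}) ((EtCoh.pull V.ι).obj G) q) := fun q hq =>
    haveI := hS q hq
    (hV q).2.subsingleton
  have hsurj : ∀ n x, ∃ y, δ n y = x := fun n x => by
    haveI := zU (n + 1) n.succ_pos
    haveI := zV (n + 1) n.succ_pos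
    have : x ∈ (δ n).range := by
      rw [← hker n]
      exact AddMonoidHom.mem_ker.2 (Prod.ext (Subsingleton.elim _ _) (Subsingleton.elim _ _))
    exact this
  refine ⟨subsingleton_of_forall_eq 0 fun x => ?_, fun q hq => ?_⟩
  · obtain ⟨y, rfl⟩ := hsurj 0 x
    refine AddMonoidHom.mem_ker.1 ?_
    rw [hδ 0]
    obtain ⟨s, rfl⟩ := h0 y
    refine ⟨(EtCore.Hpull U.ι G 0 (EtCore.Hpull p L 0 s), 0), ?_⟩
    simp only [AddMonoidHom.sub_apply, AddMonoidHom.comp_apply, AddMonoidHom.coe_fst, AddMonoidHom.coe_snd,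
      map_zero, sub_zero]
    exact L27.ModSquare.HpullVia_Hpull _ _ _ _ G 0 _
  · refine ⟨AddEquiv.ofBijective (δ q) ⟨(injective_iff_map_eq_zero _).2 fun y hy => ?_, hsurj q⟩⟩
    have : y ∈ (δ q).ker := AddMonoidHom.mem_ker.2 hy
    rw [hδ q] at this
    obtain ⟨⟨a, b⟩, rfl⟩ := this
    haveI := zU q hq
    haveI := zV q hq
    rw [Subsingleton.elim a 0, Subsingleton.elim b 0]
    exact map_zero _

end Groth.L28.Pair
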