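import Groth.Agent.L28.Pair.Punct
import Groth.Agent.L28.Pair.TwoChart
import Groth.Agent.L28.Pair.Basic
import Groth.Agent.L27.SmoothLA.AffineAcyclic
import Groth.Agent.L27.PBC.ProperCd
import Groth.Agent.L28.RegCurve.Open
import Groth.Agent.L03.SurfFib.H1Main
import Mathlib.AlgebraicGeometry.Properties

/-!
Cohomology of the punctured line over a strictly henselian base.
-/

set_option autoImplicit false
set_option linter.style.haveILetI false
set_option linter.unusedSectionVars false
set_option backward.isDefEq.respectTransparency.types false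

universe u

open CategoryTheory CategoryTheory.Limits AlgebraicGeometry Opposite IsLocalRing

noncomputable section

namespace Groth.L28.Pair

open Groth.L27.LimCoh

section General

variable {Y : Scheme.{u}} {n : ℕ} (hn : IsUnit (n : Γ(Y, ⊤))) {L : EtCoh.Ab Y} (hL : EtCoh.KilledBy n L)

include hn hL in
/-- Affine space is acyclic. -/
theorem bijective_Hpull_aspπ (c : ℕ) [PreservesFiniteLimits (EtCoh.pull (aspπ c Y))] (q : ℕ) :
    Function.Bijective (EtCore.Hpull (aspπ c Y) L q) := by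
  obtain ⟨h0, h1⟩ := L27.SmoothLA.acyclic_affineSpace Y c n hn L hL
  haveI := h0
  exact (AcycCrit.compN_of_unit (aspπ c Y) L q fun r hr _ => h1 r hr).1 q le_rfl

include hn hL in
/-- The unit of a punctured affine space. -/
theorem isIso_unit_punctπ (c : ℕ) (hc : 0 < c) : IsIso ((EtCoh.pullPushAdj (punctπ c Y)).unit.app L) := by
  let g := punctπ c Y
  let P := EtAcyc.primesInvertibleOn Y
  have hFL : EtAcyc.IsLTorsion P L := L27.SmoothLA.isLTorsion_of_invertible (𝟙 Y) fun U s x =>
    ⟨U, 𝟙 U, n, ⟨x, rfl⟩, hn, hL U _⟩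
  by_cases hp : ∃ ℓ ∈ P, ℓ.Prime
  · refine (L27.SmoothLA.unit_of_smooth_fibres g P hp (fun ℓ hℓ _ => hℓ.2) 0 ?_ L hFL).1
    intro y Ω _ _ _ _
    refine L27.XV.isAcyclicScheme_of_iso (isPullback_punctπ c (EtAcyc.geomPt Y y Ω)).isoPullback.inv ?_
    let A := Asp c (Spec (CommRingCat.of Ω))
    let U := Punct c (Spec (CommRingCat.of Ω))
    let e := AffineSpace.SpecIso (ULift.{u} (Fin c)) (CommRingCat.of Ω)
    haveI : IsDomain (MvPolynomial (ULift.{u} (Fin c)) Ω) := inferInstance
    haveI : IsIntegral (Spec (CommRingCat.of (MvPolynomial (ULift.{u} (Fin c)) Ω))) := inferInstance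
    haveI : Nonempty A := ⟨e.inv (genericPoint _)⟩
    haveI : IsIntegral A := IsIntegral.of_isIso e.inv
    have hU : U ≠ ⊥ := by
      intro h0
      have h : (Asp c (Spec (CommRingCat.of Ω))).basicOpen
          (AffineSpace.coord _ (⟨⟨0, hc⟩⟩ : ULift.{u} (Fin c))) = ⊥ :=
        le_bot_iff.1 (h0 ▸ le_iSup (fun a : ULift.{u} (Fin c) =>
          (Asp c (Spec (CommRingCat.of Ω))).basicOpen (AffineSpace.coord _ a)) ⟨⟨0, hc⟩⟩)
      have h2 : (AffineSpace.coord (Spec (CommRingCat.of Ω)) (⟨⟨0, hc⟩⟩ : ULift.{u} (Fin c))) = 0 :=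
        eq_zero_of_basicOpen_eq_bot _ h
      have h3 := congrArg e.inv.appTop h2
      erw [AffineSpace.SpecIso_inv_appTop_coord] at h3
      rw [map_zero] at h3
      exact MvPolynomial.X_ne_zero (R := Ω) (⟨⟨0, hc⟩⟩ : ULift.{u} (Fin c))
        ((ConcreteCategory.bijective_of_isIso (Scheme.ΓSpecIso _).inv).1 (h3.trans (map_zero _).symm))
    haveI : Nonempty (U : Scheme.{u}) := by
      obtain ⟨x, hx⟩ : (U : Set A).Nonempty := Set.nonempty_iff_ne_empty.2 fun h =>
        hU (TopologicalSpace.Opens.ext h)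
      exact ⟨⟨x, hx⟩⟩
    haveI : IsIntegral (U : Scheme.{u}) := isIntegral_of_isOpenImmersion U.ι
    exact ⟨inferInstance, inferInstance, fun ℓ _ _ q h1 h2 => by omega⟩
  · push Not at hp
    have hz := L27.XV.isZero_of_no_prime hp hFL
    have hA := (EtCoh.pull g).map_isZero hz
    haveI : (EtCoh.push g).Additive := (EtCoh.pullPushAdj g).right_adjoint_additive
    exact ⟨⟨0, hz.eq_of_src _ _, ((EtCoh.push g).map_isZero hA).eq_of_src _ _⟩⟩

include hn hL in
theorem surjective_Hpull_punct_zero [PreservesFiniteLimits (EtCoh.pull (punctπ 1 Y))] :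
    Function.Surjective (EtCore.Hpull (punctπ 1 Y) L 0) := by
  haveI := isIso_unit_punctπ hn hL 1 one_pos
  exact ((AcycCrit.compN_of_unit (punctπ 1 Y) L 0 fun r hr h => absurd h (by omega)).1 0 le_rfl).2

end General

variable (R : Type u) [CommRing R] {n : ℕ} (hn : IsUnit (n : Γ(Spec (CommRingCat.of R), ⊤)))
  {L : EtCoh.Ab (Spec (CommRingCat.of R))} (hL : EtCoh.KilledBy n L)

include hn hL in
/-- The Mayer-Vietoris sequence of the projective line. -/
theorem line_charts [PreservesFiniteLimits (EtCoh.pull (CohB1.ProjSpace.toSpec 1 R))]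
    [PreservesFiniteLimits (EtCoh.pull (punctπ 1 (Spec (CommRingCat.of R))))]
    (hS : ∀ q, 0 < q → Subsingleton (EtCoh.H (Spec (CommRingCat.of R)) L q)) :
    Subsingleton (EtCoh.H (CohB1.ProjSpace 1 R) ((EtCoh.pull (CohB1.ProjSpace.toSpec 1 R)).obj L) 1) ∧
      ∀ q, 0 < q → Nonempty
        (EtCoh.H (Punct 1 (Spec (CommRingCat.of R)) : Scheme.{u})
          ((EtCoh.pull (punctπ 1 (Spec (CommRingCat.of R)))).obj L) q ≃+
        EtCoh.H (CohB1.ProjSpace 1 R) ((EtCoh.pull (CohB1.ProjSpace.toSpec 1 R)).obj L) (q + 1)) := by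
  let p := CohB1.ProjSpace.toSpec 1 R
  let U := (lineChart R 0).opensRange
  let V := (lineChart R 1).opensRange
  haveI := L27.EtSite.preservesFiniteLimits_pull U.ι
  haveI := L27.EtSite.preservesFiniteLimits_pull V.ι
  haveI := L27.EtSite.preservesFiniteLimits_pull (U ⊓ V).ι
  haveI := L27.EtSite.preservesFiniteLimits_pull (aspπ 1 (Spec (CommRingCat.of R)))
  let cW := (Punct 1 (Spec (CommRingCat.of R))).ι ≫ lineChart R 0
  have hcW : cW.opensRange = U ⊓ V := by
    show ((Punct 1 (Spec (CommRingCat.of R))).ι ≫ lineChart R 0).opensRange = _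
    rw [Scheme.Hom.opensRange_comp, Scheme.Opens.opensRange_ι, image_punct_lineChart]
  have hcπ : cW ≫ p = punctπ 1 (Spec (CommRingCat.of R)) := by
    rw [Category.assoc, lineChart_toSpec]
  have hb : ∀ q, Function.Bijective (EtCore.Hpull (aspπ 1 (Spec (CommRingCat.of R))) L q) := fun q =>
    bijective_Hpull_aspπ hn hL 1 q
  obtain ⟨h1, h2⟩ := two_charts U V (sup_opensRange_lineChart R) hS
    (fun q => bijective_resBase p L U (lineChart R 0) rfl _ (lineChart_toSpec R 0) q (hb q))
    (fun q => bijective_resBase p L V (lineChart R 1) rfl _ (lineChart_toSpec R 1) q (hb q))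
    (surjective_resBase p L (U ⊓ V) cW hcW _ hcπ 0 (surjective_Hpull_punct_zero hn hL))
  refine ⟨h1, fun q hq => ?_⟩
  obtain ⟨e⟩ := h2 q hq
  obtain ⟨T, -⟩ := exists_chart_equiv p L (U ⊓ V) cW hcW _ hcπ q
  exact ⟨T.symm.trans e⟩

section Strict

variable [HenselianLocalRing R] [IsSepClosed (ResidueField R)]

include hn in
theorem n_ne_zero : n ≠ 0 :=
  haveI : Nonempty (Spec (CommRingCat.of R)) := ⟨closedPoint R⟩
  ne_zero_of_isUnit hn

include hn hL in
/-- Comparison with the closed fibre. -/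
theorem nonempty_closedFibre_equiv [PreservesFiniteLimits (EtCoh.pull (CohB1.ProjSpace.toSpec 1 R))] (q : ℕ) :
    Nonempty (EtCoh.H (CohB1.ProjSpace 1 R) ((EtCoh.pull (CohB1.ProjSpace.toSpec 1 R)).obj L) q ≃+
      EtCoh.H (CohB1.ProjSpace 1 (ResidueField R))
        ((EtCoh.pull (CohB1.ProjSpace.toSpec 1 (ResidueField R))).obj ((EtCoh.pull (L27.PBC.clA R)).obj L)) q) := by
  let p := CohB1.ProjSpace.toSpec 1 R
  let pk := CohB1.ProjSpace.toSpec 1 (ResidueField R)
  let G := (EtCoh.pull p).obj L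
  haveI : IsProper p := inferInstanceAs (IsProper (CohB1.ProjSpace.toSpec 1 R))
  let sq := L16.ProjSpace.isPullback_map 1 (residue R)
  let k := pullback.fst p (L27.PBC.clA R)
  haveI := L27.EtSite.preservesFiniteLimits_pull k
  let θ := sq.isoPullback.hom
  have w : θ ≫ k = L16.ProjSpace.map 1 (residue R) := sq.isoPullback_hom_fst
  haveI := L27.EtSite.preservesFiniteLimits_pull θ
  have hG : EtCoh.IsTorsion G := isTorsion_of_killedBy (n_ne_zero R hn) (killedBy_pull p hL)
  let e₁ := AddEquiv.ofBijective _ (L27.PBC.isComp p q G hG)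
  let e₂ := AddEquiv.ofBijective _ (L27.ULA.bijective_HpullVia θ k _ w G q (Groth.Agent.S0642.result θ _ q))
  let i := (AcycCrit.kap p (L27.PBC.clA R) pk (L16.ProjSpace.map 1 (residue R)) sq.w).app L
  exact ⟨e₁.trans (e₂.trans (AddEquiv.ofBijective _
    (ConcreteCategory.bijective_of_isIso ((EtCoh.HF (CohB1.ProjSpace 1 (ResidueField R)) q).map i.inv))))⟩

include hn hL in
/-- No cohomology above degree one. -/
theorem subsingleton_H_punct_one [PreservesFiniteLimits (EtCoh.pull (punctπ 1 (Spec (CommRingCat.of R))))]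
    (q : ℕ) (hq : 2 ≤ q) :
    Subsingleton (EtCoh.H (Punct 1 (Spec (CommRingCat.of R)) : Scheme.{u})
      ((EtCoh.pull (punctπ 1 (Spec (CommRingCat.of R)))).obj L) q) := by
  haveI := L27.EtSite.preservesFiniteLimits_pull (CohB1.ProjSpace.toSpec 1 R)
  obtain ⟨e⟩ := (line_charts R hn hL (fun r hr =>
    RegCurve.subsingleton_H_strictLocal R ⟨inferInstance, inferInstance⟩ L r hr)).2 q (by omega)
  obtain ⟨e'⟩ := nonempty_closedFibre_equiv R hn hL (q + 1)
  let K := ResidueField R
  haveI : IsProper (CohB1.ProjSpace.toSpec 1 K) := inferInstanceAs (IsProper (CohB1.ProjSpace.toSpec 1 K))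
  refine (e.trans e').toEquiv.subsingleton_congr.2 ?_
  exact L27.PBC.subsingleton_H_proper (CohB1.ProjSpace.toSpec 1 K) 1
    (le_of_eq (L16.ProjSpace.topologicalKrullDim_eq_of_field 1 K)) _
    (isTorsion_of_killedBy (n_ne_zero R hn) (killedBy_pull _ (killedBy_pull _ hL))) (q + 1) (by omega)

include hn hL in
/-- The first cohomology only depends on the closed fibre. -/
theorem nonempty_H1_punct_equiv [PreservesFiniteLimits (EtCoh.pull (punctπ 1 (Spec (CommRingCat.of R))))]
    [PreservesFiniteLimits (EtCoh.pull (punctπ 1 (Spec (CommRingCat.of (ResidueField R)))))] :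
    Nonempty (EtCoh.H (Punct 1 (Spec (CommRingCat.of R)) : Scheme.{u})
        ((EtCoh.pull (punctπ 1 (Spec (CommRingCat.of R)))).obj L) 1 ≃+
      EtCoh.H (Punct 1 (Spec (CommRingCat.of (ResidueField R))) : Scheme.{u})
        ((EtCoh.pull (punctπ 1 (Spec (CommRingCat.of (ResidueField R))))).obj
          ((EtCoh.pull (L27.PBC.clA R)).obj L)) 1) := by
  haveI := L27.EtSite.preservesFiniteLimits_pull (CohB1.ProjSpace.toSpec 1 R)
  haveI := L27.EtSite.preservesFiniteLimits_pull (CohB1.ProjSpace.toSpec 1 (ResidueField R))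
  obtain ⟨e⟩ := (line_charts R hn hL (fun r hr =>
    RegCurve.subsingleton_H_strictLocal R ⟨inferInstance, inferInstance⟩ L r hr)).2 1 one_pos
  obtain ⟨e'⟩ := nonempty_closedFibre_equiv R hn hL 2
  obtain ⟨e''⟩ := (line_charts (ResidueField R) (isUnit_natCast_of_hom (L27.PBC.clA R) hn)
    (killedBy_pull _ hL) (fun r hr => by
      obtain ⟨i, rfl⟩ : ∃ i, r = i + 1 := ⟨r - 1, by omega⟩
      exact CurveCd.subsingleton_H_sepClosed _ _ i)).2 1 one_pos
  exact ⟨(e.trans e').trans e''.symm⟩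

end Strict

end Groth.L28.Pair
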