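import Groth.Agent.L28.Pair.BC
import Groth.Agent.L28.Pair.Twist
import Groth.Agent.L28.Misc.MuConst
import Groth.Agent.L05.Henselization.UnibranchIff
import Groth.Agent.L27.Acyclic0.Points
import Groth.Agent.S0642
import Groth.Agent.S6186
import Mathlib.Algebra.MvPolynomial.Equiv

/-!
The punctured strictly henselian line.
-/

set_option autoImplicit false
set_option linter.style.haveILetI false
set_option linter.unusedSectionVars false
set_option backward.isDefEq.respectTransparency.types false

universe u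

open CategoryTheory CategoryTheory.Limits AlgebraicGeometry Opposite IsLocalRing

noncomputable section

namespace Groth.L28.Pair.Line

/-- The index type of the coordinate of the line. -/
abbrev Idx : Type u := ULift.{u} (Fin 1)

theorem hasRoot_spec {A : Type u} [CommRing A] (hA : EtCoh.IsStrictlyHenselianLocalRing A) {n : ℕ} (hn : 1 ≤ n)
    (hu : IsUnit (n : A)) : HasRoot (Spec (CommRingCat.of A)) n := by
  obtain ⟨z, hz, hd⟩ := Misc.exists_root hA hn hu
  let φ : A →+* Γ(Spec (CommRingCat.of A), ⊤) := (Scheme.ΓSpecIso (CommRingCat.of A)).inv.hom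
  exact ⟨hn, Units.map φ.toMonoidHom z, by rw [← map_pow, hz, map_one], fun i hi hin => by
    simpa [map_sub, map_pow] using (hd i hi hin).map φ⟩

/-- A henselization with separably closed residue field is strictly henselian. -/
theorem isStrictlyHenselian_of_residue {A O B : Type u} [CommRing A] [IsLocalRing A] [CommRing O] [IsLocalRing O]
    [CommRing B] [IsLocalRing B] [Algebra O B] [IsLocalHom (algebraMap O B)] [hB : Hensel.IsHenselization O B]
    (hA : EtCoh.IsStrictlyHenselianLocalRing A) (f : A →+* O) [IsLocalHom f]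
    (hf : Function.Surjective ((residue O).comp f)) : IsSepClosed (ResidueField B) := by
  haveI : IsSepClosed (ResidueField A) := hA.2
  let g : ResidueField A →+* ResidueField B :=
    (ResidueField.map (algebraMap O B)).comp (ResidueField.map f)
  have hs : Function.Surjective g := fun b => by
    obtain ⟨b, rfl⟩ := residue_surjective b
    obtain ⟨o, ho⟩ := L05.Henselization.Branches.residue_surjective_hens (R := O) (S := B) b
    obtain ⟨a, ha⟩ := hf (residue O o)
    refine ⟨residue A a, ?_⟩
    show ResidueField.map (algebraMap O B) (ResidueField.map f (residue A a)) = residue B b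
    rw [show ResidueField.map f (residue A a) = residue O o from ha]
    show residue B (algebraMap O B o) = residue B b
    rw [← sub_eq_zero, ← map_sub, residue_eq_zero_iff]
    simpa using neg_mem ho
  let e : ResidueField A ≃+* ResidueField B := RingEquiv.ofBijective g ⟨g.injective, hs⟩
  refine IsSepClosed.of_exists_root _ fun p hp hirr hsep => ?_
  obtain ⟨a, ha⟩ := IsSepClosed.exists_root (p.map e.symm.toRingHom)
    (by rw [Polynomial.degree_map]; exact (Polynomial.degree_pos_of_irreducible hirr).ne') hsep.map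
  refine ⟨e a, e.symm.injective ?_⟩
  rw [map_zero, show e.symm (p.eval (e a)) = (p.map e.symm.toRingHom).eval a by
    rw [Polynomial.eval_map]
    simpa using (Polynomial.eval₂_at_apply e.symm.toRingHom (e a) (p := p)).symm]
  exact ha

/-- The cohomology of the punctured strictly henselian line. -/
theorem cohomology {A : Type u} [CommRing A] (hA : EtCoh.IsStrictlyHenselianLocalRing A)
    {B : Type u} [CommRing B] [HenselianLocalRing B] [IsSepClosed (ResidueField B)]
    [Algebra (MvPolynomial Idx.{u} A) B] [Algebra.WeaklyEtale (MvPolynomial Idx.{u} A) B]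
    (hy : algebraMap (MvPolynomial Idx.{u} A) B (MvPolynomial.X ⟨0⟩) ∈ maximalIdeal B)
    {n : ℕ} (hn : IsUnit (n : A)) :
    let L := Spec (CommRingCat.of (Localization.Away (algebraMap (MvPolynomial Idx.{u} A) B (MvPolynomial.X ⟨0⟩))))
    Nonempty (EtCoh.H L (EtCoh.mu L n) 1 ≃+ ZMod n) ∧ ∀ q : ℕ, 2 ≤ q → Subsingleton (EtCoh.H L (EtCoh.mu L n) q) := by
  intro L
  haveI := hA.1
  haveI : NeZero n := ⟨fun h => not_isUnit_zero (M₀ := A) (by rw [h, Nat.cast_zero] at hn; exact hn)⟩
  have hn1 : 1 ≤ n := Nat.one_le_iff_ne_zero.2 (NeZero.ne n)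
  let y : B := algebraMap (MvPolynomial Idx.{u} A) B (MvPolynomial.X ⟨0⟩)
  let S := Spec (CommRingCat.of A)
  let X := Asp 1 S
  let φ : CommRingCat.of (MvPolynomial Idx.{u} A) ⟶ CommRingCat.of B :=
    CommRingCat.ofHom (algebraMap (MvPolynomial Idx.{u} A) B)
  let c : Spec (CommRingCat.of (MvPolynomial Idx.{u} A)) ⟶ X :=
    (AffineSpace.SpecIso Idx.{u} (CommRingCat.of A)).inv
  let g : Spec (CommRingCat.of B) ⟶ X := Spec.map φ ≫ c
  let x : X := g (closedPoint B)
  letI : Algebra (X.presheaf.stalk x) B := (Scheme.stalkClosedPointTo (R := CommRingCat.of B) g).hom.toAlgebra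
  haveI : IsLocalHom (algebraMap (X.presheaf.stalk x) B) :=
    inferInstanceAs (IsLocalHom (Scheme.stalkClosedPointTo (R := CommRingCat.of B) g).hom)
  have hη : Spec.map (CommRingCat.ofHom (algebraMap (X.presheaf.stalk x) B)) ≫ X.fromSpecStalk x = g :=
    Scheme.Spec_stalkClosedPointTo_fromSpecStalk g
  haveI : Hensel.IsStrictHenselization (X.presheaf.stalk x) B := L27.Acyclic0.isStrictHenselization_of_chart c x hη
  have hη' : Hens2.specOf X x B = g := hη
  let j : (Punct 1 S : Scheme.{u}) ⟶ X := (Punct 1 S).ι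
  let C := EtCoh.const S (ZMod n)
  have hnS : IsUnit (n : Γ(S, ⊤)) := by
    have := hn.map (Scheme.ΓSpecIso (CommRingCat.of A)).inv.hom
    rwa [map_natCast] at this
  obtain ⟨hz, ⟨e⟩⟩ := univ_one S n hnS C (killedBy_const S n)
  obtain ⟨t⟩ := nonempty_twF_const (T := S) hnS (hasRoot_spec hA hn1 hn)
  -- the open piece
  have hP : g ⁻¹ᵁ Punct 1 S = PrimeSpectrum.basicOpen y := by
    ext p
    have hb : g ⁻¹ᵁ X.basicOpen (AffineSpace.coord S ⟨0⟩) = PrimeSpectrum.basicOpen y := by
      rw [Scheme.preimage_basicOpen_top, Scheme.Hom.comp_appTop, CommRingCat.comp_apply,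
        AffineSpace.SpecIso_inv_appTop_coord, ← CommRingCat.comp_apply, ← Scheme.ΓSpecIso_inv_naturality]
      exact basicOpen_eq_of_affine _
    constructor
    · intro hp
      obtain ⟨⟨a⟩, ha⟩ := TopologicalSpace.Opens.mem_iSup.1 (show g p ∈ Punct 1 S from hp)
      obtain rfl : a = 0 := Subsingleton.elim _ _
      exact (SetLike.ext_iff.1 hb p).1 ha
    · intro hp
      exact TopologicalSpace.Opens.mem_iSup.2 ⟨⟨0⟩, (SetLike.ext_iff.1 hb p).2 hp⟩
  let η := Hens2.specOf X x B
  have hrange : Set.range (pullback.snd j η) =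
      Set.range (Spec.map (CommRingCat.ofHom (algebraMap B (Localization.Away y)))) := by
    rw [Scheme.Pullback.range_snd, Scheme.Opens.range_ι]
    refine Eq.trans ?_ (PrimeSpectrum.localization_away_comap_range (Localization.Away y) y).symm
    show η ⁻¹' (Punct 1 S : Set X) = _
    rw [show η = g from hη']
    exact congrArg SetLike.coe hP
  haveI : IsOpenImmersion (Spec.map (CommRingCat.ofHom (algebraMap B (Localization.Away y)))) :=
    IsOpenImmersion.of_isLocalization y
  let θ : L ≅ pullback j η := IsOpenImmersion.isoOfRangeEq _ _ hrange.symm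
  let G := restrP S 1 C
  haveI := L27.EtSite.preservesFiniteLimits_pull θ.hom
  let ξ := Hens2.geomPt X x B
  have hstalk : ∀ q, Nonempty ((EtCoh.stalk ξ).obj ((EtCoh.Rpush j q).obj G) ≃+ EtCoh.H L (EtCoh.mu L n) q) :=
    fun q => by
      obtain ⟨nR⟩ := Groth.Agent.S6186.result j x B q
      let e₂ : EtCoh.H (pullback j η) ((EtCoh.pull (pullback.fst j η)).obj G) q ≃+
          EtCoh.H L ((EtCoh.pull (θ.hom ≫ pullback.fst j η)).obj G) q :=
        AddEquiv.ofBijective _
          (L27.ULA.bijective_HpullVia θ.hom (pullback.fst j η) _ rfl G q (Groth.Agent.S0642.result θ.hom _ q))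
      obtain ⟨μ⟩ := Misc.nonempty_mu_iso_const_of_strictly_henselian hA hn1 hn
        (θ.hom ≫ pullback.fst j η ≫ j ≫ aspπ 1 S : L ⟶ Spec (CommRingCat.of A))
      let cG : (EtCoh.pull (θ.hom ≫ pullback.fst j η)).obj G ≅ EtCoh.mu L n :=
        (EtCoh.pull _).mapIso ((EtCoh.pull j).mapIso (EtCore.pullConst (aspπ 1 S) (ZMod n)) ≪≫
          EtCore.pullConst j (ZMod n)) ≪≫ EtCore.pullConst _ (ZMod n) ≪≫ μ.symm
      exact ⟨(nR.app G).addCommGroupIsoToAddEquiv.trans
        (e₂.trans ((EtCoh.HF L q).mapIso cG).addCommGroupIsoToAddEquiv)⟩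
  have hxU : x ∉ Set.range j := by
    rw [Scheme.Opens.range_ι]
    intro h
    exact (SetLike.ext_iff.1 hP (closedPoint B)).1 h hy
  refine ⟨?_, fun q hq => ?_⟩
  · obtain ⟨es⟩ := hstalk 1
    let z := zeroSec 1 S
    let s := pullback.snd z ξ
    haveI : Surjective s := ⟨fun w => by
      obtain ⟨a, ha⟩ : x ∈ Set.range z := by
        by_contra h
        exact hxU (by rw [range_punct_ι]; exact h)
      have hw : ξ w = z a := by
        rw [show w = default from Subsingleton.elim _ _, L27.PBC.geomPt_default X x B, ha]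
      obtain ⟨q, -, hq⟩ := Scheme.Pullback.exists_preimage_pullback (f := z) (g := ξ) a w hw.symm
      exact ⟨q, hq⟩⟩
    haveI : IsIso s := isIso_of_isClosedImmersion_of_surjective s
    let ξS : Spec (CommRingCat.of (ResidueField B)) ⟶ S := inv s ≫ pullback.fst z ξ
    have hξ : ξS ≫ z = ξ := by rw [Category.assoc, pullback.condition, IsIso.inv_hom_id_assoc]
    haveI := L27.EtSite.isIso_counit z (L27.EtSite.propA_of_isIntegralHom z) C
    let E : (EtCoh.stalk ξ).obj ((EtCoh.push z).obj C) ≅ (EtCoh.stalk ξS).obj C :=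
      eqToIso (by rw [hξ]) ≪≫ ((L27.EtSite.stalkPullIso z ξS).app _).symm ≪≫
        (EtCoh.stalk ξS).mapIso (asIso ((EtCoh.pullPushAdj z).counit.app C))
    let K : (EtCoh.stalk ξS).obj C ≅ AddCommGrpCat.of (ULift.{u + 1} (ZMod n)) :=
      Pts.sheafFiberConstIso (Scheme.pointSmallEtale ξS)
        (GrothendieckTopology.Point.W_isInvertedBy_presheafFiber' (A := AddCommGrpCat.{u + 1}) (Scheme.pointSmallEtale ξS))
        (AddCommGrpCat.of (ULift.{u + 1} (ZMod n)))
    let T : (EtCoh.Rpush j 1).obj G ≅ (EtCoh.push z).obj C :=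
      e ≪≫ (EtCoh.push z).mapIso ((eqToIso rfl : (twPow S 1).obj C ≅ (twF S).obj C) ≪≫ t)
    exact ⟨es.symm.trans ((((EtCoh.stalk ξ).mapIso T ≪≫ E ≪≫ K).addCommGroupIsoToAddEquiv).trans AddEquiv.ulift)⟩
  · obtain ⟨es⟩ := hstalk q
    haveI := AddCommGrpCat.subsingleton_of_isZero ((EtCoh.stalk ξ).map_isZero (hz q (by omega) (by omega)))
    exact es.symm.toEquiv.subsingleton

end Groth.L28.Pair.Line
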