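import Groth.Agent.L28.Pair.Basic
import Groth.Agent.L17.AcyclicHomology
import Groth.Agent.L27.LimBC.StrictLocal
import Mathlib.CategoryTheory.Abelian.Basic

/-!
An open immersion read through a retraction of its closed complement.
-/

set_option autoImplicit false
set_option linter.style.haveILetI false
set_option linter.unusedSectionVars false
set_option backward.isDefEq.respectTransparency.types false

universe u

open CategoryTheory CategoryTheory.Limits AlgebraicGeometry

noncomputable section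

namespace Groth.L28.Pair

variable {S A U : Scheme.{u}} (j : U ⟶ A) [IsOpenImmersion j] (z : S ⟶ A) [IsClosedImmersion z]
  (hU : Set.range j = (Set.range z)ᶜ) (a : A ⟶ S) (hza : z ≫ a = 𝟙 S)

include hza in
theorem isIntegralHom_comp : IsIntegralHom (z ≫ a) := by rw [hza]; infer_instance

include hU hza in
/-- Sheaves supported on the section are acyclic for the retraction and determined by their image. -/
theorem supported_facts (G : EtCoh.Ab A) (h : IsZero ((EtCoh.pull j).obj G)) :
    (∀ p, 0 < p → IsZero ((EtCoh.Rpush a p).obj G)) ∧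
      Nonempty ((EtCoh.push a).obj G ≅ (EtCoh.pull z).obj G) := by
  obtain ⟨e⟩ := nonempty_iso_push_pull j z hU G h
  haveI := isIntegralHom_comp z a hza
  refine ⟨fun p hp => (isZero_rpush_push_closed z a (z ≫ a) rfl _ p hp).of_iso ((EtCoh.Rpush a p).mapIso e), ?_⟩
  exact ⟨(EtCoh.push a).mapIso e ≪≫ (EtCoh.pushComp a z).app _ ≪≫ (EtCoh.pushCongr hza).app _ ≪≫
    ((L27.LimBC.pushId (T := S)).app _).symm⟩

variable (L : EtCoh.Ab S)

/-- Inverse images along the composite. -/
def pullVia : (EtCoh.pull (j ≫ a)).obj L ≅ (EtCoh.pull j).obj ((EtCoh.pull a).obj L) :=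
  (EtCore.pullComp j a).app L

/-- The unit of the composite through the unit of the open immersion. -/
theorem isIso_push_unit [IsIso ((EtCoh.pullPushAdj a).unit.app L)]
    [IsIso ((EtCoh.pullPushAdj (j ≫ a)).unit.app L)] :
    IsIso ((EtCoh.push a).map ((EtCoh.pullPushAdj j).unit.app ((EtCoh.pull a).obj L))) := by
  let φ := (EtCoh.pullPushAdj j).unit.app ((EtCoh.pull a).obj L)
  let A₂ := ((EtCoh.pullPushAdj a).comp (EtCoh.pullPushAdj j)).ofNatIsoRight (EtCoh.pushComp a j)
  have h : (EtCoh.pullPushAdj (j ≫ a)).unit.app L ≫ (EtCoh.push (j ≫ a)).map ((EtCore.pullComp j a).hom.app L) =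
      A₂.unit.app L := Adjunction.unit_leftAdjointUniq_hom_app (EtCoh.pullPushAdj (j ≫ a)) A₂ L
  have h2 : A₂.unit.app L = ((EtCoh.pullPushAdj a).unit.app L ≫ (EtCoh.push a).map φ) ≫
      (EtCoh.pushComp a j).hom.app _ := by
    simp only [A₂, φ, Adjunction.ofNatIsoRight, Adjunction.mkOfHomEquiv_unit_app]
    simp [Adjunction.equivHomsetRightOfNatIso, Adjunction.comp_unit_app, Adjunction.homEquiv_unit]
  haveI : IsIso (((EtCoh.pullPushAdj a).unit.app L ≫ (EtCoh.push a).map φ) ≫
      (EtCoh.pushComp a j).hom.app ((EtCoh.pull j).obj ((EtCoh.pull a).obj L))) :=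
    (congrArg (fun m => IsIso m) (h.trans h2)).mp
      (inferInstanceAs (IsIso ((EtCoh.pullPushAdj (j ≫ a)).unit.app L ≫
        (EtCoh.push (j ≫ a)).map ((EtCore.pullComp j a).hom.app L))))
  haveI : IsIso ((EtCoh.pullPushAdj a).unit.app L ≫ (EtCoh.push a).map φ) :=
    IsIso.of_isIso_comp_right _ ((EtCoh.pushComp a j).hom.app ((EtCoh.pull j).obj ((EtCoh.pull a).obj L)))
  exact IsIso.of_isIso_comp_left ((EtCoh.pullPushAdj a).unit.app L) _

include hU hza in
/-- The unit is invertible when the units of the retraction and of the composite are. -/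
theorem isIso_unit_open [IsIso ((EtCoh.pullPushAdj a).unit.app L)]
    [IsIso ((EtCoh.pullPushAdj (j ≫ a)).unit.app L)] (h₁ : ∀ p, 0 < p → IsZero ((EtCoh.Rpush a p).obj ((EtCoh.pull a).obj L))) :
    IsIso ((EtCoh.pullPushAdj j).unit.app ((EtCoh.pull a).obj L)) := by
  haveI := isIso_push_unit j a L
  let φ := (EtCoh.pullPushAdj j).unit.app ((EtCoh.pull a).obj L)
  haveI : IsIso ((EtCoh.pull j).map φ) := isIso_pull_unit j _
  haveI := L27.EtSite.preservesFiniteLimits_pull j
  haveI : PreservesColimitsOfSize.{0, 0} (EtCoh.pull j) := (EtCoh.pullPushAdj j).leftAdjoint_preservesColimits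
  haveI : PreservesFiniteColimits (EtCoh.pull j) := PreservesColimitsOfSize.preservesFiniteColimits _
  haveI : (EtCoh.push a).Additive := (EtCoh.pullPushAdj a).right_adjoint_additive
  haveI := AcycCrit.preservesFiniteLimits_push a
  have zero_of : ∀ G : EtCoh.Ab A, IsZero ((EtCoh.pull j).obj G) → IsZero ((EtCoh.push a).obj G) → IsZero G := by
    intro G hG hG'
    obtain ⟨e⟩ := (supported_facts j z hU a hza G hG).2
    obtain ⟨e'⟩ := nonempty_iso_push_pull j z hU G hG
    exact ((EtCoh.push z).map_isZero (hG'.of_iso e.symm)).of_iso e'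
  have hK : IsZero ((EtCoh.pull j).obj (kernel φ)) :=
    (isZero_kernel_of_mono ((EtCoh.pull j).map φ)).of_iso (PreservesKernel.iso (EtCoh.pull j) φ)
  haveI : Mono φ := by
    have h0 : IsZero ((EtCoh.push a).obj (kernel φ)) :=
      (isZero_kernel_of_mono ((EtCoh.push a).map φ)).of_iso (PreservesKernel.iso (EtCoh.push a) φ)
    exact Preadditive.mono_of_isZero_kernel _ (zero_of _ hK h0)
  have hC : IsZero ((EtCoh.pull j).obj (cokernel φ)) :=
    (isZero_cokernel_of_epi ((EtCoh.pull j).map φ)).of_iso (PreservesCokernel.iso (EtCoh.pull j) φ)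
  let T : ShortComplex (EtCoh.Ab A) := ShortComplex.mk φ (cokernel.π φ) (cokernel.condition φ)
  have hT : T.ShortExact :=
    { exact := ShortComplex.exact_of_g_is_cokernel _ (cokernelIsCokernel φ) }
  haveI : Epi ((EtCoh.push a).map T.g) := L17.AcyclicHomology.epi_map (EtCoh.push a) hT fun q =>
    h₁ (q + 1) q.succ_pos
  haveI : Epi φ := by
    have h0 : (EtCoh.push a).map T.g = 0 := by
      rw [← cancel_epi ((EtCoh.push a).map φ), ← Functor.map_comp, T.zero, Functor.map_zero, comp_zero]
    exact Preadditive.epi_of_isZero_cokernel _ (zero_of _ hC (IsZero.of_epi_eq_zero _ h0))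
  exact isIso_of_mono_of_epi φ

include hU hza in
/-- The higher direct images along the open immersion in terms of the composite. -/
theorem nonempty_rpush_open_iso [IsIso ((EtCoh.pullPushAdj j).unit.app ((EtCoh.pull a).obj L))]
    (h₁ : ∀ p, 0 < p → IsZero ((EtCoh.Rpush a p).obj ((EtCoh.pull a).obj L))) (q : ℕ) (hq : 0 < q) :
    Nonempty ((EtCoh.pull z).obj ((EtCoh.Rpush j q).obj ((EtCoh.pull j).obj ((EtCoh.pull a).obj L))) ≅
      (EtCoh.Rpush (j ≫ a) q).obj ((EtCoh.pull (j ≫ a)).obj L)) := by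
  let F := (EtCoh.pull j).obj ((EtCoh.pull a).obj L)
  obtain ⟨e⟩ := nonempty_rpush_comp_of_acyclic j a F (fun r p hp => by
    cases r with
    | zero =>
      exact (h₁ p hp).of_iso ((EtCoh.Rpush a p).mapIso ((EtCoh.push j).rightDerivedZeroIsoSelf.app F ≪≫
        (asIso ((EtCoh.pullPushAdj j).unit.app ((EtCoh.pull a).obj L))).symm))
    | succ r => exact (supported_facts j z hU a hza _ (isZero_pull_rpush j F (r + 1) r.succ_pos)).1 p hp) q
  obtain ⟨e'⟩ := (supported_facts j z hU a hza _ (isZero_pull_rpush j F q hq)).2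
  exact ⟨e'.symm ≪≫ e.symm ≪≫ (EtCoh.Rpush (j ≫ a) q).mapIso (pullVia j a L).symm⟩

end Groth.L28.Pair
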