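import Groth.Agent.L28.Pair.Punct
import Groth.Agent.L28.Pair.Basic
import Mathlib.AlgebraicGeometry.Properties
import Mathlib.AlgebraicGeometry.ResidueField

/-!
The zero section of affine space.
-/

set_option autoImplicit false
set_option linter.style.haveILetI false
set_option linter.unusedSectionVars false
set_option backward.isDefEq.respectTransparency.types false

universe u

open CategoryTheory CategoryTheory.Limits AlgebraicGeometry

noncomputable section

namespace Groth.L28.Pair

variable (c : ℕ) (S : Scheme.{u})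

/-- The zero section. -/
def zeroSec : S ⟶ Asp c S := AffineSpace.homOfVector (𝟙 S) 0

@[simp, reassoc]
theorem zeroSec_over : zeroSec c S ≫ aspπ c S = 𝟙 S := AffineSpace.homOfVector_over _ _

instance : IsSplitMono (zeroSec c S) := ⟨⟨⟨aspπ c S, zeroSec_over c S⟩⟩⟩

instance : IsClosedImmersion (zeroSec c S) :=
  haveI : IsClosedImmersion (zeroSec c S ≫ aspπ c S) := by rw [zeroSec_over]; infer_instance
  IsClosedImmersion.of_comp (zeroSec c S) (aspπ c S)

theorem preimage_punct_zeroSec : zeroSec c S ⁻¹ᵁ Punct c S = ⊥ := by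
  refine le_bot_iff.1 fun y hy => ?_
  obtain ⟨a, ha⟩ := TopologicalSpace.Opens.mem_iSup.1 (show zeroSec c S y ∈ Punct c S from hy)
  have h : y ∈ zeroSec c S ⁻¹ᵁ (Asp c S).basicOpen (AffineSpace.coord S a) := ha
  rw [Scheme.preimage_basicOpen_top, zeroSec, AffineSpace.homOfVector_appTop_coord, Pi.zero_apply,
    Scheme.basicOpen_zero] at h
  exact h

/-- The punctured space is the complement of the zero section. -/
theorem range_punct_ι : Set.range (Punct c S).ι = (Set.range (zeroSec c S))ᶜ := by
  rw [Scheme.Opens.range_ι]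
  refine Set.Subset.antisymm ?_ fun x hx => ?_
  · rintro _ hx ⟨y, rfl⟩
    have : y ∈ zeroSec c S ⁻¹ᵁ Punct c S := hx
    rw [preimage_punct_zeroSec] at this
    exact this
  · by_contra h
    refine hx ?_
    let r := (Asp c S).fromSpecResidueField x
    have hr : r = r ≫ aspπ c S ≫ zeroSec c S := by
      refine AffineSpace.hom_ext (by simp) fun a => ?_
      have h1 : r ⁻¹ᵁ (Asp c S).basicOpen (AffineSpace.coord S a) = ⊥ := by
        refine le_bot_iff.1 fun z hz => h ?_
        have hz' : r z ∈ (Asp c S).basicOpen (AffineSpace.coord S a) := hz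
        rw [Scheme.fromSpecResidueField_apply] at hz'
        exact TopologicalSpace.Opens.mem_iSup.2 ⟨a, hz'⟩
      rw [Scheme.preimage_basicOpen_top] at h1
      refine (eq_zero_of_basicOpen_eq_bot _ h1).trans ?_
      rw [zeroSec, Scheme.Hom.comp_appTop, Scheme.Hom.comp_appTop, CommRingCat.comp_apply, CommRingCat.comp_apply,
        AffineSpace.homOfVector_appTop_coord]
      simp
    let z : Spec ((Asp c S).residueField x) := default
    have h2 : r z = x := Scheme.fromSpecResidueField_apply _ _
    refine ⟨(r ≫ aspπ c S) z, Eq.trans ?_ h2⟩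
    rw [← Scheme.Hom.comp_apply, Category.assoc]
    exact congr($(hr.symm) z)

theorem zeroSec_map {S' : Scheme.{u}} (f : S' ⟶ S) :
    zeroSec c S' ≫ AffineSpace.map (ULift.{u} (Fin c)) f = f ≫ zeroSec c S := by
  refine AffineSpace.hom_ext (by simp) fun a => ?_
  rw [Scheme.Hom.comp_appTop, Scheme.Hom.comp_appTop, CommRingCat.comp_apply, CommRingCat.comp_apply,
    AffineSpace.map_appTop_coord, zeroSec, zeroSec, AffineSpace.homOfVector_appTop_coord,
    AffineSpace.homOfVector_appTop_coord]
  simp

end Groth.L28.Pair
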