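import Groth.Agent.L28.Pair.GmStrict
import Groth.Agent.L28.Pair.Zero
import Groth.Agent.L28.Pair.Open
import Groth.Agent.S6186
import Groth.Agent.S0537

/-!
Purity for the zero section of the affine line.
-/

set_option autoImplicit false
set_option linter.style.haveILetI false
set_option linter.unusedSectionVars false
set_option backward.isDefEq.respectTransparency.types false

universe u

open CategoryTheory CategoryTheory.Limits AlgebraicGeometry Opposite IsLocalRing

noncomputable section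

namespace Groth.L28.Pair

variable (S : Scheme.{u})

/-- The sheaf coming from the base, on the punctured affine space. -/
abbrev restrP (c : ℕ) (L : EtCoh.Ab S) : EtCoh.Ab (Punct c S : Scheme.{u}) :=
  (EtCoh.pull (Punct c S).ι).obj ((EtCoh.pull (aspπ c S)).obj L)

/-- The residue of sheaves along the zero section of the line. -/
def twF : EtCoh.Ab S ⥤ EtCoh.Ab S :=
  EtCoh.pull (aspπ 1 S) ⋙ EtCoh.pull (Punct 1 S).ι ⋙ EtCoh.Rpush (Punct 1 S).ι 1 ⋙ EtCoh.pull (zeroSec 1 S)

/-- Its iterates. -/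
def twPow : ℕ → EtCoh.Ab S ⥤ EtCoh.Ab S
  | 0 => 𝟭 _
  | c + 1 => twF S ⋙ twPow c

instance : (twF S).Additive := by
  haveI := fun {A B : Scheme.{u}} (f : A ⟶ B) => (EtCoh.pullPushAdj f).left_adjoint_additive
  unfold twF; infer_instance

instance twPow_additive : ∀ c, (twPow S c).Additive
  | 0 => inferInstanceAs ((𝟭 (EtCoh.Ab S)).Additive)
  | c + 1 =>
    haveI := twPow_additive c
    inferInstanceAs ((twF S ⋙ twPow S c).Additive)

variable {S} {n : ℕ} (hn : IsUnit (n : Γ(S, ⊤))) {L : EtCoh.Ab S} (hL : EtCoh.KilledBy n L)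

include hL in
theorem killedBy_twF : EtCoh.KilledBy n ((twF S).obj L) := killedBy_functor _ hL

include hn hL in
theorem isIso_unit_asp (c : ℕ) : IsIso ((EtCoh.pullPushAdj (aspπ c S)).unit.app L) :=
  (L27.SmoothLA.acyclic_affineSpace S c n hn L hL).1

include hn hL in
theorem isZero_rpush_asp (c : ℕ) (p : ℕ) (hp : 0 < p) :
    IsZero ((EtCoh.Rpush (aspπ c S) p).obj ((EtCoh.pull (aspπ c S)).obj L)) :=
  (L27.SmoothLA.acyclic_affineSpace S c n hn L hL).2 p hp

include hn hL in
theorem isIso_unit_punct_open (c : ℕ) (hc : 0 < c) :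
    IsIso ((EtCoh.pullPushAdj (Punct c S).ι).unit.app ((EtCoh.pull (aspπ c S)).obj L)) :=
  haveI := isIso_unit_asp hn hL c
  haveI : IsIso ((EtCoh.pullPushAdj ((Punct c S).ι ≫ aspπ c S)).unit.app L) := isIso_unit_punctπ hn hL c hc
  isIso_unit_open (Punct c S).ι (zeroSec c S) (range_punct_ι c S) (aspπ c S) (zeroSec_over c S) L
    (isZero_rpush_asp hn hL c)

/-- The geometric stalks of higher direct images of pulled back sheaves along the punctured space. -/
theorem nonempty_stalk_rpush_punctπ (c : ℕ) (L : EtCoh.Ab S) (s : S) (R : Type u) [CommRing R] [IsLocalRing R]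
    [Algebra (S.presheaf.stalk s) R] [IsLocalHom (algebraMap (S.presheaf.stalk s) R)]
    [Hensel.IsStrictHenselization (S.presheaf.stalk s) R] [IsSepClosed (ResidueField R)] (q : ℕ) :
    Nonempty ((EtCoh.stalk (Hens2.geomPt S s R)).obj ((EtCoh.Rpush (punctπ c S) q).obj ((EtCoh.pull (punctπ c S)).obj L)) ≅
      (EtCoh.HF (Punct c (Spec (CommRingCat.of R)) : Scheme.{u}) q).obj
        ((EtCoh.pull (punctπ c (Spec (CommRingCat.of R)))).obj ((EtCoh.pull (Hens2.specOf S s R)).obj L))) := by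
  haveI : QuasiCompact (punctπ c S) := inferInstance
  haveI : QuasiSeparated (punctπ c S) := inferInstance
  let π := punctπ c S
  let η := Hens2.specOf S s R
  obtain ⟨nR⟩ := Groth.Agent.S6186.result π s R q
  let sq := isPullback_punctπ c η
  let θ := sq.isoPullback.hom
  have w : θ ≫ pullback.fst π η = punctMap c η := sq.isoPullback_hom_fst
  haveI := L27.EtSite.preservesFiniteLimits_pull θ
  let G := (EtCoh.pull π).obj L
  let e₁ := nR.app G
  let e₂ : EtCoh.H (pullback π η) ((EtCoh.pull (pullback.fst π η)).obj G) q ≃+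
      EtCoh.H (Punct c (Spec (CommRingCat.of R)) : Scheme.{u}) ((EtCoh.pull (punctMap c η)).obj G) q :=
    AddEquiv.ofBijective _
      (L27.ULA.bijective_HpullVia θ (pullback.fst π η) _ w G q (Groth.Agent.S0642.result θ _ q))
  exact ⟨e₁ ≪≫ e₂.toAddCommGrpIso ≪≫ (EtCoh.HF _ q).mapIso
    ((AcycCrit.kap π η (punctπ c (Spec (CommRingCat.of R))) (punctMap c η) sq.w).app L).symm⟩

include hn hL in
theorem isZero_rpush_punctπ_one (q : ℕ) (hq : 2 ≤ q) :
    IsZero ((EtCoh.Rpush (punctπ 1 S) q).obj ((EtCoh.pull (punctπ 1 S)).obj L)) := by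
  refine L27.EtSite.isZero_of_stalks _ fun s => ?_
  obtain ⟨R, _, _, _, _, hR⟩ := Groth.Agent.S0537.result (S.presheaf.stalk s)
  haveI := hR.henselian
  haveI : IsSepClosed (ResidueField R) := hR.isSepClosure.sep_closed
  refine ⟨ResidueField R, inferInstance, inferInstance, Hens2.geomPt S s R, L27.PBC.geomPt_default S s R, ?_⟩
  haveI := L27.EtSite.preservesFiniteLimits_pull (punctπ 1 (Spec (CommRingCat.of R)))
  obtain ⟨e⟩ := nonempty_stalk_rpush_punctπ 1 L s R q
  haveI := subsingleton_H_punct_one R (isUnit_natCast_of_hom (Hens2.specOf S s R) hn) (L := (EtCoh.pull (Hens2.specOf S s R)).obj L) (killedBy_pull _ hL) q hq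
  exact (AddCommGrpCat.isZero_of_subsingleton (AddCommGrpCat.of (EtCoh.H (Punct 1 (Spec (CommRingCat.of R)) : Scheme.{u})
    ((EtCoh.pull (punctπ 1 (Spec (CommRingCat.of R)))).obj ((EtCoh.pull (Hens2.specOf S s R)).obj L)) q))).of_iso e

include hn hL in
theorem nonempty_twF_iso :
    Nonempty ((twF S).obj L ≅ (EtCoh.Rpush (punctπ 1 S) 1).obj ((EtCoh.pull (punctπ 1 S)).obj L)) :=
  haveI := isIso_unit_punct_open hn hL 1 one_pos
  nonempty_rpush_open_iso (Punct 1 S).ι (zeroSec 1 S) (range_punct_ι 1 S) (aspπ 1 S) (zeroSec_over 1 S) L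
    (isZero_rpush_asp hn hL 1) 1 one_pos

include hn hL in
/-- Purity for the zero section of the line. -/
theorem universal_one :
    (∀ q, 2 ≤ q → IsZero ((EtCoh.Rpush (Punct 1 S).ι q).obj (restrP S 1 L))) ∧
      Nonempty ((EtCoh.Rpush (Punct 1 S).ι 1).obj (restrP S 1 L) ≅ (EtCoh.push (zeroSec 1 S)).obj ((twF S).obj L)) := by
  haveI := isIso_unit_punct_open hn hL 1 one_pos
  refine ⟨fun q hq => ?_, ?_⟩
  · obtain ⟨e⟩ := nonempty_rpush_iso_push (Punct 1 S).ι (zeroSec 1 S) (range_punct_ι 1 S) (restrP S 1 L) q (by omega)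
    obtain ⟨e'⟩ := nonempty_rpush_open_iso (Punct 1 S).ι (zeroSec 1 S) (range_punct_ι 1 S) (aspπ 1 S)
      (zeroSec_over 1 S) L (isZero_rpush_asp hn hL 1) q (by omega)
    exact ((EtCoh.push (zeroSec 1 S)).map_isZero ((isZero_rpush_punctπ_one hn hL q hq).of_iso e')).of_iso e
  · exact nonempty_rpush_iso_push (Punct 1 S).ι (zeroSec 1 S) (range_punct_ι 1 S) (restrP S 1 L) 1 one_pos

end Groth.L28.Pair
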