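import Groth.Agent.L16.ProjSpace.CoordSect
import Mathlib.AlgebraicGeometry.AffineSpace

/-!
The two standard charts of the projective line as affine lines.
-/

set_option autoImplicit false
set_option linter.style.haveILetI false
set_option linter.unusedSectionVars false
set_option backward.isDefEq.respectTransparency.types false

universe u

open CategoryTheory CategoryTheory.Limits AlgebraicGeometry MvPolynomial

noncomputable section

namespace Groth.L28.Pair

/-- Affine space with coordinates indexed by `Fin c`. -/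
abbrev Asp (c : ℕ) (S : Scheme.{u}) : Scheme.{u} := 𝔸(ULift.{u} (Fin c); S)

/-- Its structure map. -/
abbrev aspπ (c : ℕ) (S : Scheme.{u}) : Asp c S ⟶ S := 𝔸(ULift.{u} (Fin c); S) ↘ S

/-- The complement of the zero section. -/
abbrev Punct (c : ℕ) (S : Scheme.{u}) : (Asp c S).Opens :=
  ⨆ a : ULift.{u} (Fin c), (Asp c S).basicOpen (AffineSpace.coord S a)

theorem punct_one (S : Scheme.{u}) (a : ULift.{u} (Fin 1)) : Punct 1 S = (Asp 1 S).basicOpen (AffineSpace.coord S a) := by
  refine le_antisymm (iSup_le fun b => ?_) (le_iSup_of_le a le_rfl)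
  rw [Subsingleton.elim b a]

open L16.ProjSpace in
/-- The variable of a chart of the line. -/
def chartVarEquiv (i : Fin 2) : ULift.{u} (Fin 1) ≃ ChartVar 1 i where
  toFun _ := ⟨i + 1, by fin_cases i <;> decide⟩
  invFun _ := ⟨0⟩
  left_inv _ := Subsingleton.elim _ _
  right_inv x := Subtype.ext (by
    obtain ⟨j, hj⟩ := x
    fin_cases i <;> fin_cases j <;> first | rfl | exact absurd rfl hj)

variable (R : Type u) [CommRing R]

open L16.ProjSpace in
/-- A chart of the line from the affine line. -/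
def lineChart (i : Fin 2) : Asp 1 (Spec (CommRingCat.of R)) ⟶ CohB1.ProjSpace 1 R :=
  (AffineSpace.SpecIso (ULift.{u} (Fin 1)) (CommRingCat.of R)).hom ≫
    Spec.map (CommRingCat.ofHom (renameEquiv R (chartVarEquiv i).symm).toRingEquiv.toRingHom) ≫ chart 1 R i

instance (i : Fin 2) :
    IsIso (CommRingCat.ofHom (renameEquiv R (chartVarEquiv.{u} i).symm).toRingEquiv.toRingHom) :=
  (renameEquiv R (chartVarEquiv.{u} i).symm).toRingEquiv.toCommRingCatIso.isIso_hom

instance (i : Fin 2) : IsOpenImmersion (lineChart R i) := by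
  unfold lineChart; infer_instance

theorem lineChart_toSpec (i : Fin 2) :
    lineChart R i ≫ CohB1.ProjSpace.toSpec 1 R = aspπ 1 (Spec (CommRingCat.of R)) := by
  rw [lineChart, Category.assoc, Category.assoc, L16.ProjSpace.chart_toSpec, ← Spec.map_comp]
  have h : CommRingCat.ofHom (C : R →+* MvPolynomial (L16.ProjSpace.ChartVar 1 i) R) ≫
      CommRingCat.ofHom (renameEquiv R (chartVarEquiv i).symm).toRingEquiv.toRingHom =
        CommRingCat.ofHom (C : R →+* MvPolynomial (ULift.{u} (Fin 1)) R) := by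
    ext r
    simp
  rw [h]
  exact (congrArg (_ ≫ ·) (AffineSpace.SpecIso_inv_over (n := ULift.{u} (Fin 1)) (CommRingCat.of R)).symm).trans
    (Iso.hom_inv_id_assoc _ _)

theorem opensRange_lineChart (i : Fin 2) :
    (lineChart R i).opensRange = Proj.basicOpen (CohB1.polyGrading 1 R) (X i) := by
  show ((AffineSpace.SpecIso (ULift.{u} (Fin 1)) (CommRingCat.of R)).hom ≫
    Spec.map (CommRingCat.ofHom (renameEquiv R (chartVarEquiv i).symm).toRingEquiv.toRingHom) ≫
      L16.ProjSpace.chart 1 R i).opensRange = _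
  rw [Scheme.Hom.opensRange_comp_of_isIso, Scheme.Hom.opensRange_comp_of_isIso,
    L16.ProjSpace.opensRange_chart]

theorem sup_opensRange_lineChart : (lineChart R 0).opensRange ⊔ (lineChart R 1).opensRange = ⊤ := by
  refine top_le_iff.1 fun x _ => ?_
  obtain ⟨i, hi⟩ := L16.ProjSpace.exists_mem_basicOpen_X 1 R x
  rw [← opensRange_lineChart] at hi
  fin_cases i
  · exact Or.inl hi
  · exact Or.inr hi

open L16.ProjSpace in
theorem preimage_lineChart_zero :
    lineChart R 0 ⁻¹ᵁ (lineChart R 1).opensRange =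
      (Asp 1 (Spec (CommRingCat.of R))).basicOpen (AffineSpace.coord _ ⟨0⟩) := by
  rw [opensRange_lineChart]
  let e := AffineSpace.SpecIso (ULift.{u} (Fin 1)) (CommRingCat.of R)
  let ρ := CommRingCat.ofHom (renameEquiv R (chartVarEquiv (0 : Fin 2)).symm).toRingEquiv.toRingHom
  let φ := CommRingCat.ofHom (awayEquiv 1 R 0).symm.toRingHom
  show e.hom ⁻¹ᵁ (Spec.map ρ ⁻¹ᵁ (Spec.map φ ⁻¹ᵁ (chartAway 1 R 0 ⁻¹ᵁ Proj.basicOpen _ (X 1)))) = _
  have h := Proj.awayι_preimage_basicOpen (CohB1.polyGrading 1 R) (X_mem 1 R 0) one_pos (X_mem 1 R 1) one_pos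
  rw [show chartAway 1 R 0 ⁻¹ᵁ Proj.basicOpen _ (X 1) = _ from h]
  erw [SpecMap_preimage_basicOpen]
  have h2 : ρ (φ (HomogeneousLocalization.Away.isLocalizationElem (X_mem 1 R 0) (X_mem 1 R 1))) =
      (X ⟨0⟩ : MvPolynomial (ULift.{u} (Fin 1)) R) := by
    show (renameEquiv R (chartVarEquiv 0).symm) ((awayEquiv 1 R 0).symm _) = _
    have e1 : (awayEquiv 1 R 0).symm (HomogeneousLocalization.Away.isLocalizationElem (X_mem 1 R 0) (X_mem 1 R 1)) =
        cratio 1 R 0 1 := by
      refine Eq.trans ?_ (awayEquiv_symm_mk 1 R 0 1)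
      refine congrArg _ (HomogeneousLocalization.val_injective _ ?_)
      simp [HomogeneousLocalization.Away.isLocalizationElem, Xd]
    rw [e1, cratio, dif_neg (by decide)]
    simp
    exact congrArg X (Subsingleton.elim _ _)
  rw [h2]
  refine (congrArg (e.hom ⁻¹ᵁ ·)
    (basicOpen_eq_of_affine (R := CommRingCat.of (MvPolynomial (ULift.{u} (Fin 1)) R)) (X ⟨0⟩)).symm).trans ?_
  erw [Scheme.preimage_basicOpen_top]
  congr 1
  refine (congrArg e.hom.appTop
    (AffineSpace.SpecIso_inv_appTop_coord (CommRingCat.of R) (⟨0⟩ : ULift.{u} (Fin 1))).symm).trans ?_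
  show (e.inv.appTop ≫ e.hom.appTop) _ = _
  rw [← Scheme.Hom.comp_appTop, e.hom_inv_id]
  rfl

/-- The intersection of the two charts. -/
theorem image_punct_lineChart :
    lineChart R 0 ''ᵁ Punct 1 (Spec (CommRingCat.of R)) =
      (lineChart R 0).opensRange ⊓ (lineChart R 1).opensRange := by
  rw [punct_one _ ⟨0⟩, ← preimage_lineChart_zero, Scheme.Hom.image_preimage_eq_opensRange_inf]

end Groth.L28.Pair
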