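import Groth.Agent.L28.Pair.P1
import Groth.Agent.L28.EtTrace.Galois
import Groth.Agent.L27.StalkBC.BCStep
import Groth.Agent.L27.SecChart.Main
import Mathlib.AlgebraicGeometry.Morphisms.QuasiCompact
import Mathlib.AlgebraicGeometry.Morphisms.Separated

/-!
Punctured affine spaces and base change.
-/

set_option autoImplicit false
set_option linter.style.haveILetI false
set_option linter.unusedSectionVars false
set_option backward.isDefEq.respectTransparency.types false

universe u

open CategoryTheory CategoryTheory.Limits AlgebraicGeometry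

noncomputable section

namespace Groth.L28.Pair

variable (c : ℕ)

/-- The structure map of the punctured affine space. -/
abbrev punctπ (S : Scheme.{u}) : (Punct c S : Scheme.{u}) ⟶ S := (Punct c S).ι ≫ aspπ c S

instance (S : Scheme.{u}) : Smooth (aspπ c S) := L27.SecChart.smooth_over _ _

theorem quasiCompact_punct_ι (S : Scheme.{u}) : QuasiCompact (Punct c S).ι := by
  rw [quasiCompact_iff_forall_isAffineOpen]
  intro W hW
  rw [(Punct c S).ι.isOpenEmbedding.isInducing.isCompact_iff]
  have : (Punct c S).ι '' ((Punct c S).ι ⁻¹ᵁ W : Set (Punct c S : Scheme.{u})) =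
      ⋃ a : ULift.{u} (Fin c), ((W ⊓ (Asp c S).basicOpen (AffineSpace.coord S a) : (Asp c S).Opens) : Set (Asp c S)) := by
    show (Punct c S).ι '' ((Punct c S).ι ⁻¹' (W : Set (Asp c S))) = _
    rw [Set.image_preimage_eq_inter_range, Scheme.Opens.range_ι, TopologicalSpace.Opens.coe_iSup, Set.inter_iUnion]
    rfl
  rw [this]
  refine isCompact_iUnion fun a => ?_
  have h := (hW.basicOpen ((Asp c S).presheaf.map (homOfLE (le_top : W ≤ ⊤)).op (AffineSpace.coord S a))).isCompact
  rwa [Scheme.basicOpen_res] at h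

instance (S : Scheme.{u}) : QuasiCompact (Punct c S).ι := quasiCompact_punct_ι c S

/-- The punctured spaces form a stable family. -/
theorem map_preimage_punct {S' S : Scheme.{u}} (f : S' ⟶ S) :
    AffineSpace.map (ULift.{u} (Fin c)) f ⁻¹ᵁ Punct c S = Punct c S' := by
  refine TopologicalSpace.Opens.ext ?_
  show (AffineSpace.map (ULift.{u} (Fin c)) f) ⁻¹' ((Punct c S : (Asp c S).Opens) : Set (Asp c S)) = _
  rw [TopologicalSpace.Opens.coe_iSup, TopologicalSpace.Opens.coe_iSup, Set.preimage_iUnion]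
  refine Set.iUnion_congr fun a => ?_
  exact congrArg (fun W : (Asp c S').Opens => (W : Set (Asp c S')))
    ((Scheme.preimage_basicOpen_top (AffineSpace.map (ULift.{u} (Fin c)) f) (AffineSpace.coord S a)).trans
      (congrArg (Asp c S').basicOpen (AffineSpace.map_appTop_coord f a)))

/-- The map of punctured spaces. -/
def punctMap {S' S : Scheme.{u}} (f : S' ⟶ S) : (Punct c S' : Scheme.{u}) ⟶ Punct c S :=
  (AffineSpace.map (ULift.{u} (Fin c)) f).resLE (Punct c S) (Punct c S') (map_preimage_punct c f).ge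

theorem punctMap_ι {S' S : Scheme.{u}} (f : S' ⟶ S) :
    punctMap c f ≫ (Punct c S).ι = (Punct c S').ι ≫ AffineSpace.map (ULift.{u} (Fin c)) f :=
  Scheme.Hom.resLE_comp_ι _ _

theorem isPullback_punct_ι {S' S : Scheme.{u}} (f : S' ⟶ S) :
    IsPullback (punctMap c f) (Punct c S').ι (Punct c S).ι (AffineSpace.map (ULift.{u} (Fin c)) f) := by
  refine (IsOpenImmersion.isPullback _ _ _ _ (punctMap_ι c f).symm ?_)
  rw [Scheme.Opens.opensRange_ι, Scheme.Opens.opensRange_ι, map_preimage_punct]

theorem isPullback_punctπ {S' S : Scheme.{u}} (f : S' ⟶ S) :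
    IsPullback (punctMap c f) (punctπ c S') (punctπ c S) f :=
  (isPullback_punct_ι c f).paste_vert (AffineSpace.isPullback_map f)

variable {X : Scheme.{u}}

theorem isTorsion_of_killedBy {n : ℕ} (hn : n ≠ 0) {F : EtCoh.Ab X} (h : EtCoh.KilledBy n F) : EtCoh.IsTorsion F :=
  L28.EtTrace.isTorsion_of_nsmul (Nat.pos_of_ne_zero hn) (L27.StalkBC.nsmul_id_eq_zero h)

theorem ne_zero_of_isUnit [Nonempty X] {n : ℕ} (hn : IsUnit (n : Γ(X, ⊤))) : n ≠ 0 := by
  rintro rfl
  obtain ⟨x⟩ := ‹Nonempty X›
  have h := hn.map (X.presheaf.germ ⊤ x trivial).hom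
  rw [map_natCast, Nat.cast_zero, isUnit_zero_iff] at h
  exact zero_ne_one h

end Groth.L28.Pair
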