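import Groth.Agent.L28.Pair.Eqn
import Groth.Agent.L10.RegularUFD
import Groth.Agent.L28.GmH1.Punctured
import Groth.Agent.L05.Henselization.EtaleLike
import Groth.Agent.L21.CurvFib.EtaleField
import Groth.Agent.L23.SourceRegular
import Mathlib.RingTheory.Nakayama
import Mathlib.RingTheory.KrullDimension.NonZeroDivisors
import Mathlib.AlgebraicGeometry.Morphisms.ClosedImmersion

/-!
Local equations of a regular divisor in a regular scheme.
-/

set_option autoImplicit false
set_option linter.style.haveILetI false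
set_option linter.unusedSectionVars false
set_option backward.isDefEq.respectTransparency.types false

universe u

open CategoryTheory CategoryTheory.Limits AlgebraicGeometry Opposite IsLocalRing

noncomputable section

namespace Groth.L28.Pair.Reg

/-- A parameter stays a parameter along flat local maps preserving the maximal ideal. -/
theorem notMem_sq_map {A B : Type u} [CommRing A] [IsLocalRing A] [CommRing B] [IsLocalRing B] [Algebra A B]
    [Module.Flat A B] (hm : (maximalIdeal A).map (algebraMap A B) = maximalIdeal B) {a : A}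
    (ha : a ∉ maximalIdeal A ^ 2) : algebraMap A B a ∉ maximalIdeal B ^ 2 := fun h => by
  haveI := L05.Henselization.faithfullyFlat_of_map_maximalIdeal A B hm
  rw [← hm, ← Ideal.map_pow, ← Ideal.mem_comap, Ideal.comap_map_eq_self_of_faithfullyFlat] at h
  exact ha h

/-- The kernel of a surjection of regular local rings dropping the dimension by one. -/
theorem exists_generator {A B : Type u} [CommRing A] [IsRegularLocalRing A] [CommRing B] [IsRegularLocalRing B]
    (σ : A →+* B) (hσ : Function.Surjective σ) (hd : ringKrullDim A = ringKrullDim B + 1) :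
    ∃ π : A, RingHom.ker σ = Ideal.span {π} ∧ π ∈ maximalIdeal A ∧ π ∉ maximalIdeal A ^ 2 := by
  haveI := L01.isDomain_of_regular A
  haveI := L01.isDomain_of_regular B
  haveI := L10.RegUFD.isUFD A
  obtain ⟨b, hb⟩ : ∃ b : ℕ, ringKrullDim B = b := by
    obtain ⟨n, hn⟩ := ENat.ne_top_iff_exists.mp
      (Ideal.height_ne_top (I := maximalIdeal B) (maximalIdeal.isMaximal B).ne_top)
    exact ⟨n, by rw [← IsLocalRing.maximalIdeal_height_eq_ringKrullDim, ← hn]; rfl⟩
  let P := RingHom.ker σ
  haveI : P.IsPrime := RingHom.ker_isPrime σ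
  have hne : P ≠ ⊥ := fun h => by
    have e := ringKrullDim_eq_of_ringEquiv (RingEquiv.ofBijective σ ⟨(RingHom.injective_iff_ker_eq_bot σ).2 h, hσ⟩)
    rw [hd, hb] at e
    exact absurd e (by exact_mod_cast (Nat.succ_ne_self b))
  obtain ⟨π, hπP, hπ⟩ := Ideal.IsPrime.exists_mem_prime_of_ne_bot ‹P.IsPrime› hne
  have hker : P = Ideal.span {π} := by
    refine le_antisymm (fun p hp => ?_) ((Ideal.span_singleton_le_iff_mem _).2 hπP)
    by_contra hpn
    let I := Ideal.span {π}
    haveI : I.IsPrime := (Ideal.span_singleton_prime hπ.ne_zero).2 hπ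
    let p' : A ⧸ I := Ideal.Quotient.mk I p
    have hp' : p' ∈ nonZeroDivisors (A ⧸ I) :=
      mem_nonZeroDivisors_of_ne_zero fun h => hpn (Ideal.Quotient.eq_zero_iff_mem.1 h)
    have h1 := ringKrullDim_quotient_succ_le_of_nonZeroDivisor hp'
    have h2 := ringKrullDim_quotient_succ_le_of_nonZeroDivisor (mem_nonZeroDivisors_of_ne_zero hπ.ne_zero : π ∈ nonZeroDivisors A)
    let σ₁ : A ⧸ I →+* B := Ideal.Quotient.lift I σ ((Ideal.span_singleton_le_iff_mem _).2 hπP)
    have h3 : ringKrullDim B ≤ ringKrullDim ((A ⧸ I) ⧸ Ideal.span {p'}) :=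
      ringKrullDim_le_of_surjective (Ideal.Quotient.lift (Ideal.span {p'}) σ₁
        ((Ideal.span_singleton_le_iff_mem (RingHom.ker σ₁)).2 hp))
        (Ideal.Quotient.lift_surjective_of_surjective _ _ (Ideal.Quotient.lift_surjective_of_surjective _ _ hσ))
    have h4 : ringKrullDim B + 1 + 1 ≤ ringKrullDim B + 1 :=
      hd ▸ ((add_le_add (add_le_add h3 le_rfl) le_rfl).trans ((add_le_add h1 le_rfl).trans h2))
    rw [hb] at h4
    exact absurd h4 (by exact_mod_cast (Nat.not_succ_le_self (b + 1)))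
  have hπm : π ∈ maximalIdeal A := fun hu => ‹P.IsPrime›.ne_top (Ideal.eq_top_of_isUnit_mem _ hπP hu)
  refine ⟨π, hker, hπm, fun hsq => ?_⟩
  haveI : IsLocalHom σ := IsLocalHom.of_surjective σ hσ
  have hmB : (maximalIdeal A).map σ = maximalIdeal B := IsLocalRing.map_maximalIdeal_of_surjective σ hσ
  have hfinA : (maximalIdeal A).spanFinrank = b + 1 := by
    have := IsRegularLocalRing.spanFinrank_maximalIdeal (R := A)
    rw [hd, hb] at this
    exact_mod_cast this
  have hfgB : (maximalIdeal B).FG := IsNoetherian.noetherian _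
  let G : Set B := Submodule.generators (maximalIdeal B)
  have hG : G.ncard = b := by
    rw [Submodule.FG.generators_ncard hfgB]
    have := IsRegularLocalRing.spanFinrank_maximalIdeal (R := B)
    rw [hb] at this
    exact_mod_cast this
  have hGfin : G.Finite := Submodule.FG.finite_generators hfgB
  let T : Set A := Function.surjInv hσ '' G
  have hT : (Ideal.span T).map σ = maximalIdeal B := by
    rw [Ideal.map_span, ← Set.image_comp]
    have hid : (σ ∘ Function.surjInv hσ) '' G = G := by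
      rw [show (σ ∘ Function.surjInv hσ) = id from funext (Function.surjInv_eq hσ), Set.image_id]
    rw [hid]
    exact Submodule.span_generators _
  have hle : maximalIdeal A ≤ Ideal.span T ⊔ maximalIdeal A ^ 2 := by
    intro a ha
    have h1 : σ a ∈ (Ideal.span T).map σ := by rw [hT, ← hmB]; exact Ideal.mem_map_of_mem σ ha
    obtain ⟨c, hc, hca⟩ := (Ideal.mem_map_iff_of_surjective σ hσ).1 h1
    have h2 : a - c ∈ P := by rw [RingHom.mem_ker, map_sub, hca, sub_self]
    have h3 : a - c ∈ maximalIdeal A ^ 2 := by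
      rw [show P = Ideal.span {π} from hker, Ideal.mem_span_singleton'] at h2
      obtain ⟨r, hr⟩ := h2
      exact hr ▸ Ideal.mul_mem_left _ r hsq
    have := Submodule.add_mem_sup hc h3
    rwa [add_sub_cancel] at this
  have hnak : maximalIdeal A ≤ Ideal.span T :=
    Submodule.le_of_le_smul_of_le_jacobson_bot (IsNoetherian.noetherian _) (IsLocalRing.maximalIdeal_le_jacobson ⊥)
      (by simpa [pow_two] using hle)
  have hTeq : Ideal.span T = maximalIdeal A := by
    refine le_antisymm (IsLocalRing.le_maximalIdeal fun htop => ?_) hnak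
    rw [htop, Ideal.map_top] at hT
    exact (maximalIdeal.isMaximal B).ne_top hT.symm
  have hcard : (maximalIdeal A).spanFinrank ≤ b := by
    rw [← hTeq]
    exact (Submodule.spanFinrank_span_le_ncard_of_finite (hGfin.image _)).trans
      ((Set.ncard_image_le hGfin).trans hG.le)
  omega

/-- A generator of an ideal of a local ring generated by a set can be found in the set. -/
theorem exists_mem_span_eq {A : Type u} [CommRing A] [IsLocalRing A] [IsDomain A] {G : Set A} {π : A} (hπ : π ≠ 0)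
    (h : Ideal.span G = Ideal.span {π}) : ∃ g ∈ G, Ideal.span {g} = Ideal.span {π} := by
  by_contra hne
  push Not at hne
  have hle : Ideal.span G ≤ maximalIdeal A * Ideal.span {π} := Ideal.span_le.2 fun g hg => by
    obtain ⟨r, rfl⟩ := Ideal.mem_span_singleton'.1 (h ▸ Ideal.subset_span hg : g ∈ Ideal.span {π})
    refine Ideal.mul_mem_mul (fun hu => hne _ hg ?_) (Ideal.mem_span_singleton_self π)
    exact Ideal.span_singleton_eq_span_singleton.2 (associated_unit_mul_left π r hu)
  obtain ⟨r, hr, e⟩ := Ideal.mem_mul_span_singleton.1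
    (hle (h.symm ▸ Ideal.mem_span_singleton_self π : π ∈ Ideal.span G))
  have : r = 1 := mul_right_cancel₀ hπ (e.trans (one_mul π).symm)
  exact (maximalIdeal.isMaximal A).ne_top ((Ideal.eq_top_iff_one _).2 (this ▸ hr))

theorem notMem_sq_of_span_eq {A : Type u} [CommRing A] [IsLocalRing A] [IsDomain A] {a b : A}
    (h : Ideal.span {a} = Ideal.span {b}) (hb : b ∉ maximalIdeal A ^ 2) : a ∉ maximalIdeal A ^ 2 := fun ha => by
  obtain ⟨c, hc⟩ := Ideal.mem_span_singleton'.1 (h.symm ▸ Ideal.mem_span_singleton_self b : b ∈ Ideal.span {a})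
  exact hb (hc ▸ Ideal.mul_mem_left _ c ha)

section Chart

variable {X Y : Scheme.{u}} (i : Y ⟶ X)

/-- A local equation which is a parameter along the closed part. -/
structure Chart where
  /-- The domain. -/
  W : X.Opens
  /-- The equation. -/
  t : Γ(X, W)
  mem : ∀ (x : X) (_ : x ∈ W), x ∈ X.basicOpen t ↔ x ∉ Set.range i
  param : ∀ (x : X) (hx : x ∈ W), x ∈ Set.range i →
    X.presheaf.germ W x hx t ∈ maximalIdeal (X.presheaf.stalk x) ∧
      X.presheaf.germ W x hx t ∉ maximalIdeal (X.presheaf.stalk x) ^ 2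

variable [IsClosedImmersion i]

/-- The kernel on stalks of a closed immersion comes from the kernel on an affine piece. -/
theorem ker_stalkMap {U : X.Opens} (hU : IsAffineOpen U) (y : Y) (hy : i y ∈ U) :
    RingHom.ker (i.stalkMap y).hom =
      (RingHom.ker (i.app U).hom).map (X.presheaf.germ U (i y) hy).hom := by
  refine le_antisymm (fun a ha => ?_) ?_
  · letI := TopCat.Presheaf.algebra_section_stalk X.presheaf (⟨i y, hy⟩ : U)
    haveI : IsLocalization.AtPrime (X.presheaf.stalk (i y)) (hU.primeIdealOf ⟨i y, hy⟩).asIdeal :=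
      hU.isLocalization_stalk ⟨i y, hy⟩
    letI := TopCat.Presheaf.algebra_section_stalk Y.presheaf (⟨y, hy⟩ : i ⁻¹ᵁ U)
    haveI : IsLocalization.AtPrime (Y.presheaf.stalk y) ((hU.preimage i).primeIdealOf ⟨y, hy⟩).asIdeal :=
      (hU.preimage i).isLocalization_stalk ⟨y, hy⟩
    obtain ⟨⟨b, s⟩, hbs⟩ := IsLocalization.surj (hU.primeIdealOf ⟨i y, hy⟩).asIdeal.primeCompl a
    have hb : algebraMap Γ(Y, i ⁻¹ᵁ U) (Y.presheaf.stalk y) (i.app U b) = 0 := by
      rw [RingHom.mem_ker] at ha
      have h1 : (i.stalkMap y) (X.presheaf.germ U (i y) hy b) = 0 := by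
        show (i.stalkMap y).hom (algebraMap Γ(X, U) (X.presheaf.stalk (i y)) b) = 0
        rw [← hbs, map_mul, ha, zero_mul]
      rwa [Scheme.Hom.germ_stalkMap_apply] at h1
    obtain ⟨r, hr⟩ := (IsLocalization.map_eq_zero_iff ((hU.preimage i).primeIdealOf ⟨y, hy⟩).asIdeal.primeCompl
      (Y.presheaf.stalk y) _).1 hb
    obtain ⟨r', hr'⟩ := i.app_surjective U hU (r : Γ(Y, i ⁻¹ᵁ U))
    have hI : r' * b ∈ RingHom.ker (i.app U).hom := by
      rw [RingHom.mem_ker, map_mul, hr']
      exact hr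
    have hu : IsUnit (X.presheaf.germ U (i y) hy r') := by
      refine isUnit_of_map_unit (i.stalkMap y).hom _ ?_
      show IsUnit ((i.stalkMap y) (X.presheaf.germ U (i y) hy r'))
      rw [Scheme.Hom.germ_stalkMap_apply, hr']
      exact IsLocalization.map_units (Y.presheaf.stalk y) r
    have hs : IsUnit (algebraMap Γ(X, U) (X.presheaf.stalk (i y)) s.1) := IsLocalization.map_units _ s
    have h2 := Ideal.mem_map_of_mem (X.presheaf.germ U (i y) hy).hom hI
    rw [map_mul, Ideal.unit_mul_mem_iff_mem _ hu] at h2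
    have h3 : a * algebraMap Γ(X, U) (X.presheaf.stalk (i y)) s.1 ∈
        (RingHom.ker (i.app U).hom).map (X.presheaf.germ U (i y) hy).hom := hbs ▸ h2
    exact (Ideal.mul_unit_mem_iff_mem _ hs).1 h3
  · rw [Ideal.map_le_iff_le_comap]
    intro b hb
    rw [RingHom.mem_ker] at hb
    rw [Ideal.mem_comap, RingHom.mem_ker]
    show (i.stalkMap y) (X.presheaf.germ U (i y) hy b) = 0
    rw [Scheme.Hom.germ_stalkMap_apply]
    exact (congrArg _ hb).trans (map_zero _)

variable [IsLocallyNoetherian X] (hXreg : ∀ x : X, IsRegularLocalRing (X.presheaf.stalk x))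
  (hDreg : ∀ y : Y, IsRegularLocalRing (Y.presheaf.stalk y))
  (hcodim : ∀ y : Y, ringKrullDim (X.presheaf.stalk (i y)) = ringKrullDim (Y.presheaf.stalk y) + 1)

include hXreg hDreg hcodim in
theorem exists_chart (y : Y) : ∃ C : Chart i, i y ∈ C.W := by
  classical
  obtain ⟨_, ⟨U, hU, rfl⟩, hy, -⟩ :=
    X.isBasis_affineOpens.exists_subset_of_mem_open (Set.mem_univ (i y)) isOpen_univ
  haveI : IsNoetherianRing Γ(X, U) := IsLocallyNoetherian.component_noetherian ⟨U, hU⟩
  let I := RingHom.ker (i.app U).hom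
  let g := X.presheaf.germ U (i y) hy
  have gen : ∀ (y' : Y) (hy' : i y' ∈ U), ∃ π, (I.map (X.presheaf.germ U (i y') hy').hom = Ideal.span {π}) ∧
      π ∈ maximalIdeal (X.presheaf.stalk (i y')) ∧ π ∉ maximalIdeal (X.presheaf.stalk (i y')) ^ 2 := fun y' hy' => by
    haveI := hXreg (i y')
    haveI := hDreg y'
    obtain ⟨π, h1, h2, h3⟩ := exists_generator (i.stalkMap y').hom (i.stalkMap_surjective y') (hcodim y')
    exact ⟨π, (ker_stalkMap i hU y' hy').symm.trans h1, h2, h3⟩
  haveI := hXreg (i y)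
  haveI := L01.isDomain_of_regular (X.presheaf.stalk (i y))
  obtain ⟨π, hπI, -, hπsq⟩ := gen y hy
  have hπ0 : π ≠ 0 := fun h => hπsq (h ▸ zero_mem _)
  obtain ⟨_, ⟨t, htI, rfl⟩, ht⟩ := exists_mem_span_eq (G := g.hom '' (I : Set Γ(X, U))) hπ0 hπI
  obtain ⟨F, hF⟩ : I.FG := IsNoetherian.noetherian I
  letI := TopCat.Presheaf.algebra_section_stalk X.presheaf (⟨i y, hy⟩ : U)
  haveI : IsLocalization.AtPrime (X.presheaf.stalk (i y)) (hU.primeIdealOf ⟨i y, hy⟩).asIdeal :=
    hU.isLocalization_stalk ⟨i y, hy⟩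
  have hs : ∀ a ∈ F, ∃ s c : Γ(X, U), IsUnit (g s) ∧ s * a = c * t := fun a ha => by
    have h1 : g a ∈ Ideal.span {g.hom t} :=
      ht.symm ▸ hπI ▸ Ideal.mem_map_of_mem g.hom (hF ▸ Ideal.subset_span ha : a ∈ I)
    obtain ⟨r, hr⟩ := Ideal.mem_span_singleton'.1 h1
    obtain ⟨⟨b, s⟩, hbs⟩ := IsLocalization.surj (hU.primeIdealOf ⟨i y, hy⟩).asIdeal.primeCompl r
    obtain ⟨s', hs'⟩ := (IsLocalization.eq_iff_exists (hU.primeIdealOf ⟨i y, hy⟩).asIdeal.primeCompl
      (X.presheaf.stalk (i y))).1 (show algebraMap Γ(X, U) (X.presheaf.stalk (i y)) (s.1 * a) =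
        algebraMap Γ(X, U) (X.presheaf.stalk (i y)) (b * t) by
      rw [map_mul, map_mul, ← hbs]
      show algebraMap _ _ s.1 * g a = r * algebraMap _ _ s.1 * g t
      rw [← hr]
      show algebraMap _ _ s.1 * (r * g t) = r * algebraMap _ _ s.1 * g t
      ring)
    refine ⟨s'.1 * s.1, s'.1 * b, ?_, by linear_combination hs'⟩
    rw [map_mul]
    exact (IsLocalization.map_units (X.presheaf.stalk (i y)) s').mul (IsLocalization.map_units _ s)
  choose! s c hsu hsc using hs
  let W := X.basicOpen (∏ a ∈ F, s a)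
  have hWU : W ≤ U := X.basicOpen_le _
  have hyW : i y ∈ W := (X.mem_basicOpen _ _ hy).2 (by rw [map_prod]; exact (IsUnit.prod_iff).2 hsu)
  have hIt : ∀ (x : X) (hx : x ∈ W), I.map (X.presheaf.germ U x (hWU hx)).hom ≤
      Ideal.span {X.presheaf.germ U x (hWU hx) t} := fun x hx => by
    rw [← hF, Ideal.map_span, Ideal.span_le]
    rintro _ ⟨a, ha, rfl⟩
    have hu := (X.mem_basicOpen _ _ (hWU hx)).1 hx
    rw [map_prod, IsUnit.prod_iff] at hu
    refine (Ideal.unit_mul_mem_iff_mem _ (hu a ha)).1 ?_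
    show (X.presheaf.germ U x (hWU hx)).hom (s a) * (X.presheaf.germ U x (hWU hx)).hom a ∈ _
    rw [← map_mul, hsc a ha, map_mul]
    exact Ideal.mul_mem_left _ _ (Ideal.mem_span_singleton_self _)
  let tW : Γ(X, W) := X.presheaf.map (homOfLE hWU).op t
  have hgerm : ∀ (x : X) (hx : x ∈ W), X.presheaf.germ W x hx tW = X.presheaf.germ U x (hWU hx) t := fun x hx =>
    TopCat.Presheaf.germ_res_apply _ _ _ _ _
  have hpar : ∀ (x : X) (hx : x ∈ W), x ∈ Set.range i →
      X.presheaf.germ W x hx tW ∈ maximalIdeal (X.presheaf.stalk x) ∧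
        X.presheaf.germ W x hx tW ∉ maximalIdeal (X.presheaf.stalk x) ^ 2 := by
    rintro _ hx ⟨y', rfl⟩
    haveI := hXreg (i y')
    haveI := L01.isDomain_of_regular (X.presheaf.stalk (i y'))
    obtain ⟨π', hπ', hπm, hπ'sq⟩ := gen y' (hWU hx)
    have hspan : Ideal.span {X.presheaf.germ U (i y') (hWU hx) t} = Ideal.span {π'} := by
      rw [← hπ']
      exact le_antisymm ((Ideal.span_singleton_le_iff_mem _).2 (Ideal.mem_map_of_mem _ htI)) (hIt _ hx)
    rw [hgerm]
    refine ⟨?_, notMem_sq_of_span_eq hspan hπ'sq⟩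
    exact ((Ideal.span_singleton_le_iff_mem _).2 hπm) (hspan ▸ Ideal.mem_span_singleton_self _)
  refine ⟨⟨W, tW, fun x hx => ⟨fun hb hr => (hpar x hx hr).1 ((X.mem_basicOpen tW x hx).1 hb), fun hxr => ?_⟩, hpar⟩, hyW⟩
  obtain ⟨a, hale, hxa⟩ := hU.exists_basicOpen_le
    (V := ⟨(Set.range i)ᶜ, i.isClosedEmbedding.isClosed_range.isOpen_compl⟩) ⟨x, hxr⟩ (hWU hx)
  have hbot : Y.basicOpen (i.app U a) = ⊥ := by
    rw [← Scheme.preimage_basicOpen]
    exact eq_bot_iff.2 fun y' hy' => (hale hy') ⟨y', rfl⟩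
  obtain ⟨N, hN⟩ := (Scheme.isNilpotent_iff_basicOpen_eq_bot_of_isCompact (hU.preimage i).isCompact _).2 hbot
  have haI : a ^ N ∈ I := by rw [RingHom.mem_ker, map_pow]; exact hN
  have h1 := hIt x hx (Ideal.mem_map_of_mem _ haI)
  rw [map_pow] at h1
  obtain ⟨r, hr⟩ := Ideal.mem_span_singleton'.1 h1
  refine (X.mem_basicOpen tW x hx).2 ?_
  rw [hgerm]
  refine isUnit_of_mul_isUnit_right (x := r) ?_
  rw [hr]
  exact ((X.mem_basicOpen a x (hWU hx)).1 hxa).pow N

end Chart

end Groth.L28.Pair.Reg
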