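import Groth.Prelude.Def_EtShriek2
import Groth.Agent.L27.EtSite.Points
import Groth.Agent.L27.ExtZero.Restr

/-!
Sheaves on the etale site over an etale scheme and on its own etale site.
-/

set_option autoImplicit false
set_option linter.style.haveILetI false
set_option linter.unusedSectionVars false
set_option backward.isDefEq.respectTransparency.types false

universe u

open CategoryTheory CategoryTheory.Limits AlgebraicGeometry Opposite

noncomputable section

namespace Groth.L28.Pair

variable {X : Scheme.{u}} (V : X.Etale) [AlgebraicGeometry.Etale V.hom]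

/-- An object over `V` as an etale scheme over `V.left`. -/
def overToEt (a : Over V) : V.left.Etale :=
  MorphismProperty.Over.mk ⊤ a.hom.left (L27.EtSite.etale_left a.hom)

/-- Functoriality. -/
def overToEtMap {a b : Over V} (k : b ⟶ a) : overToEt V b ⟶ overToEt V a :=
  MorphismProperty.Over.homMk k.left.left (congrArg (fun m : b.left ⟶ V => m.left) (Over.w k))

/-- The object itself. -/
def overToEtIso (a : Over V) : (EtShriek.compEtale V.hom).obj (overToEt V a) ≅ a.left :=
  MorphismProperty.Over.isoMk (Iso.refl _) ((Category.id_comp _).trans (MorphismProperty.Over.w a.hom).symm)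

theorem overToEtIso_nat {a b : Over V} (k : b ⟶ a) :
    (EtShriek.compEtale V.hom).map (overToEtMap V k) ≫ (overToEtIso V a).hom = (overToEtIso V b).hom ≫ k.left :=
  MorphismProperty.Over.Hom.ext ((Category.comp_id _).trans (Category.id_comp _).symm)

variable [EtShriek.JCont V.hom] {A B : EtCoh.Ab X}

/-- Isomorphic restrictions along the structure morphism give isomorphic restrictions to the site over `V`. -/
theorem nonempty_restr_iso_of_restrAlong (e : (EtShriek.restrAlong V.hom).obj A ≅ (EtShriek.restrAlong V.hom).obj B) :
    Nonempty (EtCoh.restr A V ≅ EtCoh.restr B V) := by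
  let E : ∀ T : V.left.Etale, A.obj.obj (op ((EtShriek.compEtale V.hom).obj T)) ≅
      B.obj.obj (op ((EtShriek.compEtale V.hom).obj T)) := fun T =>
    ((sheafToPresheaf _ _).mapIso e).app (op T)
  let c : ∀ a : (Over V)ᵒᵖ, A.obj.obj (op a.unop.left) ≅ B.obj.obj (op a.unop.left) := fun a =>
    A.obj.mapIso (overToEtIso V a.unop).op ≪≫ E (overToEt V a.unop) ≪≫ B.obj.mapIso (overToEtIso V a.unop).symm.op
  refine ⟨(fullyFaithfulSheafToPresheaf _ _).preimageIso (NatIso.ofComponents c fun {a b} f => ?_)⟩
  let k : b.unop ⟶ a.unop := f.unop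
  have hnat : A.obj.map ((EtShriek.compEtale V.hom).map (overToEtMap V k)).op ≫ (E (overToEt V b.unop)).hom =
      (E (overToEt V a.unop)).hom ≫ B.obj.map ((EtShriek.compEtale V.hom).map (overToEtMap V k)).op :=
    e.hom.hom.naturality (overToEtMap V k).op
  show A.obj.map k.left.op ≫ (c b).hom = (c a).hom ≫ B.obj.map k.left.op
  have h1 : k.left ≫ 𝟙 _ = k.left := Category.comp_id _
  have h2 := overToEtIso_nat V k
  have h3 : (overToEtIso V b.unop).inv ≫ (EtShriek.compEtale V.hom).map (overToEtMap V k) =
      k.left ≫ (overToEtIso V a.unop).inv := by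
    rw [Iso.inv_comp_eq, ← Category.assoc, ← h2, Category.assoc, Iso.hom_inv_id, Category.comp_id]
  calc A.obj.map k.left.op ≫ (c b).hom
      = A.obj.map (((overToEtIso V b.unop).hom ≫ k.left)).op ≫ (E (overToEt V b.unop)).hom ≫
          B.obj.map (overToEtIso V b.unop).inv.op := by
        show A.obj.map k.left.op ≫ A.obj.map (overToEtIso V b.unop).hom.op ≫ _ = _
        rw [← Category.assoc, ← A.obj.map_comp, ← op_comp]
        rfl
    _ = A.obj.map (overToEtIso V a.unop).hom.op ≫ (E (overToEt V a.unop)).hom ≫
          B.obj.map (((overToEtIso V b.unop).inv ≫ (EtShriek.compEtale V.hom).map (overToEtMap V k))).op := by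
        rw [← h2, op_comp, A.obj.map_comp, Category.assoc, ← Category.assoc (A.obj.map _) (E _).hom, hnat]
        rw [op_comp, B.obj.map_comp]
        simp only [Category.assoc]
    _ = (c a).hom ≫ B.obj.map k.left.op := by
        rw [h3, op_comp, B.obj.map_comp]
        show _ = (A.obj.map _ ≫ _ ≫ B.obj.map (overToEtIso V a.unop).inv.op) ≫ _
        simp only [Category.assoc]
        rfl

end Groth.L28.Pair
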