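import Groth.Agent.L28.Pair.SemiUpper
import Groth.Agent.L28.Pair.RestrIso
import Groth.Agent.L28.Pair.Divisor
import Groth.Agent.S1561
import Groth.Agent.S6658

/-!
Regular pairs over a perfect field.
-/

set_option autoImplicit false
set_option linter.style.haveILetI false
set_option linter.unusedSectionVars false
set_option backward.isDefEq.respectTransparency.types false

universe u

open CategoryTheory CategoryTheory.Limits AlgebraicGeometry Opposite IsLocalRing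

noncomputable section

namespace Groth.L28.Pair.RegField

variable {k : Type u} [Field k]

theorem smooth_of_regular [PerfectField k] {X : Scheme.{u}} (f : X ⟶ Spec (CommRingCat.of k)) [LocallyOfFiniteType f]
    (h : ∀ x : X, IsRegularLocalRing (X.presheaf.stalk x)) : Smooth f := by
  haveI : ∀ x : X, _root_.IsReduced (X.presheaf.stalk x) := fun x => by
    haveI := h x
    haveI := L01.isDomain_of_regular (X.presheaf.stalk x)
    infer_instance
  haveI : IsReduced X := isReduced_of_isReduced_stalk X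
  letI : X.Over (Spec (CommRingCat.of k)) := ⟨f⟩
  haveI : LocallyOfFinitePresentation (X ↘ Spec (CommRingCat.of k)) :=
    (inferInstance : LocallyOfFinitePresentation f)
  refine Scheme.Hom.smoothLocus_eq_top_iff.1 (eq_top_iff.2 fun x _ => ?_)
  exact ((Groth.Agent.S1561.result k X).1 x).2 (h x)

variable {X Y U : Scheme.{u}} (f : X ⟶ Spec (CommRingCat.of k)) (i : Y ⟶ X) [IsClosedImmersion i]

/-- A smooth chart with the prescribed codimension. -/
theorem exists_pair [Smooth f] [Smooth (i ≫ f)] (c : ℕ)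
    (hcodim : ∀ y : Y, ringKrullDim (X.presheaf.stalk (i y)) = ringKrullDim (Y.presheaf.stalk y) + c) (y : Y) :
    ∃ (W : X.Opens) (m : ℕ) (_ : SmoothOfRelativeDimension (m + c) (W.ι ≫ f))
      (_ : SmoothOfRelativeDimension m ((i ⁻¹ᵁ W).ι ≫ i ≫ f)), i y ∈ W := by
  obtain ⟨W, m, c', π, ρ, hy, hπ, hover, hsq⟩ :=
    L24.SmoothDivisor.exists_etale_local_structure f (i ≫ f) i rfl y
  haveI := hπ
  haveI : Etale ρ := MorphismProperty.of_isPullback (P := @Etale) hsq.flip hπ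
  haveI hX : SmoothOfRelativeDimension (m + c') (W.ι ≫ f) := by
    haveI : SmoothOfRelativeDimension (m + c') (Asp2 m c' (Spec (CommRingCat.of k)) ↘ Spec (CommRingCat.of k)) := by
      have := Groth.L20.CMChart.smoothOfRelativeDimension_affineSpace (ULift.{u} (Fin m ⊕ Fin c'))
        (Spec (CommRingCat.of k))
      rwa [Nat.card_ulift, Nat.card_sum, Nat.card_fin, Nat.card_fin] at this
    have : SmoothOfRelativeDimension (0 + (m + c'))
        (π ≫ Asp2 m c' (Spec (CommRingCat.of k)) ↘ Spec (CommRingCat.of k)) := inferInstance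
    rw [hover] at this
    simpa using this
  have hρ' : ρ ≫ aspπ m (Spec (CommRingCat.of k)) = (i ⁻¹ᵁ W).ι ≫ i ≫ f := by
    have e := congrArg (· ≫ Asp2 m c' (Spec (CommRingCat.of k)) ↘ Spec (CommRingCat.of k)) hsq.w
    simp only [Category.assoc, AffineSpace.homOfVector_over, hover, morphismRestrict_ι_assoc] at e
    exact e
  haveI hY : SmoothOfRelativeDimension m ((i ⁻¹ᵁ W).ι ≫ i ≫ f) := by
    haveI := Semi.smoothOfRelativeDimension_aspπ m (Spec (CommRingCat.of k))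
    have : SmoothOfRelativeDimension (0 + m) (ρ ≫ aspπ m (Spec (CommRingCat.of k))) := inferInstance
    rw [hρ'] at this
    simpa using this
  haveI : Smooth (W.ι ≫ f) := inferInstance
  haveI : JacobsonSpace (W : Scheme.{u}) := LocallyOfFiniteType.jacobsonSpace (W.ι ≫ f)
  haveI : JacobsonSpace ↥((i ⁻¹ᵁ W : Y.Opens) : Scheme.{u}) :=
    LocallyOfFiniteType.jacobsonSpace ((i ⁻¹ᵁ W).ι ≫ i ≫ f)
  obtain ⟨z, -, hz⟩ := nonempty_inter_closedPoints (X := ↥((i ⁻¹ᵁ W : Y.Opens) : Scheme.{u})) (Z := Set.univ)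
    ⟨⟨y, hy⟩, trivial⟩ isClosed_univ.isLocallyClosed
  have hzc : IsClosed ({z} : Set ↥((i ⁻¹ᵁ W : Y.Opens) : Scheme.{u})) := hz
  let x : (W : Scheme.{u}) := (i ∣_ W) z
  have hxc : IsClosed ({x} : Set ↥(W : Scheme.{u})) := by
    rw [show ({x} : Set ↥(W : Scheme.{u})) = (i ∣_ W) '' {z} by simp [x]]
    exact (i ∣_ W).isClosedMap _ hzc
  have h1 := Semi.ringKrullDim_stalk_closed (W.ι ≫ f) (m + c') x hxc
  have h2 := Semi.ringKrullDim_stalk_closed ((i ⁻¹ᵁ W).ι ≫ i ≫ f) m z hzc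
  have e1 : ringKrullDim ((W : Scheme.{u}).presheaf.stalk x) = ringKrullDim (X.presheaf.stalk (i z.1)) := by
    have hx : x.1 = i z.1 := by
      show W.ι x = i ((i ⁻¹ᵁ W).ι z)
      rw [← Scheme.Hom.comp_apply, morphismRestrict_ι, Scheme.Hom.comp_apply]
    rw [ringKrullDim_eq_of_ringEquiv (W.stalkIso x).commRingCatIsoToRingEquiv, hx]
  have e2 : ringKrullDim ((↑(i ⁻¹ᵁ W) : Scheme.{u}).presheaf.stalk z) = ringKrullDim (Y.presheaf.stalk z.1) :=
    ringKrullDim_eq_of_ringEquiv ((i ⁻¹ᵁ W).stalkIso z).commRingCatIsoToRingEquiv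
  have hc : m + c' = m + c := by
    have := hcodim z.1
    rw [← e1, ← e2, h1, h2] at this
    exact_mod_cast this
  obtain rfl : c' = c := by omega
  exact ⟨W, m, hX, hY, hy⟩

variable (j : U ⟶ X) [IsOpenImmersion j] (hU : Set.range j = (Set.range i)ᶜ) (c : ℕ) (hc : 0 < c) {n : ℕ}

/-- What holds near every point. -/
structure LocalData (x : X) : Prop where
  exists_nbhd : ∃ (V : X.Etale) (v : V.left), (V.hom : V.left ⟶ X) v = x ∧
    ∀ [AlgebraicGeometry.Etale V.hom] [EtShriek.JCont (V.hom : V.left ⟶ X)],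
      IsIso ((EtShriek.restrAlong (V.hom : V.left ⟶ X)).map
        ((EtCoh.pullPushAdj j).unit.app (EtCoh.const X (ZMod n)))) ∧
      (∀ q, 0 < q → q ≠ 2 * c - 1 → IsZero ((EtShriek.restrAlong (V.hom : V.left ⟶ X)).obj
        ((EtCoh.Rpush j q).obj ((EtCoh.pull j).obj (EtCoh.const X (ZMod n)))))) ∧
      Nonempty ((EtShriek.restrAlong (V.hom : V.left ⟶ X)).obj
          ((EtCoh.Rpush j (2 * c - 1)).obj ((EtCoh.pull j).obj (EtCoh.const X (ZMod n)))) ≅
        (EtShriek.restrAlong (V.hom : V.left ⟶ X)).obj ((EtCoh.push i).obj (EtCoh.const Y (ZMod n))))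

include hU hc in
theorem localData [Smooth f] [Smooth (i ≫ f)]
    (hcodim : ∀ y : Y, ringKrullDim (X.presheaf.stalk (i y)) = ringKrullDim (Y.presheaf.stalk y) + c)
    [NeZero n] (hn : IsUnit (n : Γ(X, ⊤))) (x : X) : LocalData i j c (n := n) x := by
  haveI : IsLocallyNoetherian X := LocallyOfFiniteType.isLocallyNoetherian f
  haveI : QuasiCompact j := inferInstance
  let F := EtCoh.const X (ZMod n)
  by_cases hx : x ∈ Set.range i
  swap
  · obtain ⟨p, hp⟩ : x ∈ Set.range j := by rw [hU]; exact hx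
    refine ⟨⟨Scheme.Etale.mk j, p, hp, fun {_} {_} => ?_⟩⟩
    haveI hJ : EtShriek.JCont j := L27.ExtZero.jCont j
    let r := L27.ExtZero.pullRestr j
    refine ⟨?_, fun q hq _ => (isZero_pull_rpush j _ q hq).of_iso (r.app _).symm,
      ⟨((isZero_pull_rpush j _ (2 * c - 1) (by omega)).of_iso (r.app _).symm).iso
        ((isZero_pull_push_closed j i hU _).of_iso (r.app _).symm)⟩⟩
    haveI := isIso_pull_unit j F
    exact (NatIso.isIso_map_iff r _).1 inferInstance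
  obtain ⟨y, rfl⟩ := hx
  obtain ⟨W, m, _, _, hy⟩ := exists_pair f i c hcodim y
  let jW := pullback.snd j W.ι
  let iW := i ∣_ W
  have hUW : Set.range jW = (Set.range iW)ᶜ := by
    rw [Scheme.Pullback.range_snd, hU, Set.preimage_compl,
      range_eq_preimage (isPullback_morphismRestrict i W)]
  have hnW : IsUnit (n : Γ((W : Scheme.{u}), ⊤)) := isUnit_natCast_of_hom W.ι hn
  have hw : iW ≫ W.ι ≫ f = (i ⁻¹ᵁ W).ι ≫ i ≫ f := by simp [iW]
  let FW := EtCoh.const (W : Scheme.{u}) (ZMod n)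
  haveI := quasiCompact_compl (W.ι ≫ f) ((i ⁻¹ᵁ W).ι ≫ i ≫ f) iW m c hw jW hUW
  obtain ⟨⟨V₀, v, hv, hJ, ⟨p, hp⟩, h1, h2, ⟨h3⟩⟩⟩ := localPurity (W.ι ≫ f) ((i ⁻¹ᵁ W).ι ≫ i ≫ f) iW m c hc hw jW hUW n
    hnW FW (ExtShriek.isFLC_const _ (ZMod n)) (killedBy_const _ n) ⟨i y, hy⟩
  haveI := hv
  refine ⟨⟨Scheme.Etale.mk (v ≫ W.ι), p, by
    show (v ≫ W.ι) p = i y
    rw [Scheme.Hom.comp_apply, hp]
    rfl, fun {_} {_} => ?_⟩⟩
  let v' := v ≫ W.ι
  haveI hJ' : EtShriek.JCont v' := L27.ExtZero.jCont v'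
  haveI hJW : EtShriek.JCont W.ι := L27.ExtZero.jCont W.ι
  let σ : EtShriek.restrAlong v' ≅ EtCoh.pull W.ι ⋙ EtShriek.restrAlong v :=
    (L27.ExtZero.pullRestr v').symm ≪≫ EtCore.pullComp v W.ι ≪≫ Functor.isoWhiskerLeft _ (L27.ExtZero.pullRestr v)
  have hR : ∀ q, Nonempty ((EtCoh.pull W.ι).obj ((EtCoh.Rpush j q).obj ((EtCoh.pull j).obj F)) ≅
      (EtCoh.Rpush jW q).obj ((EtCoh.pull jW).obj FW)) := fun q => by
    obtain ⟨a⟩ := nonempty_rpush_restr j W.ι hn (killedBy_const X n) q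
    exact ⟨(L27.ExtZero.pullRestr W.ι).app _ ≪≫ a ≪≫
      (EtCoh.Rpush jW q).mapIso ((EtCoh.pull jW).mapIso (EtCore.pullConst W.ι (ZMod n)))⟩
  refine ⟨?_, fun q hq hq' => ?_, ?_⟩
  · haveI hup : IsIso ((EtCoh.pullPushAdj jW).unit.app FW) :=
      (purity (W.ι ≫ f) ((i ⁻¹ᵁ W).ι ≫ i ≫ f) iW m c hc hw jW hUW n hnW FW (ExtShriek.isFLC_const _ (ZMod n))
        (killedBy_const _ n)).1
    haveI : IsIso ((EtCoh.pullPushAdj (pullback.snd j W.ι)).unit.app ((EtCoh.pull W.ι).obj F)) :=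
      (NatTrans.isIso_app_iff_of_iso (EtCoh.pullPushAdj jW).unit (EtCore.pullConst W.ι (ZMod n))).2 hup
    haveI := isIso_restr_unit j W.ι hn (killedBy_const X n)
    haveI : IsIso ((EtCoh.pull W.ι).map ((EtCoh.pullPushAdj j).unit.app F)) :=
      (NatIso.isIso_map_iff (L27.ExtZero.pullRestr W.ι) _).2 inferInstance
    exact (NatIso.isIso_map_iff σ _).2 (inferInstanceAs
      (IsIso ((EtShriek.restrAlong v).map ((EtCoh.pull W.ι).map ((EtCoh.pullPushAdj j).unit.app F)))))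
  · obtain ⟨a⟩ := hR q
    exact (h2 q hq hq').of_iso (σ.app _ ≪≫ (EtShriek.restrAlong v).mapIso a)
  · obtain ⟨a⟩ := hR (2 * c - 1)
    let C := EtCoh.const Y (ZMod n)
    haveI := Groth.Agent.S0157.result i iW (i ⁻¹ᵁ W).ι W.ι (isPullback_morphismRestrict i W).flip C
    let d : (EtCoh.pull W.ι).obj ((EtCoh.push i).obj C) ≅ (EtCoh.push iW).obj ((EtCoh.pull iW).obj FW) :=
      asIso (EtCoh.baseChange0 i W.ι iW (i ⁻¹ᵁ W).ι (isPullback_morphismRestrict i W).flip.w C) ≪≫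
        (EtCoh.push iW).mapIso (EtCore.pullConst _ (ZMod n) ≪≫ (EtCore.pullConst iW (ZMod n)).symm)
    exact ⟨σ.app _ ≪≫ (EtShriek.restrAlong v).mapIso a ≪≫ h3 ≪≫ (EtShriek.restrAlong v).mapIso d.symm ≪≫
      (σ.app _).symm⟩

end Groth.L28.Pair.RegField
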