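import Groth.Agent.L28.Pair.RegResidue
import Groth.Agent.L28.Pair.Divisor
import Groth.Agent.L28.Pair.Twist
import Groth.Agent.L05.Henselization.Noeth
import Groth.Agent.L05.Henselization.StrictUniq
import Groth.Agent.L27.StalkBC.Via
import Groth.Agent.L27.EtSite.Points
import Groth.Agent.S0537
import Groth.Agent.S0642
import Groth.Agent.S6186

/-!
The first direct image of the roots of unity from the complement of a regular divisor.
-/

set_option autoImplicit false
set_option linter.style.haveILetI false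
set_option linter.unusedSectionVars false
set_option backward.isDefEq.respectTransparency.types false

universe u

open CategoryTheory CategoryTheory.Limits AlgebraicGeometry Opposite IsLocalRing

noncomputable section

namespace Groth.L28.Pair.Reg

/-- The geometric stalk of the first direct image from the complement of a parameter. -/
theorem nonempty_stalk_rpush_const {V U : Scheme.{u}} [IsLocallyNoetherian V]
    (j : U ⟶ V) [IsOpenImmersion j] [QuasiCompact j] (v : V) (hreg : IsRegularLocalRing (V.presheaf.stalk v))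
    (T : Γ(V, ⊤)) (hj : Set.range j = V.basicOpen T)
    (h1 : V.presheaf.germ ⊤ v trivial T ∈ maximalIdeal (V.presheaf.stalk v))
    (h2 : V.presheaf.germ ⊤ v trivial T ∉ maximalIdeal (V.presheaf.stalk v) ^ 2)
    (R : Type u) [CommRing R] [IsLocalRing R] [Algebra (V.presheaf.stalk v) R]
    [IsLocalHom (algebraMap (V.presheaf.stalk v) R)] [Hensel.IsStrictHenselization (V.presheaf.stalk v) R]
    [HenselianLocalRing R] [IsSepClosed (ResidueField R)] (n : ℕ) [NeZero n] (hn : IsUnit (n : Γ(V, ⊤))) :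
    Nonempty ((EtCoh.stalk (Hens2.geomPt V v R)).obj ((EtCoh.Rpush j 1).obj (EtCoh.const U (ZMod n))) ≃
      ULift.{u + 1} (ZMod n)) := by
  let A := V.presheaf.stalk v
  haveI := hreg
  haveI : IsNoetherianRing R := (L05.Henselization.isNoetherianRing_iff_strict A R).1 inferInstance
  haveI : Module.Flat A R := L05.Henselization.flat_of_isStrictHenselization A R
  have hm := L05.Henselization.map_maximalIdeal_of_isStrictHenselization A R
  haveI : IsRegularLocalRing R := (L05.Henselization.isRegularLocalRing_iff_of_map_maximalIdeal A R hm).1 hreg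
  let a : R := algebraMap A R (V.presheaf.germ ⊤ v trivial T)
  have ha1 : a ∈ maximalIdeal R := hm ▸ Ideal.mem_map_of_mem _ h1
  have ha2 : a ∉ maximalIdeal R ^ 2 := notMem_sq_map hm h2
  let η := Hens2.specOf V v R
  have hu : IsUnit (n : R) := by
    have := hn.map ((algebraMap A R).comp (V.presheaf.germ ⊤ v trivial).hom)
    rwa [map_natCast] at this
  have hrange : Set.range (pullback.snd j η) =
      Set.range (Spec.map (CommRingCat.ofHom (algebraMap R (Localization.Away a)))) := by
    rw [Scheme.Pullback.range_snd, hj]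
    refine Eq.trans ?_ (PrimeSpectrum.localization_away_comap_range (Localization.Away a) a).symm
    ext p
    show η p ∈ V.basicOpen T ↔ p ∈ PrimeSpectrum.basicOpen a
    exact (fromSpecStalk_mem_basicOpen v T (PrimeSpectrum.comap (algebraMap A R) p)).trans Iff.rfl
  haveI : IsOpenImmersion (Spec.map (CommRingCat.ofHom (algebraMap R (Localization.Away a)))) :=
    IsOpenImmersion.of_isLocalization a
  let L := Spec (CommRingCat.of (Localization.Away a))
  let θ : L ≅ pullback j η := IsOpenImmersion.isoOfRangeEq _ _ hrange.symm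
  haveI : QuasiSeparated j := inferInstance
  obtain ⟨nR⟩ := Groth.Agent.S6186.result j v R 1
  let G := EtCoh.const U (ZMod n)
  haveI := L27.EtSite.preservesFiniteLimits_pull θ.hom
  let e₂ : EtCoh.H (pullback j η) ((EtCoh.pull (pullback.fst j η)).obj G) 1 ≃+
      EtCoh.H L ((EtCoh.pull (θ.hom ≫ pullback.fst j η)).obj G) 1 :=
    AddEquiv.ofBijective _
      (L27.ULA.bijective_HpullVia θ.hom (pullback.fst j η) _ rfl G 1 (Groth.Agent.S0642.result θ.hom _ 1))
  have hA : EtCoh.IsStrictlyHenselianLocalRing R := ⟨inferInstance, inferInstance⟩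
  obtain ⟨μ⟩ := Misc.nonempty_mu_iso_const_of_strictly_henselian hA (Nat.one_le_iff_ne_zero.2 (NeZero.ne n)) hu
    (Spec.map (CommRingCat.ofHom (algebraMap R (Localization.Away a))))
  obtain ⟨e₃⟩ := GmH1.nonempty_equiv R hA a ha1 ha2 n hu
  let c : (EtCoh.pull (θ.hom ≫ pullback.fst j η)).obj G ≅ EtCoh.mu L n :=
    EtCore.pullConst _ (ZMod n) ≪≫ μ.symm
  exact ⟨((nR.app G).addCommGroupIsoToAddEquiv.trans (e₂.trans (((EtCoh.HF L 1).mapIso c).addCommGroupIsoToAddEquiv.trans
    e₃))).toEquiv.trans Equiv.ulift.symm⟩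

variable {X Y U : Scheme.{u}} (i : Y ⟶ X) [IsClosedImmersion i] [IsNoetherian X]
  (j : U ⟶ X) [IsOpenImmersion j] (hU : Set.range j = (Set.range i)ᶜ)
  (hXreg : ∀ x : X, IsRegularLocalRing (X.presheaf.stalk x)) (hDreg : ∀ y : Y, IsRegularLocalRing (Y.presheaf.stalk y))
  (hcodim : ∀ y : Y, ringKrullDim (X.presheaf.stalk (i y)) = ringKrullDim (Y.presheaf.stalk y) + 1)
  (n : ℕ) [NeZero n] (hn : IsUnit (n : Γ(X, ⊤)))

include hU hXreg hDreg hcodim hn in
theorem nonempty_rpush_mu_iso :
    Nonempty ((EtCoh.Rpush j 1).obj (EtCoh.mu U n) ≅ (EtCoh.push i).obj (EtCoh.const Y (ZMod n))) := by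
  haveI : EtShriek.JCont j := L27.ExtZero.jCont j
  haveI : QuasiCompact j := inferInstance
  let G := (EtCoh.pull i).obj ((EtCoh.Rpush j 1).obj (EtCoh.mu U n))
  have hC : ∀ y : Y, ∃ C : Chart i, i y ∈ C.W := exists_chart i hXreg hDreg hcodim
  obtain ⟨φ, hφ⟩ := exists_residue hU hXreg hn hC
  haveI : Mono φ := (L27.EtSite.mono_iff_stalks φ).2 fun Ω _ _ ξ => hφ Ω ξ
  haveI : Epi φ := by
    refine (Sheaf.isLocallySurjective_iff_epi' AddCommGrpCat.{u + 1} φ).mp
      (L27.EtSite.isLocallySurjective_of_some_stalks φ.hom fun y => ?_)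
    obtain ⟨C, hy⟩ := hC y
    obtain ⟨V₀, v₀, _, hxv, hr₀⟩ := exists_etale_hasRoot n hn (i y)
    let V := v₀ ⁻¹ᵁ C.W
    let v : (V : Scheme.{u}) ⟶ X := V.ι ≫ v₀
    have hv : ∀ z, v z ∈ C.W := fun z => z.2
    haveI : EtShriek.JCont v := L27.ExtZero.jCont v
    haveI : IsLocallyNoetherian (V : Scheme.{u}) := LocallyOfFiniteType.isLocallyNoetherian v
    have hnV : IsUnit (n : Γ((V : Scheme.{u}), ⊤)) := isUnit_natCast_of_hom v hn
    obtain ⟨μ⟩ := (hr₀.of_hom V.ι).nonempty_mu_iso hnV
    obtain ⟨p, hp⟩ := hxv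
    let z : (V : Scheme.{u}) := ⟨p, show v₀ p ∈ C.W by rw [hp]; exact hy⟩
    have hz : v z = i y := hp
    obtain ⟨R, _, _, _, _, hR⟩ := Groth.Agent.S0537.result ((V : Scheme.{u}).presheaf.stalk z)
    haveI := hR.henselian
    haveI : IsSepClosed (ResidueField R) := hR.isSepClosure.sep_closed
    let ξV : Spec (CommRingCat.of (ResidueField R)) ⟶ (V : Scheme.{u}) := Hens2.geomPt (V : Scheme.{u}) z R
    have hξV : ξV default = z := L27.PBC.geomPt_default (V : Scheme.{u}) z R
    let ξX := ξV ≫ v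
    let s := pullback.snd i ξX
    haveI : Surjective s := ⟨fun w => by
      have hw : ξX w = i y := by
        rw [show w = default from Subsingleton.elim _ _, Scheme.Hom.comp_apply, hξV, hz]
      obtain ⟨q, -, hq⟩ := Scheme.Pullback.exists_preimage_pullback (f := i) (g := ξX) y w hw.symm
      exact ⟨q, hq⟩⟩
    haveI : IsIso s := isIso_of_isClosedImmersion_of_surjective s
    let ξY : Spec (CommRingCat.of (ResidueField R)) ⟶ Y := inv s ≫ pullback.fst i ξX
    have hξY : ξY ≫ i = ξX := by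
      rw [Category.assoc, pullback.condition, IsIso.inv_hom_id_assoc]
    refine ⟨ResidueField R, inferInstance, inferInstance, ξY, i.isClosedEmbedding.injective ?_, ?_⟩
    · show i (ξY default) = i y
      rw [← Scheme.Hom.comp_apply, hξY, Scheme.Hom.comp_apply, hξV, hz]
    let jV := pullback.snd j v
    have hjV : Set.range jV = ((V : Scheme.{u}).basicOpen (C.pullT v hv) : Set (V : Scheme.{u})) := by
      rw [Scheme.Pullback.range_snd, hU]
      ext w
      exact ((Scheme.mem_basicOpen_top _ _ _).trans (C.isUnit_germ_iff v hv w)).symm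
    obtain ⟨h1, h2⟩ := C.germ_param hXreg v hv z ⟨y, hz.symm⟩
    obtain ⟨e⟩ := nonempty_stalk_rpush_const jV z (L23.isRegularLocalRing_stalk_of_etale v hXreg z) (C.pullT v hv)
      hjV h1 h2 R n hnV
    obtain ⟨a⟩ := nonempty_rpush_restr j v hn (killedBy_mu X n) 1
    let E : (EtCoh.pull v).obj ((EtCoh.Rpush j 1).obj (EtCoh.mu U n)) ≅
        (EtCoh.Rpush jV 1).obj (EtCoh.const (pullback j v) (ZMod n)) :=
      (EtCoh.pull v).mapIso ((EtCoh.Rpush j 1).mapIso (pullMu j n).symm) ≪≫ (L27.ExtZero.pullRestr v).app _ ≪≫ a ≪≫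
        (EtCoh.Rpush jV 1).mapIso ((EtCoh.pull jV).mapIso (pullMu v n ≪≫ μ) ≪≫ EtCore.pullConst jV (ZMod n))
    let E' : (EtCoh.stalk ξY).obj G ≅ (EtCoh.stalk (Hens2.geomPt (V : Scheme.{u}) z R)).obj
        ((EtCoh.Rpush jV 1).obj (EtCoh.const (pullback j v) (ZMod n))) :=
      (L27.EtSite.stalkPullIso i ξY).app _ ≪≫ eqToIso (by rw [hξY]) ≪≫
        ((L27.EtSite.stalkPullIso v ξV).app _).symm ≪≫ (EtCoh.stalk ξV).mapIso E
    exact (bijective_of_card φ ξY (hφ _ ξY) ⟨E'.addCommGroupIsoToAddEquiv.toEquiv.trans e⟩).2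
  obtain ⟨e⟩ := nonempty_rpush_iso_push j i hU (EtCoh.mu U n) 1 one_pos
  exact ⟨e ≪≫ (EtCoh.push i).mapIso (@asIso _ _ _ _ φ (isIso_of_mono_of_epi φ)).symm⟩

end Groth.L28.Pair.Reg
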