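import Groth.Agent.L28.Pair.RegEq
import Groth.Agent.L28.Pair.Kummer

/-!
The class of the equations of a regular divisor.
-/

set_option autoImplicit false
set_option linter.style.haveILetI false
set_option linter.unusedSectionVars false
set_option backward.isDefEq.respectTransparency.types false

universe u

open CategoryTheory CategoryTheory.Limits AlgebraicGeometry Opposite IsLocalRing
open Groth.L27.MV (oE)

noncomputable section

namespace Groth.L28.Pair.Reg

variable {X Y U : Scheme.{u}} {i : Y ⟶ X}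

/-- The equation pulled back to a scheme over the domain. -/
def Chart.pullT (C : Chart i) {Z : Scheme.{u}} (v : Z ⟶ X) (hv : ∀ z, v z ∈ C.W) : Γ(Z, ⊤) :=
  v.appLE C.W ⊤ (fun z _ => hv z) C.t

/-- The equation on the domain. -/
def Chart.tE (C : Chart i) : Γ((oE C.W).left, ⊤) := C.pullT C.W.ι fun z => z.2

theorem germ_appLE {Z : Scheme.{u}} (v : Z ⟶ X) (W : X.Opens) (e : (⊤ : Z.Opens) ≤ v ⁻¹ᵁ W) (t : Γ(X, W)) (z : Z) :
    Z.presheaf.germ ⊤ z trivial (v.appLE W ⊤ e t) = (v.stalkMap z) (X.presheaf.germ W (v z) (e (x := z) trivial) t) := by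
  rw [Scheme.Hom.appLE, CommRingCat.comp_apply, TopCat.Presheaf.germ_res_apply, Scheme.Hom.germ_stalkMap_apply]

theorem Chart.germ_pullT (C : Chart i) {Z : Scheme.{u}} (v : Z ⟶ X) (hv : ∀ z, v z ∈ C.W) (z : Z) :
    Z.presheaf.germ ⊤ z trivial (C.pullT v hv) = (v.stalkMap z) (X.presheaf.germ C.W (v z) (hv z) C.t) :=
  germ_appLE v C.W _ C.t z

theorem Chart.map_tE (C : Chart i) {Z : X.Etale} (p : Z ⟶ oE C.W) (hv : ∀ z, (Z.hom : Z.left ⟶ X) z ∈ C.W) :
    p.left.appTop C.tE = C.pullT (Z.hom : Z.left ⟶ X) hv := by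
  have key : ∀ (e : Z.left ⟶ (C.W : Scheme.{u})) (v : Z.left ⟶ X) (_ : e ≫ C.W.ι = v) (hv : ∀ z, v z ∈ C.W),
      e.appTop C.tE = C.pullT v hv := by
    rintro e _ rfl hv
    unfold Chart.tE Chart.pullT
    rw [Scheme.Hom.appTop, Scheme.Hom.app_eq_appLE]
    erw [← CommRingCat.comp_apply, Scheme.Hom.appLE_comp_appLE]
    rfl
  exact key p.left _ (MorphismProperty.Over.w p) hv

theorem mem_of_hom (C : Chart i) {Z : X.Etale} (p : Z ⟶ oE C.W) (z : Z.left) : (Z.hom : Z.left ⟶ X) z ∈ C.W := by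
  rw [← show p.left ≫ C.W.ι = (Z.hom : Z.left ⟶ X) from MorphismProperty.Over.w p, Scheme.Hom.comp_apply]
  exact (p.left z).2

theorem Chart.isUnit_germ_iff (C : Chart i) {Z : Scheme.{u}} (v : Z ⟶ X) (hv : ∀ z, v z ∈ C.W) (z : Z) :
    IsUnit (Z.presheaf.germ ⊤ z trivial (C.pullT v hv)) ↔ v z ∉ Set.range i := by
  rw [C.germ_pullT, ← C.mem (v z) (hv z), X.mem_basicOpen _ _ (hv z)]
  exact isUnit_map_iff (v.stalkMap z).hom _

variable {j : U ⟶ X} (hU : Set.range j = (Set.range i)ᶜ)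

include hU in
theorem Chart.isUnit_res (C : Chart i) : IsUnit (resU j (oE C.W) C.tE) := by
  refine Misc.isUnit_of_range_subset (pullback.fst C.W.ι j : ((EtCoh.bc j).obj (oE C.W)).left ⟶ _) ?_
  rintro _ ⟨z, rfl⟩
  refine (Scheme.mem_basicOpen_top _ _ _).2 ?_
  refine (C.isUnit_germ_iff C.W.ι (fun w => w.2) _).2 ?_
  have h2 : C.W.ι ((pullback.fst C.W.ι j) z) ∈ Set.range j :=
    ⟨pullback.snd C.W.ι j z, by rw [← Scheme.Hom.comp_apply, ← Scheme.Hom.comp_apply, pullback.condition]⟩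
  rw [hU] at h2
  exact h2

variable [IsLocallyNoetherian X] (hXreg : ∀ x : X, IsRegularLocalRing (X.presheaf.stalk x))

include hXreg in
theorem Chart.germ_param (C : Chart i) {Z : Scheme.{u}} (v : Z ⟶ X) [Etale v] (hv : ∀ z, v z ∈ C.W) (z : Z)
    (hz : v z ∈ Set.range i) :
    Z.presheaf.germ ⊤ z trivial (C.pullT v hv) ∈ maximalIdeal (Z.presheaf.stalk z) ∧
      Z.presheaf.germ ⊤ z trivial (C.pullT v hv) ∉ maximalIdeal (Z.presheaf.stalk z) ^ 2 := by
  obtain ⟨h1, h2⟩ := C.param (v z) (hv z) hz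
  refine ⟨fun hu => h1 ?_, ?_⟩
  · rw [C.germ_pullT] at hu
    exact (isUnit_map_iff (v.stalkMap z).hom _).1 hu
  · rw [C.germ_pullT]
    letI := (v.stalkMap z).hom.toAlgebra
    haveI : Module.Flat (X.presheaf.stalk (v z)) (Z.presheaf.stalk z) := Flat.stalkMap v z
    exact notMem_sq_map (L21.CurvFib.map_maximalIdeal_stalkMap_of_etale v z) h2

include hXreg in
theorem Chart.prime_germ (C : Chart i) {Z : Scheme.{u}} (v : Z ⟶ X) [Etale v] (hv : ∀ z, v z ∈ C.W) (z : Z)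
    (hz : v z ∈ Set.range i) : Prime (Z.presheaf.germ ⊤ z trivial (C.pullT v hv)) := by
  haveI := L23.isRegularLocalRing_stalk_of_etale v hXreg z
  obtain ⟨h1, h2⟩ := C.germ_param hXreg v hv z hz
  exact GmH1.prime_of_parameter _ _ h1 h2

theorem fromSpecStalk_mem_basicOpen {Z : Scheme.{u}} (z : Z) (a : Γ(Z, ⊤)) (q : PrimeSpectrum (Z.presheaf.stalk z)) :
    Z.fromSpecStalk z q ∈ Z.basicOpen a ↔ Z.presheaf.germ ⊤ z trivial a ∉ q.asIdeal := by
  change q ∈ Z.fromSpecStalk z ⁻¹ᵁ Z.basicOpen a ↔ _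
  rw [Scheme.preimage_basicOpen_top, Scheme.fromSpecStalk_appTop, CommRingCat.comp_apply]
  change q ∈ (Spec (Z.presheaf.stalk z)).basicOpen ((Scheme.ΓSpecIso (Z.presheaf.stalk z)).inv _) ↔ _
  rw [basicOpen_eq_of_affine']
  simp only [Iso.inv_hom_id_apply]
  rfl

include hXreg in
theorem Chart.dvd_germ (C C' : Chart i) {Z : Scheme.{u}} (v : Z ⟶ X) [Etale v] (hv : ∀ z, v z ∈ C.W)
    (hv' : ∀ z, v z ∈ C'.W) (z : Z) (hz : v z ∈ Set.range i) :
    Z.presheaf.germ ⊤ z trivial (C.pullT v hv) ∣ Z.presheaf.germ ⊤ z trivial (C'.pullT v hv') := by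
  have hp := C.prime_germ hXreg v hv z hz
  let q : PrimeSpectrum (Z.presheaf.stalk z) :=
    ⟨Ideal.span {Z.presheaf.germ ⊤ z trivial (C.pullT v hv)}, (Ideal.span_singleton_prime hp.ne_zero).2 hp⟩
  let w := Z.fromSpecStalk z q
  refine Ideal.mem_span_singleton.1 ?_
  by_contra hn
  have h1 : ¬ IsUnit (Z.presheaf.germ ⊤ w trivial (C.pullT v hv)) := fun h =>
    (fromSpecStalk_mem_basicOpen z _ q).1 ((Z.mem_basicOpen_top _ _).2 h) (Ideal.mem_span_singleton_self _)
  have h2 : IsUnit (Z.presheaf.germ ⊤ w trivial (C'.pullT v hv')) :=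
    (Z.mem_basicOpen_top _ _).1 ((fromSpecStalk_mem_basicOpen z _ q).2 hn)
  exact h1 ((C.isUnit_germ_iff v hv w).2 ((C'.isUnit_germ_iff v hv' w).1 h2))

include hXreg in
theorem Chart.exists_ratio (C C' : Chart i) {Z : Scheme.{u}} (v : Z ⟶ X) [Etale v] (hv : ∀ z, v z ∈ C.W)
    (hv' : ∀ z, v z ∈ C'.W) (z : Z) : ∃ (O : Z.Opens) (a : Γ((O : Scheme.{u}), ⊤)ˣ), z ∈ O ∧
      O.ι.appTop (C.pullT v hv) = (a : Γ((O : Scheme.{u}), ⊤)) * O.ι.appTop (C'.pullT v hv') := by
  let T := C.pullT v hv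
  let T' := C'.pullT v hv'
  obtain ⟨r, hr, hru⟩ : ∃ r, Z.presheaf.germ ⊤ z trivial T = r * Z.presheaf.germ ⊤ z trivial T' ∧ IsUnit r := by
    by_cases hz : v z ∈ Set.range i
    · haveI := L23.isRegularLocalRing_stalk_of_etale v hXreg z
      haveI := L01.isDomain_of_regular (Z.presheaf.stalk z)
      obtain ⟨u, hu⟩ := associated_of_dvd_dvd (C'.dvd_germ hXreg C v hv' hv z hz) (C.dvd_germ hXreg C' v hv hv' z hz)
      exact ⟨u, hu.symm.trans (mul_comm _ _), u.isUnit⟩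
    · obtain ⟨u, hu⟩ := (C.isUnit_germ_iff v hv z).2 hz
      obtain ⟨u', hu'⟩ := (C'.isUnit_germ_iff v hv' z).2 hz
      exact ⟨↑(u * u'⁻¹), by rw [← hu, ← hu']; simp [mul_assoc], Units.isUnit _⟩
  obtain ⟨O₀, hz₀, c, rfl⟩ := Z.presheaf.exists_germ_eq r
  have e : Z.presheaf.germ O₀ z hz₀ (Z.presheaf.map (homOfLE (le_top : O₀ ≤ ⊤)).op T) =
      Z.presheaf.germ O₀ z hz₀ (c * Z.presheaf.map (homOfLE (le_top : O₀ ≤ ⊤)).op T') := by
    rw [map_mul, TopCat.Presheaf.germ_res_apply, TopCat.Presheaf.germ_res_apply]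
    exact hr
  obtain ⟨O₁, hz₁, i₁, i₂, h₁⟩ := Z.presheaf.germ_eq z hz₀ hz₀ _ _ e
  let O : Z.Opens := O₁ ⊓ Z.basicOpen c
  have hO : O ≤ O₀ := inf_le_left.trans i₁.le
  let c' : Γ(Z, O) := Z.presheaf.map (homOfLE hO).op c
  have hc : IsUnit c' := by
    have := (Z.toRingedSpace.isUnit_res_basicOpen c).map (Z.presheaf.map (homOfLE (inf_le_right : O ≤ _)).op).hom
    erw [← CommRingCat.comp_apply, ← Functor.map_comp] at this
    exact this
  have hz' : z ∈ O := ⟨hz₁, (Z.mem_basicOpen c z hz₀).2 hru⟩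
  refine ⟨O, Units.map O.topIso.inv.hom.toMonoidHom hc.unit, hz', ?_⟩
  have h2 := congrArg (fun s => Z.presheaf.map (homOfLE (inf_le_left : O ≤ O₁)).op s) h₁
  simp only [map_mul, ← CommRingCat.comp_apply, ← Functor.map_comp] at h2
  apply (ConcreteCategory.bijective_of_isIso O.topIso.hom).1
  rw [map_mul]
  have hres : ∀ s : Γ(Z, ⊤), O.topIso.hom (O.ι.appTop s) = Z.presheaf.map (homOfLE (le_top : O ≤ ⊤)).op s := fun s => by
    rw [← CommRingCat.comp_apply, Scheme.Opens.ι_appTop, Scheme.Opens.topIso_hom]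
    erw [← Functor.map_comp]
    rfl
  rw [hres, hres]
  refine Eq.trans h2 (congrArg₂ (· * ·) ?_ ?_)
  · show _ = O.topIso.hom (O.topIso.inv hc.unit.val)
    rw [Iso.inv_hom_id_apply]
    rfl
  · rfl

section Glue

variable {n : ℕ} (K : KummerMap j n) (hn : IsUnit (n : Γ(X, ⊤)))

/-- The class of the equation. -/
def Chart.cls (C : Chart i) : ((EtCoh.Rpush j 1).obj (EtCoh.mu U n)).obj.obj (op (oE C.W)) :=
  K.δ.hom.app (op (oE C.W)) (tau j (oE C.W) C.tE (C.isUnit_res hU))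

include hXreg hn in
theorem Chart.map_cls_eq (C C' : Chart i) (Z : X.Etale) (p : Z ⟶ oE C.W) (q : Z ⟶ oE C'.W) :
    ((EtCoh.Rpush j 1).obj (EtCoh.mu U n)).obj.map p.op (C.cls hU K) =
      ((EtCoh.Rpush j 1).obj (EtCoh.mu U n)).obj.map q.op (C'.cls hU K) := by
  refine L27.EtSite.ext_of_locally _ fun z => ?_
  haveI : AlgebraicGeometry.Etale Z.hom := Z.prop
  obtain ⟨O, a, hzO, ha⟩ := C.exists_ratio hXreg C' (Z.hom : Z.left ⟶ X) (mem_of_hom C p) (mem_of_hom C' q) z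
  let Z' : X.Etale := Scheme.Etale.mk (O.ι ≫ (Z.hom : Z.left ⟶ X))
  let r : Z' ⟶ Z := MorphismProperty.Over.homMk O.ι rfl
  refine ⟨Z', r, ⟨z, hzO⟩, rfl, ?_⟩
  simp only [← Functor.map_comp_apply, ← op_comp]
  rw [Chart.cls, Chart.cls, ← NatTrans.naturality_apply, ← NatTrans.naturality_apply, tau_map, tau_map]
  let a' : Γ(Z'.left, ⊤)ˣ := a
  have e₁ : (r ≫ p).left.appTop C.tE = (a' : Γ(Z'.left, ⊤)) * (r ≫ q).left.appTop C'.tE := by
    show (O.ι ≫ p.left).appTop C.tE = _ * (O.ι ≫ q.left).appTop C'.tE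
    rw [Scheme.Hom.comp_appTop, Scheme.Hom.comp_appTop, CommRingCat.comp_apply, CommRingCat.comp_apply,
      C.map_tE p (mem_of_hom C p), C'.map_tE q (mem_of_hom C' q)]
    exact ha
  rw [tau_congr j e₁]
  exact K.tau_mul j hn Z' _ _ a' _

include hn in
theorem Chart.map_cls_zero (C : Chart i) (Z : X.Etale) (p : Z ⟶ oE C.W) (hZ : Set.range Z.hom ⊆ Set.range j) :
    ((EtCoh.Rpush j 1).obj (EtCoh.mu U n)).obj.map p.op (C.cls hU K) = 0 := by
  rw [Chart.cls, ← NatTrans.naturality_apply, tau_map]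
  refine K.tau_unit j hn Z _ _ (Misc.isUnit_of_range_subset p.left ?_)
  rintro _ ⟨z, rfl⟩
  refine (Scheme.mem_basicOpen_top _ _ _).2 ?_
  refine (C.isUnit_germ_iff C.W.ι (fun w => w.2) _).2 ?_
  have h2 : C.W.ι (p.left z) ∈ Set.range j :=
    hZ ⟨z, congrArg (fun m : Z.left ⟶ X => m z) (MorphismProperty.Over.w p).symm⟩
  rw [hU] at h2
  exact h2

variable [IsOpenImmersion j] (hC : ∀ y : Y, ∃ C : Chart i, i y ∈ C.W)

include hXreg hn hC hU in
/-- A global class restricting to the classes of the local equations. -/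
theorem exists_class : ∃ σ : ((EtCoh.Rpush j 1).obj (EtCoh.mu U n)).obj.obj (op (EtCoh.top X)),
    ∀ (C : Chart i) (p : oE C.W ⟶ EtCoh.top X),
      ((EtCoh.Rpush j 1).obj (EtCoh.mu U n)).obj.map p.op σ = C.cls hU K := by
  let R := (EtCoh.Rpush j 1).obj (EtCoh.mu U n)
  let V : Option (Chart i) → X.Etale := fun o => o.elim (oE j.opensRange) fun C => oE C.W
  let s : ∀ o, R.obj.obj (op (V o)) := fun o => Option.rec 0 (fun C => C.cls hU K) o
  have hrange : ∀ {Z : X.Etale} (q : Z ⟶ oE j.opensRange), Set.range Z.hom ⊆ Set.range j := fun {Z} q => by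
    rintro _ ⟨z, rfl⟩
    show (Z.hom : Z.left ⟶ X) z ∈ _
    rw [← show q.left ≫ j.opensRange.ι = (Z.hom : Z.left ⟶ X) from MorphismProperty.Over.w q, Scheme.Hom.comp_apply]
    exact (q.left z).2
  have hcov : EtCoh.Covers V := fun x => by
    by_cases hx : x ∈ Set.range i
    · obtain ⟨y, rfl⟩ := hx
      obtain ⟨C, hy⟩ := hC y
      exact ⟨some C, ⟨i y, hy⟩, rfl⟩
    · exact ⟨none, ⟨x, show x ∈ Set.range j by rw [hU]; exact hx⟩, rfl⟩
  obtain ⟨σ, hσ⟩ := exists_glue_top R V hcov s (fun a b Z p q => by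
    rcases a with _ | C <;> rcases b with _ | C'
    · exact (map_zero _).trans (map_zero _).symm
    · exact (map_zero _).trans (C'.map_cls_zero hU K hn Z q (hrange p)).symm
    · exact (C.map_cls_zero hU K hn Z p (hrange q)).trans (map_zero _).symm
    · exact C.map_cls_eq hU hXreg K hn C' Z p q)
  exact ⟨σ, fun C p => hσ (some C) p⟩

end Glue

section Order

variable {n : ℕ} [NeZero n] (K : KummerMap j n) [IsOpenImmersion j]

include hXreg in
/-- The germ of the class of an equation has exact order `n`. -/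
theorem Chart.dvd_of_germ (C : Chart i) (y : Y) {Ω : Type u} [Field Ω] [IsSepClosed Ω]
    (ξ : Spec (CommRingCat.of Ω) ⟶ X) (hξ : ξ default = i y) (yW : (Scheme.pointSmallEtale ξ).fiber.obj (oE C.W)) (k : ℕ)
    (hk : k • (Scheme.pointSmallEtale ξ).toPresheafFiber (oE C.W) yW ((EtCoh.Rpush j 1).obj (EtCoh.mu U n)).obj
      (C.cls hU K) = 0) : n ∣ k := by
  let Φ := Scheme.pointSmallEtale ξ
  let PG := (EtCoh.push j).obj (EtCoh.Gm U)
  let τ₀ : PG.obj.obj (op (oE C.W)) := tau j (oE C.W) C.tE (C.isUnit_res hU)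
  have h0 : (EtCoh.stalk ξ).map K.δ (Φ.toPresheafFiber (oE C.W) yW PG.obj (k • τ₀)) = 0 := by
    refine Eq.trans ?_ hk
    refine (GrothendieckTopology.Point.toPresheafFiber_naturality_apply Φ K.δ.hom _ yW _).trans ?_
    rw [map_nsmul, map_nsmul]
    rfl
  obtain ⟨b, hb⟩ := (ShortComplex.ab_exact_iff _).1 (K.exact.map (EtCoh.stalk ξ)) _ h0
  obtain ⟨V, yV, b₀, rfl⟩ := Φ.toPresheafFiber_jointly_surjective (P := PG.obj) b
  obtain ⟨⟨V', y'⟩, ⟨p, hp⟩, ⟨q, hq⟩, -⟩ := IsCofilteredOrEmpty.cone_objs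
    (Φ.fiber.elementsMk V yV) (Φ.fiber.elementsMk (oE C.W) yW)
  have hp' : Φ.fiber.map p y' = yV := hp
  have hq' : Φ.fiber.map q y' = yW := hq
  have e : Φ.toPresheafFiber V' y' PG.obj (n • PG.obj.map p.op b₀) =
      Φ.toPresheafFiber V' y' PG.obj (k • PG.obj.map q.op τ₀) := by
    have h1 : (EtCoh.stalk ξ).map ((EtCoh.push j).map (EtCoh.powMap U n)) (Φ.toPresheafFiber V yV PG.obj b₀) =
        Φ.toPresheafFiber V yV PG.obj (n • b₀) :=
      (GrothendieckTopology.Point.toPresheafFiber_naturality_apply Φ _ V yV b₀).trans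
        (congrArg (Φ.toPresheafFiber V yV PG.obj) (L27.MuConst.powMap_app n _ _))
    have h2 := h1.symm.trans hb
    have hl : Φ.toPresheafFiber V' y' PG.obj (PG.obj.map p.op (n • b₀)) = Φ.toPresheafFiber V yV PG.obj (n • b₀) :=
      (GrothendieckTopology.Point.toPresheafFiber_w_apply Φ p y' PG.obj _).trans (by rw [hp'])
    have hr : Φ.toPresheafFiber V' y' PG.obj (PG.obj.map q.op (k • τ₀)) = Φ.toPresheafFiber (oE C.W) yW PG.obj (k • τ₀) :=
      (GrothendieckTopology.Point.toPresheafFiber_w_apply Φ q y' PG.obj _).trans (by rw [hq'])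
    rw [← map_nsmul (PG.obj.map p.op).hom n b₀, ← map_nsmul (PG.obj.map q.op).hom k τ₀]
    exact hl.trans (h2.trans hr.symm)
  obtain ⟨V'', r, y'', hy'', he⟩ := (Φ.toPresheafFiber_eq_iff' (P := PG.obj) V' y' _ _).1 e
  rw [map_nsmul, map_nsmul, ← Functor.map_comp_apply, ← Functor.map_comp_apply, ← op_comp, ← op_comp, tau_map] at he
  let β : Γ(((EtCoh.bc j).obj V'').left, ⊤)ˣ := Misc.ofG ((EtCoh.bc j).obj V'') (PG.obj.map (r ≫ p).op b₀)
  have hβ : (β : Γ(((EtCoh.bc j).obj V'').left, ⊤)) ^ n = resU j V'' ((r ≫ q).left.appTop C.tE) ^ k := by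
    have := congrArg (fun z => (Misc.ofG ((EtCoh.bc j).obj V'') z : Γ(((EtCoh.bc j).obj V'').left, ⊤))) he
    exact ((Units.val_pow_eq_pow_val β n).symm.trans this).trans (Units.val_pow_eq_pow_val _ k)
  haveI : AlgebraicGeometry.Etale V''.hom := V''.prop
  let η : Spec (CommRingCat.of Ω) ⟶ V''.left := y''.left
  let v : V''.left := η default
  let hom : V''.left ⟶ X := V''.hom
  have hvD : hom v ∈ Set.range i := ⟨y, by rw [← hξ]; exact (L27.EtSite.fiber_apply y'').symm⟩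
  let hv := mem_of_hom C (r ≫ q)
  rw [C.map_tE (r ≫ q) hv] at hβ
  let A := V''.left.presheaf.stalk v
  let a : A := V''.left.presheaf.germ ⊤ v trivial (C.pullT hom hv)
  have hpr : Prime a := C.prime_germ hXreg hom hv v hvD
  haveI : IsRegularLocalRing A := L23.isRegularLocalRing_stalk_of_etale hom hXreg v
  haveI := L01.isDomain_of_regular A
  let L := CommRingCat.of (Localization.Away a)
  let h : Spec L ⟶ V''.left :=
    Spec.map (CommRingCat.ofHom (algebraMap A (Localization.Away a))) ≫ V''.left.fromSpecStalk v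
  have hh : Set.range (h ≫ hom) ⊆ Set.range j := by
    rintro _ ⟨w, rfl⟩
    rw [hU, Scheme.Hom.comp_apply]
    refine (C.isUnit_germ_iff hom hv (h w)).1 ((V''.left.mem_basicOpen_top _ _).1 ?_)
    refine (fromSpecStalk_mem_basicOpen v _ _).2 fun hw => ?_
    exact (PrimeSpectrum.isPrime w).ne_top (Ideal.eq_top_of_isUnit_mem _ hw
      (IsLocalization.Away.algebraMap_isUnit (S := Localization.Away a) a))
  let l : Spec L ⟶ ((EtCoh.bc j).obj V'').left :=
    pullback.lift h (IsOpenImmersion.lift j (h ≫ hom) hh) (IsOpenImmersion.lift_fac j _ hh).symm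
  have hl : l ≫ (pullback.fst V''.hom j : ((EtCoh.bc j).obj V'').left ⟶ V''.left) = h := pullback.lift_fst _ _ _
  let E : Γ(((EtCoh.bc j).obj V'').left, ⊤) →+* Localization.Away a :=
    ((Scheme.ΓSpecIso L).hom.hom).comp l.appTop.hom
  have hEt : E (resU j V'' (C.pullT hom hv)) = algebraMap A (Localization.Away a) a := by
    show (Scheme.ΓSpecIso L).hom (l.appTop ((pullback.fst V''.hom j :
      ((EtCoh.bc j).obj V'').left ⟶ V''.left).appTop (C.pullT hom hv))) = _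
    refine Eq.trans (congrArg (Scheme.ΓSpecIso L).hom.hom ((ConcreteCategory.congr_hom
      (Scheme.Hom.comp_appTop l (pullback.fst V''.hom j : ((EtCoh.bc j).obj V'').left ⟶ V''.left))
      (C.pullT hom hv)).symm.trans (congrArg (fun m => m.appTop (C.pullT hom hv)) hl))) ?_
    show (Scheme.ΓSpecIso L).hom (h.appTop _) = _
    rw [Scheme.Hom.comp_appTop, CommRingCat.comp_apply, Scheme.fromSpecStalk_appTop, CommRingCat.comp_apply,
      show (Spec (V''.left.presheaf.stalk v)).presheaf.map (homOfLE (le_top : (⊤ : (Spec (V''.left.presheaf.stalk v)).Opens) ≤ ⊤)).op = 𝟙 _ from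
        CategoryTheory.Functor.map_id _ _, Category.comp_id, ← CommRingCat.comp_apply, ← CommRingCat.comp_apply,
      ← Scheme.ΓSpecIso_inv_naturality_assoc, Iso.inv_hom_id, Category.comp_id]
    rfl
  let ξ' : (Localization.Away a)ˣ := (IsLocalization.Away.algebraMap_isUnit a).unit
  have key : (Units.map E.toMonoidHom β) ^ n = ξ' ^ (k : ℤ) := by
    rw [zpow_natCast]
    refine Units.ext ?_
    rw [Units.val_pow_eq_pow_val, Units.val_pow_eq_pow_val]
    show E β ^ n = algebraMap A (Localization.Away a) a ^ k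
    rw [← map_pow, hβ, map_pow, hEt]
  exact_mod_cast GmH1.natDvd_of_pow_eq hpr ξ' rfl (Units.map E.toMonoidHom β) key

end Order

section Hom

variable {n : ℕ} [NeZero n] [IsOpenImmersion j]

include hXreg hU in
/-- The morphism from the constant sheaf on the closed part given by the equations. -/
theorem exists_residue (hn : IsUnit (n : Γ(X, ⊤))) (hC : ∀ y : Y, ∃ C : Chart i, i y ∈ C.W) :
    ∃ φ : EtCoh.const Y (ZMod n) ⟶ (EtCoh.pull i).obj ((EtCoh.Rpush j 1).obj (EtCoh.mu U n)),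
      ∀ (Ω : Type u) [Field Ω] [IsSepClosed Ω] (ξ : Spec (CommRingCat.of Ω) ⟶ Y),
        Function.Injective ((EtCoh.stalk ξ).map φ) := by
  obtain ⟨K⟩ := exists_kummerMap j (isUnit_natCast_of_hom j hn)
  let R := (EtCoh.Rpush j 1).obj (EtCoh.mu U n)
  obtain ⟨σ, hσ⟩ := exists_class hU hXreg K hn hC
  have hσn : n • σ = 0 := killedBy_rpush j 1 (killedBy_mu U n) _ σ
  let t₀ : ZMod n →+ R.obj.obj (op (EtCoh.top X)) :=
    ZMod.lift n ⟨zmultiplesHom _ σ, by rw [zmultiplesHom_apply, natCast_zsmul, hσn]⟩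
  let M := AddCommGrpCat.of (ULift.{u + 1} (ZMod n))
  let t : M ⟶ R.obj.obj (op (EtCoh.top X)) := AddCommGrpCat.ofHom (t₀.comp AddEquiv.ulift.toAddMonoidHom)
  let φ := ((EtCore.constAdj X).homEquiv M R).symm t
  have hφ : ∀ m : M, φ.hom.app (op (EtCoh.top X)) ((EtCore.constAdj X).unit.app M m) = t m := fun m =>
    ConcreteCategory.congr_hom (((EtCore.constAdj X).homEquiv_unit (X := M) (Y := R) (f := φ)).symm.trans
      (Equiv.apply_symm_apply _ t)) m
  refine ⟨(EtCore.pullConst i (ZMod n)).inv ≫ (EtCoh.pull i).map φ, fun Ω _ _ ξ => ?_⟩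
  suffices h : Function.Injective ((EtCoh.stalk (ξ ≫ i)).map φ) by
    haveI : Mono ((EtCoh.stalk (ξ ≫ i)).map φ) := (AddCommGrpCat.mono_iff_injective _).2 h
    haveI : Mono ((EtCoh.pull i ⋙ EtCoh.stalk ξ).map φ) := by
      rw [← NatIso.naturality_2 (L27.EtSite.stalkPullIso i ξ) φ]
      infer_instance
    rw [Functor.map_comp]
    haveI : Mono ((EtCoh.stalk ξ).map ((EtCoh.pull i).map φ)) := ‹Mono ((EtCoh.pull i ⋙ EtCoh.stalk ξ).map φ)›
    exact (AddCommGrpCat.mono_iff_injective _).1 (mono_comp _ _)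
  let y : Y := ξ default
  have hξ : (ξ ≫ i) default = i y := Scheme.Hom.comp_apply _ _ _
  obtain ⟨C, hy⟩ := hC y
  obtain ⟨yW, -⟩ := L27.EtSite.exists_fiber (ξ ≫ i) (oE C.W) ⟨i y, hy⟩ hξ.symm
  let Φ := Scheme.pointSmallEtale (ξ ≫ i)
  let e := Groth.L27.MV.oTop C.W
  let tp : Φ.fiber.obj (EtCoh.top X) := Φ.fiber.map e yW
  have hb := Spz.bijective_constGerm (M := ZMod n) (ξ ≫ i) tp
  refine (injective_iff_map_eq_zero _).2 fun x hx => ?_
  obtain ⟨⟨a⟩, rfl⟩ := hb.2 x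
  have h1 : (EtCoh.stalk (ξ ≫ i)).map φ (Φ.toPresheafFiber (EtCoh.top X) tp (EtCoh.const X (ZMod n)).obj
      ((EtCore.constAdj X).unit.app M ⟨a⟩)) = a.val • Φ.toPresheafFiber (oE C.W) yW R.obj (C.cls hU K) := by
    refine (GrothendieckTopology.Point.toPresheafFiber_naturality_apply Φ φ.hom (EtCoh.top X) tp _).trans ?_
    have h2 : t ⟨a⟩ = a.val • σ := by
      show t₀ a = a.val • σ
      have hcast : a = ((a.val : ℤ) : ZMod n) := by rw [Int.cast_natCast, ZMod.natCast_zmod_val]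
      conv_lhs => rw [hcast]
      refine (ZMod.lift_coe n _ _).trans ?_
      show (a.val : ℤ) • σ = _
      rw [natCast_zsmul]
    refine (congrArg (Φ.toPresheafFiber (EtCoh.top X) tp R.obj) ((hφ ⟨a⟩).trans h2)).trans ?_
    rw [map_nsmul]
    refine congrArg (a.val • ·) ?_
    rw [← hσ C e]
    exact (GrothendieckTopology.Point.toPresheafFiber_w_apply Φ e yW R.obj σ).symm
  have h3 := C.dvd_of_germ hU hXreg K y (ξ ≫ i) hξ yW a.val (h1.symm.trans hx)
  have ha : a = 0 := by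
    rw [← ZMod.natCast_zmod_val a, (ZMod.natCast_eq_zero_iff _ _).2 h3]
  subst ha
  exact (congrArg (Φ.toPresheafFiber (EtCoh.top X) tp (EtCoh.const X (ZMod n)).obj)
    (map_zero ((EtCore.constAdj X).unit.app M).hom)).trans (map_zero _)

end Hom

end Groth.L28.Pair.Reg
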