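import Groth.Agent.L28.Pair.RegPair
import Groth.Agent.S3364

/-!
Local cohomology of a clopen immersion.
-/

set_option autoImplicit false
set_option linter.style.haveILetI false
set_option linter.unusedSectionVars false
set_option backward.isDefEq.respectTransparency.types false

universe u

open CategoryTheory CategoryTheory.Limits AlgebraicGeometry Opposite

noncomputable section

namespace Groth.L28.Pair.RegField

variable {X U : Scheme.{u}} (j : U ⟶ X) [IsOpenImmersion j]

/-- The zeroth local cohomology sheaf is the kernel of the unit. -/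
theorem nonempty_locCoh_zero (F : EtCoh.Ab X) :
    Nonempty ((EtDual.locCoh j 0).obj F ≅ kernel (EtDual.unitApp j F)) := by
  haveI := LocCoh.preservesFiniteLimits_pull j
  haveI := AcycCrit.preservesFiniteLimits_push j
  haveI : (EtCoh.pull j).Additive := (EtCoh.pullPushAdj j).left_adjoint_additive
  haveI : PreservesFiniteLimits (EtCoh.pull j ⋙ EtCoh.push j) := comp_preservesFiniteLimits _ _
  let η : 𝟭 (EtCoh.Ab X) ⟶ EtCoh.pull j ⋙ EtCoh.push j := (EtCoh.pullPushAdj j).unit
  haveI : PreservesFiniteLimits (EtDual.secSupp j) :=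
    ((EtDual.secSupp j).preservesFiniteLimits_tfae.out 0 3 rfl rfl).1
      fun T hT => ⟨LocCoh.exact_kerComplex η T hT, LocCoh.mono_kerComplex η T hT⟩
  exact ⟨(EtDual.secSupp j).rightDerivedZeroIsoSelf.app F⟩

variable {Y : Scheme.{u}} (i : Y ⟶ X) [IsClosedImmersion i] (hU : Set.range j = (Set.range i)ᶜ)

/-- In codimension zero the closed subscheme is open. -/
theorem isOpenImmersion_of_chart {k : Type u} [Field k] (f : X ⟶ Spec (CommRingCat.of k)) [Smooth f]
    [Smooth (i ≫ f)]
    (hcodim : ∀ y : Y, ringKrullDim (X.presheaf.stalk (i y)) = ringKrullDim (Y.presheaf.stalk y) + (0 : ℕ)) :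
    IsOpenImmersion i := by
  classical
  suffices key : ∀ x : X, ∃ W : X.Opens, x ∈ W ∧ IsOpenImmersion (i ∣_ W) by
    choose O hO hq using key
    exact IsZariskiLocalAtTarget.of_iSup_eq_top (P := @IsOpenImmersion) O
      (eq_top_iff.2 fun x _ => TopologicalSpace.Opens.mem_iSup.2 ⟨x, hO x⟩) hq
  intro x
  by_cases hx : x ∈ Set.range i
  · obtain ⟨y, rfl⟩ := hx
    obtain ⟨W, m, _, _, hy⟩ := exists_pair f i 0 hcodim y
    obtain ⟨W', g, hy', -, -, sq⟩ := exists_chart m 0 (W.ι ≫ f) ((i ⁻¹ᵁ W).ι ≫ i ≫ f) (i ∣_ W) (by simp) ⟨y, hy⟩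
    haveI : IsIso (aspπ 0 (Spec (CommRingCat.of k))) := by
      show IsIso (Asp 0 (Spec (CommRingCat.of k)) ↘ Spec (CommRingCat.of k))
      infer_instance
    haveI : IsIso (zeroSec 0 (Spec (CommRingCat.of k))) := by
      have := zeroSec_over 0 (Spec (CommRingCat.of k))
      haveI : IsIso (zeroSec 0 (Spec (CommRingCat.of k)) ≫ aspπ 0 (Spec (CommRingCat.of k))) := by
        rw [this]; infer_instance
      exact IsIso.of_isIso_comp_right _ (aspπ 0 (Spec (CommRingCat.of k)))
    haveI : IsIso ((i ∣_ W) ∣_ W') := sq.isIso_fst_of_isIso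
    refine ⟨W.ι ''ᵁ W', ⟨_, hy', ?_⟩, ?_⟩
    · show W.ι ((i ∣_ W) ⟨y, hy⟩) = i y
      rw [← Scheme.Hom.comp_apply, morphismRestrict_ι]
      rfl
    · exact (MorphismProperty.arrow_mk_iso_iff @IsOpenImmersion (morphismRestrictRestrict i W W')).1 inferInstance
  · refine ⟨⟨(Set.range i)ᶜ, i.isClosedEmbedding.isClosed_range.isOpen_compl⟩, hx, ?_⟩
    haveI : IsEmpty ↥((i ⁻¹ᵁ ⟨(Set.range i)ᶜ, i.isClosedEmbedding.isClosed_range.isOpen_compl⟩ : Y.Opens) :
        Scheme.{u}) := ⟨fun z => z.2 ⟨z.1, rfl⟩⟩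
    exact IsOpenImmersion.of_isIso_stalkMap _ (Topology.IsOpenEmbedding.of_isEmpty _)

include hU in
/-- Clopen case. -/
theorem clopen [IsOpenImmersion i] (F : EtCoh.Ab X) :
    (∀ q, 0 < q → IsZero ((EtDual.locCoh j q).obj F)) ∧
      Nonempty ((EtDual.locCoh j 0).obj F ≅ (EtCoh.push i).obj ((EtCoh.pull i).obj F)) := by
  have hU' : Set.range i = (Set.range j)ᶜ := by rw [hU, compl_compl]
  haveI : IsClosedImmersion j := IsClosedImmersion.of_isPreimmersion j (by
    rw [hU]; exact i.isOpenEmbedding.isOpen_range.isClosed_compl)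
  haveI := L27.EtSite.preservesFiniteLimits_pull j
  haveI := L27.EtSite.preservesFiniteLimits_pull i
  haveI : PreservesColimitsOfSize.{0, 0} (EtCoh.pull j) := (EtCoh.pullPushAdj j).leftAdjoint_preservesColimits
  haveI : PreservesColimitsOfSize.{0, 0} (EtCoh.pull i) := (EtCoh.pullPushAdj i).leftAdjoint_preservesColimits
  haveI : (EtCoh.pull j).Additive := (EtCoh.pullPushAdj j).left_adjoint_additive
  haveI : (EtCoh.pull i).Additive := (EtCoh.pullPushAdj i).left_adjoint_additive
  haveI : IsIso ((EtCoh.pull j).map (EtDual.unitApp j F)) := isIso_pull_unit j F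
  have hz : IsZero ((EtCoh.pull i).obj ((EtCoh.push j).obj ((EtCoh.pull j).obj F))) :=
    isZero_pull_push_closed i j hU' _
  have hepi : Epi (EtDual.unitApp j F) := by
    refine Preadditive.epi_of_isZero_cokernel _ ?_
    obtain ⟨e⟩ := nonempty_iso_push_pull j i hU (cokernel (EtDual.unitApp j F))
      ((isZero_cokernel_of_epi ((EtCoh.pull j).map (EtDual.unitApp j F))).of_iso (PreservesCokernel.iso (EtCoh.pull j) _))
    refine IsZero.of_iso ((EtCoh.push i).map_isZero ?_) e
    haveI : Epi ((EtCoh.pull i).map (cokernel.π (EtDual.unitApp j F))) := inferInstance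
    exact IsZero.of_epi ((EtCoh.pull i).map (cokernel.π (EtDual.unitApp j F))) hz
  obtain ⟨⟨e₁⟩, hsucc⟩ := Groth.Agent.S6658.result j F
  refine ⟨fun q hq => ?_, ?_⟩
  · match q, hq with
    | 1, _ => exact (isZero_cokernel_of_epi (EtDual.unitApp j F)).of_iso e₁.symm
    | p + 2, _ =>
      obtain ⟨e⟩ := hsucc (p + 1) (by omega)
      exact (Groth.Agent.S3054.result j _ (p + 1) (by omega)).of_iso e.symm
  obtain ⟨e₀⟩ := nonempty_locCoh_zero j F
  obtain ⟨e⟩ := nonempty_iso_push_pull j i hU (kernel (EtDual.unitApp j F))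
    ((isZero_kernel_of_mono ((EtCoh.pull j).map (EtDual.unitApp j F))).of_iso (PreservesKernel.iso (EtCoh.pull j) _))
  exact ⟨e₀ ≪≫ e ≪≫ (EtCoh.push i).mapIso (PreservesKernel.iso (EtCoh.pull i) _ ≪≫
    kernelIsoOfEq (hz.eq_of_tgt _ 0) ≪≫ kernelZeroIsoSource)⟩

end Groth.L28.Pair.RegField
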