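import Groth.Agent.L17.AcyclicHomology
import Groth.Agent.L28.LocCoh.Shift
import Mathlib.Algebra.Homology.Refinements
import Mathlib.CategoryTheory.Abelian.Refinements

/-!
Derived functors of a complex with cohomology in degrees zero and one whose image is acyclic above
degree one.
-/

set_option autoImplicit false
set_option linter.style.haveILetI false
set_option linter.unusedSectionVars false
set_option backward.isDefEq.respectTransparency false

universe v u v' u'

open CategoryTheory CategoryTheory.Limits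
open Groth.L17.AcyclicHomology

namespace Groth.L28.Pair

section Abelian

variable {E : Type u'} [Category.{v'} E] [Abelian E]

/-- The sequence of cokernels of a composite, followed by the cokernel of the second map. -/
theorem exists_coker_seq {A₀ A₁ A₂ A₃ : E} (f : A₀ ⟶ A₁) (g : A₁ ⟶ A₂) (h : A₂ ⟶ A₃) [Mono g]
    (w : g ≫ h = 0) (hex : (ShortComplex.mk g h w).Exact) :
    ∃ (a : cokernel f ⟶ cokernel (f ≫ g)) (φ : cokernel (f ≫ g) ⟶ A₃) (c : A₃ ⟶ cokernel h) (w₁ : a ≫ φ = 0)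
      (w₂ : φ ≫ c = 0), Mono a ∧ Epi c ∧ (ShortComplex.mk a φ w₁).Exact ∧ (ShortComplex.mk φ c w₂).Exact := by
  let a : cokernel f ⟶ cokernel (f ≫ g) :=
    cokernel.desc f (g ≫ cokernel.π (f ≫ g)) (by rw [← Category.assoc, cokernel.condition])
  let φ : cokernel (f ≫ g) ⟶ A₃ := cokernel.desc (f ≫ g) h (by rw [Category.assoc, w, comp_zero])
  have hπφ : cokernel.π (f ≫ g) ≫ φ = h := cokernel.π_desc _ _ _
  have hπa : cokernel.π f ≫ a = g ≫ cokernel.π (f ≫ g) := cokernel.π_desc _ _ _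
  have w₁ : a ≫ φ = 0 := by
    rw [← cancel_epi (cokernel.π f), reassoc_of% hπa, hπφ, w, comp_zero]
  have w₂ : φ ≫ cokernel.π h = 0 := by
    rw [← cancel_epi (cokernel.π (f ≫ g)), reassoc_of% hπφ, cokernel.condition, comp_zero]
  have hfg : (ShortComplex.mk (f ≫ g) (cokernel.π (f ≫ g)) (cokernel.condition _)).Exact :=
    ShortComplex.exact_of_g_is_cokernel _ (cokernelIsCokernel _)
  refine ⟨a, φ, cokernel.π h, w₁, w₂, ?_, inferInstance, ?_, ?_⟩
  · refine Preadditive.mono_of_cancel_zero _ fun {P} x hx => ?_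
    obtain ⟨P', q, _, y, hy⟩ := surjective_up_to_refinements_of_epi (cokernel.π f) x
    have h0 : (y ≫ g) ≫ cokernel.π (f ≫ g) = 0 := by
      rw [Category.assoc, ← hπa, ← Category.assoc, ← hy, Category.assoc, hx, comp_zero]
    obtain ⟨P'', q', _, z, hz⟩ := hfg.exact_up_to_refinements (y ≫ g) h0
    have h1 : q' ≫ y = z ≫ f := (cancel_mono g).1 (by simpa only [Category.assoc] using hz)
    rw [← cancel_epi q, ← cancel_epi q', hy, comp_zero, comp_zero, ← Category.assoc, h1, Category.assoc,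
      cokernel.condition, comp_zero]
  · rw [ShortComplex.exact_iff_exact_up_to_refinements]
    intro P x hx
    obtain ⟨P', q, _, y, hy⟩ := surjective_up_to_refinements_of_epi (cokernel.π (f ≫ g)) x
    have h0 : y ≫ h = 0 := by
      rw [← hπφ, ← Category.assoc, ← hy, Category.assoc]
      exact (congrArg (q ≫ ·) hx).trans comp_zero
    obtain ⟨P'', q', _, z, hz⟩ := hex.exact_up_to_refinements y h0
    refine ⟨P'', q' ≫ q, inferInstance, z ≫ cokernel.π f, ?_⟩
    rw [Category.assoc, hy, ← Category.assoc, hz]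
    show (z ≫ g) ≫ _ = (z ≫ cokernel.π f) ≫ a
    rw [Category.assoc, Category.assoc, hπa]
  · rw [ShortComplex.exact_iff_exact_up_to_refinements]
    intro P x hx
    obtain ⟨P', q, hq, z, hz⟩ :=
      (ShortComplex.exact_of_g_is_cokernel (ShortComplex.mk h (cokernel.π h) (cokernel.condition _))
        (cokernelIsCokernel _)).exact_up_to_refinements x hx
    refine ⟨P', q, hq, z ≫ cokernel.π (f ≫ g), ?_⟩
    show q ≫ x = (z ≫ cokernel.π (f ≫ g)) ≫ φ
    rw [Category.assoc, hπφ]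
    exact hz

end Abelian

variable {D : Type u} [Category.{v} D] [Abelian D] [EnoughInjectives D]
  {E : Type u'} [Category.{v'} E] [Abelian E] (T : D ⥤ E) [T.Additive]

theorem nonempty_rightDerived_succ_iso {S : ShortComplex D} (hS : S.ShortExact) (n : ℕ)
    (h₀ : IsZero ((T.rightDerived n).obj S.X₂)) (h₁ : IsZero ((T.rightDerived (n + 1)).obj S.X₂)) :
    Nonempty ((T.rightDerived n).obj S.X₃ ≅ (T.rightDerived (n + 1)).obj S.X₁) := by
  obtain ⟨e⟩ := LocCoh.nonempty_cokernel_iso T hS n h₁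
  haveI : IsIso (cokernel.π ((T.rightDerived n).map S.g)) := cokernel.π_of_zero (h₀.eq_of_src _ _)
  exact ⟨asIso (cokernel.π ((T.rightDerived n).map S.g)) ≪≫ e⟩

theorem nonempty_cokernel_one_iso [PreservesFiniteLimits T] {S : ShortComplex D} (hS : S.ShortExact)
    (h : IsZero ((T.rightDerived 1).obj S.X₂)) :
    Nonempty (cokernel (T.map S.g) ≅ (T.rightDerived 1).obj S.X₁) := by
  obtain ⟨e⟩ := LocCoh.nonempty_cokernel_iso T hS 0 h
  exact ⟨(cokernel.mapIso ((T.rightDerived 0).map S.g) (T.map S.g) (T.rightDerivedZeroIsoSelf.app _)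
    (T.rightDerivedZeroIsoSelf.app _) (T.rightDerivedZeroIsoSelf.hom.naturality S.g)).symm ≪≫ e⟩

variable [PreservesFiniteLimits T] (K : CochainComplex D ℕ) (hX : ∀ n, Acyclic T (K.X n))

/-- The cohomology of the image, as a cokernel. -/
theorem nonempty_homology_map_iso (n : ℕ) :
    Nonempty (((T.mapHomologicalComplex _).obj K).homology (n + 1) ≅ cokernel (T.map (t K n))) := by
  let K' := (T.mapHomologicalComplex _).obj K
  let e : Z K' (n + 1) ≅ T.obj (Z K (n + 1)) := (PreservesKernel.iso T (K.d (n + 1) (n + 1 + 1))).symm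
  refine ⟨homologyIso K' n ≪≫ cokernel.mapIso (t K' n) (T.map (t K n)) (Iso.refl _) e ?_⟩
  rw [Iso.refl_hom]
  refine Eq.trans ?_ (Category.id_comp _).symm
  refine (Iso.eq_comp_inv _).1 ?_
  rw [← cancel_mono (kernel.ι (K'.d (n + 1) (n + 1 + 1)))]
  simp [e, K', t]
  exact (kernel.lift_ι _ _ _).symm

include hX in
/-- The first cocycles are acyclic. -/
theorem acyclic_Z_one (h₂ : ∀ n, 2 ≤ n → IsZero (K.homology n))
    (hT₂ : ∀ n, 2 ≤ n → IsZero (((T.mapHomologicalComplex _).obj K).homology n)) : Acyclic T (Z K 1) := by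
  suffices key : ∀ q n, 1 ≤ n → IsZero ((T.rightDerived (q + 1)).obj (Z K n)) from fun q => key q 1 le_rfl
  intro q
  induction q with
  | zero =>
    intro n hn
    have hseq := shortExact₁ K n
    haveI := mono_m K n
    haveI : IsIso (m K n) := by
      haveI : Epi (m K n) := (shortExact₂ K n).exact.epi_f
        (((h₂ (n + 1) (by omega)).of_iso (homologyIso K n).symm).eq_of_tgt _ _)
      exact isIso_of_mono_of_epi _
    obtain ⟨e⟩ := nonempty_cokernel_one_iso T hseq (hX n 0)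
    obtain ⟨e'⟩ := nonempty_homology_map_iso T K n
    refine (hT₂ (n + 1) (by omega)).of_iso (e.symm ≪≫ ?_ ≪≫ e'.symm)
    refine cokernel.mapIso _ _ (Iso.refl _) (T.mapIso (asIso (m K n))) ?_
    rw [Iso.refl_hom, Category.id_comp, Functor.mapIso_hom, asIso_hom, ← T.map_comp]
    exact congrArg T.map (cokernel.π_desc _ _ _)
  | succ q ih =>
    intro n hn
    haveI := mono_m K n
    haveI : IsIso (m K n) := by
      haveI : Epi (m K n) := (shortExact₂ K n).exact.epi_f
        (((h₂ (n + 1) (by omega)).of_iso (homologyIso K n).symm).eq_of_tgt _ _)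
      exact isIso_of_mono_of_epi _
    obtain ⟨e⟩ := nonempty_rightDerived_succ_iso T (shortExact₁ K n) (q + 1) (hX n q) (hX n (q + 1))
    exact (ih (n + 1) (by omega)).of_iso (e.symm ≪≫ (T.rightDerived (q + 1)).mapIso (asIso (m K n)))

include hX in
/-- Degeneration of a complex with two cohomology objects. -/
theorem two_row (h₂ : ∀ n, 2 ≤ n → IsZero (K.homology n))
    (hT₂ : ∀ n, 2 ≤ n → IsZero (((T.mapHomologicalComplex _).obj K).homology n)) :
    (∀ p, 1 ≤ p → Nonempty ((T.rightDerived p).obj (K.homology 1) ≅ (T.rightDerived (p + 2)).obj (K.homology 0))) ∧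
    ∃ (a : (T.rightDerived 1).obj (K.homology 0) ⟶ ((T.mapHomologicalComplex _).obj K).homology 1)
      (φ : ((T.mapHomologicalComplex _).obj K).homology 1 ⟶ T.obj (K.homology 1))
      (c : T.obj (K.homology 1) ⟶ (T.rightDerived 2).obj (K.homology 0)) (w₁ : a ≫ φ = 0) (w₂ : φ ≫ c = 0),
      Mono a ∧ Epi c ∧ (ShortComplex.mk a φ w₁).Exact ∧ (ShortComplex.mk φ c w₂).Exact := by
  have hZ := acyclic_Z_one T K hX h₂ hT₂
  obtain ⟨eA⟩ := nonempty_homology_zero_iso K
  let eB : K.homology 1 ≅ cokernel (t K 0) := homologyIso K 0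
  have s₁ := shortExact₁ K 0
  have s₂ := shortExact₂ K 0
  refine ⟨fun p hp => ?_, ?_⟩
  · obtain ⟨q, rfl⟩ : ∃ q, p = q + 1 := ⟨p - 1, by omega⟩
    obtain ⟨e₁⟩ := nonempty_rightDerived_succ_iso T s₂ (q + 1) (hZ q) (hZ (q + 1))
    obtain ⟨e₂⟩ := nonempty_rightDerived_succ_iso T s₁ (q + 2) (hX 0 (q + 1)) (hX 0 (q + 2))
    exact ⟨(T.rightDerived (q + 1)).mapIso eB ≪≫ e₁ ≪≫ e₂ ≪≫ (T.rightDerived (q + 3)).mapIso eA.symm⟩
  let f := T.map (cokernel.π (kernel.ι (K.d 0 (0 + 1))))
  let g := T.map (m K 0)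
  let h := T.map (cokernel.π (t K 0))
  haveI := mono_m K 0
  haveI : Mono g := inferInstanceAs (Mono (T.map (m K 0)))
  have wm : m K 0 ≫ cokernel.π (t K 0) = 0 := by
    rw [← cancel_epi (cokernel.π (kernel.ι (K.d 0 (0 + 1))))]; simp [m]
  have w : g ≫ h = 0 := by rw [← T.map_comp, wm, T.map_zero]
  have hex : (ShortComplex.mk g h w).Exact :=
    ShortComplex.exact_of_f_is_kernel _ (KernelFork.mapIsLimit _ s₂.fIsKernel T)
  obtain ⟨a, φ, c, w₁, w₂, ha, hc, e₁, e₂⟩ := exists_coker_seq f g h w hex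
  obtain ⟨i₁⟩ := nonempty_cokernel_one_iso T s₁ (hX 0 0)
  obtain ⟨i₂⟩ := nonempty_cokernel_one_iso T s₂ (hZ 0)
  obtain ⟨i₃⟩ := nonempty_rightDerived_succ_iso T s₁ 1 (hX 0 0) (hX 0 1)
  obtain ⟨iH⟩ := nonempty_homology_map_iso T K 0
  have hfg : f ≫ g = T.map (t K 0) := by
    rw [← T.map_comp]; exact congrArg T.map (cokernel.π_desc _ _ _)
  let jA : cokernel f ≅ (T.rightDerived 1).obj (K.homology 0) := i₁ ≪≫ (T.rightDerived 1).mapIso eA.symm
  let jH : cokernel (f ≫ g) ≅ ((T.mapHomologicalComplex _).obj K).homology 1 :=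
    cokernelIsoOfEq hfg ≪≫ iH.symm
  let jB : T.obj (cokernel (t K 0)) ≅ T.obj (K.homology 1) := T.mapIso eB.symm
  let jC : cokernel h ≅ (T.rightDerived 2).obj (K.homology 0) := i₂ ≪≫ i₃ ≪≫ (T.rightDerived 2).mapIso eA.symm
  refine ⟨jA.inv ≫ a ≫ jH.hom, jH.inv ≫ φ ≫ jB.hom, jB.inv ≫ c ≫ jC.hom, by simp [reassoc_of% w₁],
    by simp [reassoc_of% w₂], inferInstance, inferInstance, ?_, ?_⟩
  · exact (ShortComplex.exact_iff_of_iso (ShortComplex.isoMk jA jH jB (by simp) (by simp))).1 e₁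
  · exact (ShortComplex.exact_iff_of_iso (ShortComplex.isoMk jH jB jC (by simp) (by simp))).1 e₂

end Groth.L28.Pair
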